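import Cfsg.Agent.PermutationGroups.PSBochert

set_option autoImplicit false

namespace Cfsg.Agent.PermutationGroups.OrderBound.Bochert

open MulAction

/-- Bochert's bound. -/
theorem bochert {α : Type*} [Fintype α] [DecidableEq α] (G : Subgroup (Equiv.Perm α))
    (hprim : IsPreprimitive G α) (hA : ¬ alternatingGroup α ≤ G) :
    Nat.card G * ((Fintype.card α + 1) / 2).factorial ≤ (Fintype.card α).factorial :=
  Cfsg.Agent.PermutationGroups.PSBochert.bochert G hprim hA

/-- The bound `4 ^ n` for `n ≤ 21`. -/
theorem small {α : Type*} [Fintype α] [DecidableEq α] (G : Subgroup (Equiv.Perm α))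
    (hprim : IsPreprimitive G α) (hA : ¬ alternatingGroup α ≤ G) (hn : Fintype.card α ≤ 21) :
    Nat.card G ≤ 4 ^ Fintype.card α :=
  Cfsg.Agent.PermutationGroups.PSBochert.card_le_four_pow G hprim hA (Or.inl hn)

end Cfsg.Agent.PermutationGroups.OrderBound.Bochert
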