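import Mathlib

/-!
# Order bound for primitive groups (S0725): shared definitions

`vseq n v0 A` is the sequence `v_0 = v0`, `v_{t+1} = v_t * A t / (n - t - 1)`.
The potential lemma gives `|G| ≤ ∏_{t < n} (1 + v_t)`.
`UB m d` is the bound for primitive groups of degree `m` which are not 2-transitive,
`IB m b c` the bound for 2-transitive groups of degree `m` with imprimitive point stabilisers
(blocks of size `b`, weight `c`).
-/

set_option autoImplicit false

namespace Cfsg.Agent.PermutationGroups.OrderBound.Defs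

/-- `z ∈ disting G x y`: the points `x`, `y` are in different orbits of the stabilizer of `z`. -/
def disting (G : Type*) {X : Type*} [Group G] [MulAction G X] (x y : X) : Set X :=
  {z | ¬ ∃ g : G, g • z = z ∧ g • x = y}

/-- the least `d` with `m - 1 ≤ d * (d - 1)`. -/
def dmin (m : ℕ) : ℕ := (Nat.sqrt (4 * m - 4) + 3) / 2

/-- `v_0 = v0`, `v_{t+1} = v_t * A t / (n - t - 1)`. -/
noncomputable def vseq (n : ℕ) (v0 : ℝ) (A : ℕ → ℝ) : ℕ → ℝ
  | 0 => v0
  | (t + 1) => vseq n v0 A t * A t / ((n - t - 1 : ℕ) : ℝ)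

/-- bound for primitive, not 2-transitive, degree `m`, all distinguishing sets of size `≥ d`. -/
noncomputable def UB (m d : ℕ) : ℝ :=
  ∏ t ∈ Finset.range m, (1 + vseq m ((m : ℝ) - 1) (fun t => ((m - t - d : ℕ) : ℝ)) t)

/-- the step factors in the imprimitive case. -/
noncomputable def AI (m b c t : ℕ) : ℝ :=
  if t < b then
    max ((m - t - max (2 * b) (t + 3 - b) : ℕ) : ℝ)
      (((b - 1 - t : ℕ) : ℝ) + ((m - 1 - b : ℕ) : ℝ) / (c : ℝ))
  else ((m - t - max (2 * b) (t + 3 - b) : ℕ) : ℝ)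

/-- bound for 2-transitive, degree `m`, point stabilisers with blocks of size `b`. -/
noncomputable def IB (m b c : ℕ) : ℝ :=
  ∏ t ∈ Finset.range m, (1 + vseq m ((c : ℝ) * ((m : ℝ) - 1)) (AI m b c) t)

/-- the conditions on the degree of transitivity coming from primes. -/
def Kcond (n j : ℕ) : Prop :=
  ∀ p q : ℕ, p.Prime → 5 ≤ p → (q = 1 ∨ q = 2) → q * p + 3 ≤ n → n < (q + 1) * p → j + q * p ≤ n

/-- the conditions on the degree of transitivity coming from weighted cycles. -/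
def Wcond (n j : ℕ) : Prop :=
  ∀ m : ℕ, 2 ≤ m → 2 * m ^ 2 ≤ j → (Nat.centralBinom m) ^ (4 * m ^ 2 - 2) ≤ n ^ n

/-- the final numerical statement for degree `n` and degree of transitivity `j`. -/
def Good (n j : ℕ) : Prop :=
  (n.descFactorial (j - 1) : ℝ) * UB (n - j + 1) (dmin (n - j + 1)) ≤ 4 ^ n ∧
  (2 ≤ j → ∀ b, 2 ≤ b → 2 * b ≤ n - j + 1 → b ∣ n - j + 1 →
    ∃ c : ℕ, 1 ≤ c ∧ (n.descFactorial (j - 2) : ℝ) * IB (n - j + 2) b c ≤ 4 ^ n)

theorem vseq_zero (n : ℕ) (v0 : ℝ) (A : ℕ → ℝ) : vseq n v0 A 0 = v0 := rfl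

theorem vseq_succ (n : ℕ) (v0 : ℝ) (A : ℕ → ℝ) (t : ℕ) :
    vseq n v0 A (t + 1) = vseq n v0 A t * A t / ((n - t - 1 : ℕ) : ℝ) := rfl

end Cfsg.Agent.PermutationGroups.OrderBound.Defs
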