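import Mathlib
import Cfsg.Agent.PermutationGroups.OrderBound.Defs
import Cfsg.Agent.PermutationGroups.PSTransTwo

/-!
(K2) the bound on the degree of transitivity from weighted cycles, in terms of the central
binomial coefficient. The proof is helper406's (`PSTransTwo`).
-/

set_option autoImplicit false

namespace Cfsg.Agent.PermutationGroups.OrderBound.CycleWeights

open Cfsg.Agent.PermutationGroups.OrderBound.Defs MulAction
open Cfsg.Agent.PermutationGroups.PSTransTwo

theorem cycle_weights {α : Type*} [Fintype α] [DecidableEq α] (G : Subgroup (Equiv.Perm α))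
    (hA : ¬ alternatingGroup α ≤ G) (m : ℕ) (hm : 2 ≤ m) (hmn : 2 * m ^ 2 ≤ Fintype.card α)
    (htr : IsMultiplyPretransitive G α (2 * m ^ 2)) :
    (Nat.centralBinom m) ^ (4 * m ^ 2 - 2) ≤ (Fintype.card α) ^ (Fintype.card α) := by
  classical
  set B := Nat.centralBinom m with hB
  have hBpos : 0 < B := Nat.centralBinom_pos m
  have hm2 : 4 ≤ m ^ 2 := by nlinarith
  obtain ⟨g, hgG, hg⟩ := exists_cycles G hmn htr B.primeFactors (fun p => p ^ B.factorization p)
    (fun p hp => pow_pos (Nat.prime_of_mem_primeFactors hp).pos _)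
    (sum_pow_le m (by omega))
  set N := orderOf g with hN
  have hNpos : 0 < N := orderOf_pos g
  -- the prime powers divide the order
  have hdvd : ∀ p ∈ B.primeFactors, p ^ B.factorization p ∣ N := by
    intro p hp
    obtain ⟨x, hx⟩ := hg p hp
    rw [← hx N, hN, pow_orderOf_eq_one]
    rfl
  have hpN : ∀ p ∈ B.primeFactors, p ∣ N := by
    intro p hp
    refine (dvd_pow_self p ?_).trans (hdvd p hp)
    have h1 := Nat.prime_of_mem_primeFactors hp
    exact (h1.factorization_pos_of_dvd hBpos.ne' (Nat.dvd_of_mem_primeFactors hp)).ne'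
  -- supports
  have hsupp : ∀ p ∈ B.primeFactors, 4 * m ^ 2 - 2 ≤ (g ^ (N / p)).support.card := by
    intro p hp
    have hpp := Nat.prime_of_mem_primeFactors hp
    by_contra hcon
    push Not at hcon
    apply hA
    refine (Cfsg.Agent.S0711.result G (k := 2 * m ^ 2) (by omega) hmn htr (g ^ (N / p))
      (G.pow_mem hgG _) ?_ ?_).2
    · intro h1
      have h2 : N ∣ N / p := orderOf_dvd_of_pow_eq_one h1
      have h3 : 0 < N / p := Nat.div_pos (Nat.le_of_dvd hNpos (hpN p hp)) hpp.pos
      have h4 := Nat.le_of_dvd h3 h2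
      have h5 : N / p < N := Nat.div_lt_self hNpos hpp.one_lt
      omega
    · have : 2 * (2 * m ^ 2) = 4 * m ^ 2 := by ring
      omega
  -- cycle lengths
  let ell : α → ℕ := fun x => Function.minimalPeriod g x
  have hellpos : ∀ x, 0 < ell x := by
    intro x
    apply Function.IsPeriodicPt.minimalPeriod_pos hNpos
    show (g : α → α)^[N] x = x
    rw [← Equiv.Perm.coe_pow, hN, pow_orderOf_eq_one]
    rfl
  have hellle : ∀ x, ell x ≤ Fintype.card α := by
    intro x
    exact Function.minimalPeriod_le_card
  have helldvd : ∀ x, ∀ p ∈ B.primeFactors, x ∈ (g ^ (N / p)).support →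
      p ^ B.factorization p ∣ ell x := by
    intro x p hp hx
    have hpp := Nat.prime_of_mem_primeFactors hp
    have h1 : ell x ∣ N := by
      apply Function.IsPeriodicPt.minimalPeriod_dvd
      show (g : α → α)^[N] x = x
      rw [← Equiv.Perm.coe_pow, hN, pow_orderOf_eq_one]
      rfl
    have h2 : ¬ ell x ∣ N / p := by
      intro h
      rw [Equiv.Perm.mem_support] at hx
      apply hx
      have h3 : Function.IsPeriodicPt g (N / p) x :=
        (Function.isPeriodicPt_minimalPeriod g x).trans_dvd h
      have h4 : (g : α → α)^[N / p] x = x := h3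
      rwa [← Equiv.Perm.coe_pow] at h4
    -- valuations
    obtain ⟨c, hc⟩ := h1
    have hNe : N ≠ 0 := hNpos.ne'
    have hcp : ¬ p ∣ c := by
      rintro ⟨d, rfl⟩
      apply h2
      refine ⟨d, ?_⟩
      rw [hc, mul_left_comm, Nat.mul_div_cancel_left _ hpp.pos]
    have hcop : Nat.Coprime (p ^ B.factorization p) c :=
      Nat.Coprime.pow_left _ ((Nat.Prime.coprime_iff_not_dvd hpp).mpr hcp)
    have h5 := hdvd p hp
    rw [hc] at h5
    exact hcop.dvd_of_dvd_mul_right h5
  -- the product over the points
  have hprodx : ∀ x, ∏ p ∈ B.primeFactors.filter (fun p => x ∈ (g ^ (N / p)).support),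
      p ^ B.factorization p ≤ Fintype.card α := by
    intro x
    refine le_trans (Nat.le_of_dvd (hellpos x) ?_) (hellle x)
    apply Finset.prod_dvd_of_isRelPrime
    · intro p hp r hr hpr
      rw [Finset.mem_coe, Finset.mem_filter] at hp hr
      exact Nat.coprime_iff_isRelPrime.mp
        (Nat.Coprime.pow _ _ ((Nat.coprime_primes (Nat.prime_of_mem_primeFactors hp.1)
          (Nat.prime_of_mem_primeFactors hr.1)).mpr hpr))
    · intro p hp
      rw [Finset.mem_filter] at hp
      exact helldvd x p hp.1 hp.2
  have hswap : ∏ x : α, ∏ p ∈ B.primeFactors.filter (fun p => x ∈ (g ^ (N / p)).support),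
      p ^ B.factorization p
      = ∏ p ∈ B.primeFactors, (p ^ B.factorization p) ^ (g ^ (N / p)).support.card := by
    have h1 : ∀ x : α, ∏ p ∈ B.primeFactors.filter (fun p => x ∈ (g ^ (N / p)).support),
        p ^ B.factorization p = ∏ p ∈ B.primeFactors,
          if x ∈ (g ^ (N / p)).support then p ^ B.factorization p else 1 := by
      intro x
      rw [Finset.prod_filter]
    simp_rw [h1]
    rw [Finset.prod_comm]
    apply Finset.prod_congr rfl
    intro p _
    rw [Finset.prod_ite_mem, Finset.univ_inter, Finset.prod_const]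
  have hBs : B ^ (4 * m ^ 2 - 2) ≤ (Fintype.card α) ^ (Fintype.card α) := by
    calc B ^ (4 * m ^ 2 - 2)
        = (∏ p ∈ B.primeFactors, p ^ B.factorization p) ^ (4 * m ^ 2 - 2) := by
          congr 1
          exact (Nat.prod_factorization_pow_eq_self hBpos.ne').symm
      _ = ∏ p ∈ B.primeFactors, (p ^ B.factorization p) ^ (4 * m ^ 2 - 2) := by
          rw [Finset.prod_pow]
      _ ≤ ∏ p ∈ B.primeFactors, (p ^ B.factorization p) ^ (g ^ (N / p)).support.card := by
          apply Finset.prod_le_prod'
          intro p hp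
          exact Nat.pow_le_pow_right (pow_pos (Nat.prime_of_mem_primeFactors hp).pos _)
            (hsupp p hp)
      _ = ∏ x : α, ∏ p ∈ B.primeFactors.filter (fun p => x ∈ (g ^ (N / p)).support),
            p ^ B.factorization p := hswap.symm
      _ ≤ ∏ _x : α, Fintype.card α := Finset.prod_le_prod' fun x _ => hprodx x
      _ = (Fintype.card α) ^ (Fintype.card α) := by
          rw [Finset.prod_const, Finset.card_univ]
  exact hBs

end Cfsg.Agent.PermutationGroups.OrderBound.CycleWeights
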