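import Cfsg.Agent.PermutationGroups.OrderBound.Defs
import Cfsg.Agent.PermutationGroups.PSPotential

/-! (P): the potential lemma in the normalisation of the skeleton. -/

set_option autoImplicit false

namespace Cfsg.Agent.PermutationGroups.OrderBound.Potential

open Cfsg.Agent.PermutationGroups.OrderBound.Defs MulAction

theorem card_le_prod {G X : Type*} [Group G] [MulAction G X] [FaithfulSMul G X] [Fintype X]
    [DecidableEq X] (w : Finset X → ℝ) (A : ℕ → ℝ) (hA : ∀ t, 0 ≤ A t)
    (hu : ∀ T : Finset X, (Nat.card {p : X × X // p.1 ≠ p.2 ∧ p.1 ∉ T ∧ p.2 ∉ T ∧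
      ∃ g ∈ fixingSubgroup G (T : Set X), g • p.1 = p.2} : ℝ) ≤ w T)
    (hw : ∀ T : Finset X, ∑ z ∈ Tᶜ, w (insert z T) ≤ A T.card * w T) :
    (Nat.card G : ℝ) ≤ ∏ t ∈ Finset.range (Fintype.card X),
      (1 + vseq (Fintype.card X) (w ∅ / Fintype.card X) A t) := by
  set n := Fintype.card X with hn
  set a : ℕ → ℝ := fun t => if t < n then A t / ((n : ℝ) - t) else 0 with ha
  set W : ℕ → ℝ := fun t => w ∅ * ∏ i ∈ Finset.range t, a i with hW
  have hnt : ∀ t, t < n → (0 : ℝ) < (n : ℝ) - t := by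
    intro t ht
    have : (t : ℝ) < (n : ℝ) := by exact_mod_cast ht
    linarith
  have ha0 : ∀ t, 0 ≤ a t := by
    intro t
    show 0 ≤ (if t < n then A t / ((n : ℝ) - t) else 0)
    split_ifs with h
    · exact div_nonneg (hA t) (hnt t h).le
    · exact le_rfl
  have hWs : ∀ t, W (t + 1) = a t * W t := by
    intro t
    show w ∅ * ∏ i ∈ Finset.range (t + 1), a i = a t * (w ∅ * ∏ i ∈ Finset.range t, a i)
    rw [Finset.prod_range_succ]
    ring
  have key := PSPotential.card_le_prod (G := G) w a W ha0 (by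
      intro T
      refine le_trans (le_of_eq ?_) (hu T)
      congr 1
      apply Nat.card_congr
      apply Equiv.subtypeEquivRight
      intro p
      constructor
      · rintro ⟨h1, h2, h3, g, hg⟩
        exact ⟨h3, h1, h2, g, g.2, hg⟩
      · rintro ⟨h3, h1, h2, g, hg, hgp⟩
        exact ⟨h1, h2, h3, ⟨g, hg⟩, hgp⟩) (by
      intro T hT
      refine (hw T).trans (le_of_eq ?_)
      have h1 : a T.card = A T.card / ((n : ℝ) - T.card) := if_pos hT
      rw [h1, ← hn, ← mul_assoc, mul_div_cancel₀ _ (hnt _ hT).ne']) (by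
      show w ∅ ≤ w ∅ * ∏ i ∈ Finset.range 0, a i
      rw [Finset.prod_range_zero, mul_one]) hWs
  refine key.trans (le_of_eq ?_)
  apply Finset.prod_congr rfl
  intro t ht
  rw [Finset.mem_range, ← hn] at ht
  congr 1
  rw [← hn]
  induction t with
  | zero =>
    rw [vseq_zero]
    have h0 : W 0 = w ∅ := by
      show w ∅ * ∏ i ∈ Finset.range 0, a i = w ∅
      rw [Finset.prod_range_zero, mul_one]
    rw [h0, Nat.cast_zero, sub_zero]
  | succ t ih =>
    have ih' := ih (by omega)
    have h0 := (hnt t (by omega)).ne'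
    have h1 : a t = A t / ((n : ℝ) - t) := if_pos (by omega)
    have h2 : ((n - t - 1 : ℕ) : ℝ) = (n : ℝ) - ((t + 1 : ℕ) : ℝ) := by
      rw [Nat.sub_sub, Nat.cast_sub (by omega)]
    rw [vseq_succ, ← ih', hWs, h1, h2]
    field_simp

end Cfsg.Agent.PermutationGroups.OrderBound.Potential
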