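import Cfsg.Agent.PermutationGroups.OrderBound.Defs
import Cfsg.Agent.PermutationGroups.OrderBound.Potential

/-! (I): 2-transitive groups with imprimitive point stabilisers. -/

set_option autoImplicit false

namespace Cfsg.Agent.PermutationGroups.OrderBound.ImprimStab

open MulAction Cfsg.Agent.PermutationGroups.OrderBound.Defs

/-- A `G`-equivariant family of equivalence relations `r a` on `X ∖ {a}` with classes of size
`b`, such that each pair of distinct points is related for exactly `b - 1` points `a`. -/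
structure Family (G : Type*) {X : Type*} [Group G] [MulAction G X] (b : ℕ) (r : X → X → X → Prop) :
    Prop where
  equiv : ∀ (g : G) (z x y : X), r (g • z) (g • x) (g • y) ↔ r z x y
  ne : ∀ z x y : X, r z x y → x ≠ z
  symm : ∀ z x y : X, r z x y → r z y x
  refl : ∀ z x : X, x ≠ z → r z x x
  trans : ∀ z x y w : X, r z x y → r z y w → r z x w
  card_class : ∀ z x : X, x ≠ z → {y | r z x y}.ncard = b
  card_bad : ∀ x y : X, x ≠ y → {z | r z x y}.ncard = b - 1

section Exists

variable {G X : Type*} [Group G] [MulAction G X] [Fintype X]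

theorem exists_block (a : X)
    (htr : IsPretransitive (stabilizer G a) (SubMulAction.ofStabilizer G a))
    (himp : ¬ IsPreprimitive (stabilizer G a) (SubMulAction.ofStabilizer G a)) :
    ∃ B : Set X, a ∉ B ∧ (∀ k : G, k • a = a → ∀ y ∈ B, k • y ∈ B → ∀ w ∈ B, k • w ∈ B) ∧
      2 ≤ B.ncard ∧ 2 * B.ncard ≤ Fintype.card X - 1 ∧ B.ncard ∣ Fintype.card X - 1 := by
  classical
  obtain ⟨B, hB, hBns, hBu⟩ : ∃ B : Set (SubMulAction.ofStabilizer G a),
      IsBlock (stabilizer G a) B ∧ ¬ B.Subsingleton ∧ B ≠ Set.univ := by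
    by_contra hcon
    push Not at hcon
    apply himp
    refine { isTrivialBlock_of_isBlock := ?_ }
    intro B hB
    by_cases h1 : B.Subsingleton
    · exact Or.inl h1
    · exact Or.inr (hcon B hB (Set.not_subsingleton_iff.mp h1))
  rw [Set.not_subsingleton_iff] at hBns
  have hfin : Finite (SubMulAction.ofStabilizer G a) := Subtype.finite
  have hcard : (Subtype.val '' B : Set X).ncard = B.ncard :=
    Set.ncard_image_of_injective _ Subtype.val_injective
  have h1lt : 1 < B.ncard := (Set.one_lt_ncard).mpr hBns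
  have hdvd : B.ncard ∣ Fintype.card X - 1 := by
    have h1 := hB.ncard_dvd_card hBns.nonempty
    rwa [SubMulAction.nat_card_ofStabilizer_eq, Nat.card_eq_fintype_card] at h1
  have hlt : B.ncard < Fintype.card X - 1 := by
    rw [← Nat.card_eq_fintype_card, ← SubMulAction.nat_card_ofStabilizer_eq G a]
    have h1 : B.ncard ≤ Nat.card (SubMulAction.ofStabilizer G a) := by
      rw [← Set.ncard_univ]
      exact Set.ncard_le_ncard (Set.subset_univ _) Set.finite_univ
    rcases Nat.lt_or_ge B.ncard (Nat.card (SubMulAction.ofStabilizer G a)) with h | h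
    · exact h
    · exfalso
      apply hBu
      rw [Set.eq_univ_iff_ncard]
      exact le_antisymm h1 h
  refine ⟨Subtype.val '' B, SubMulAction.notMem_val_image G B, ?_, ?_, ?_, ?_⟩
  · rintro k hk _ ⟨y, hy, rfl⟩ ⟨y', hy', hyy'⟩ _ ⟨w, hw, rfl⟩
    have hks : k ∈ stabilizer G a := hk
    have h1 : (⟨k, hks⟩ : stabilizer G a) • y ∈ B := by
      have : (⟨k, hks⟩ : stabilizer G a) • y = y' := Subtype.ext hyy'.symm
      rw [this]; exact hy'
    have h2 := hB.smul_eq_of_mem hy h1
    refine ⟨(⟨k, hks⟩ : stabilizer G a) • w, ?_, rfl⟩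
    rw [← h2]
    exact Set.smul_mem_smul_set hw
  · rw [hcard]; omega
  · rw [hcard]
    obtain ⟨k, hk⟩ := hdvd
    rw [hk] at hlt ⊢
    have : 1 < k := by
      by_contra hcon
      have : k ≤ 1 := by omega
      have := Nat.mul_le_mul_left B.ncard this
      omega
    have := Nat.mul_le_mul_left B.ncard this
    omega
  · rw [hcard]; exact hdvd

open Classical in
theorem exists_family
    (h2 : ∀ a b c d : X, a ≠ b → c ≠ d → ∃ g : G, g • a = c ∧ g • b = d) (a : X)
    (htr : IsPretransitive (stabilizer G a) (SubMulAction.ofStabilizer G a))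
    (himp : ¬ IsPreprimitive (stabilizer G a) (SubMulAction.ofStabilizer G a)) :
    ∃ (b : ℕ) (r : X → X → X → Prop), Family G b r ∧ 2 ≤ b ∧ 2 * b ≤ Fintype.card X - 1 ∧
      b ∣ Fintype.card X - 1 := by
  obtain ⟨B, haB, hblk, hB2, hB2b, hBd⟩ := exists_block a htr himp
  obtain ⟨b0, hb0⟩ : B.Nonempty := by
    rw [← Set.ncard_pos (Set.toFinite _)]; omega
  have hb0a : b0 ≠ a := fun h => haB (h ▸ hb0)
  set r : X → X → X → Prop := fun z x y => ∃ g : G, g • a = z ∧ g⁻¹ • x ∈ B ∧ g⁻¹ • y ∈ B with hr
  -- transfer between two representatives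
  have htrans : ∀ (g h : G) (y : X), g • a = h • a → g⁻¹ • y ∈ B → h⁻¹ • y ∈ B →
      ∀ w, g⁻¹ • w ∈ B → h⁻¹ • w ∈ B := by
    intro g h y hgh hy1 hy2 w hw
    have h1 : (h⁻¹ * g) • a = a := by rw [mul_smul, hgh, inv_smul_smul]
    have h3 := hblk (h⁻¹ * g) h1 (g⁻¹ • y) hy1 (by
      rw [mul_smul, smul_inv_smul]; exact hy2) (g⁻¹ • w) hw
    rwa [mul_smul, smul_inv_smul] at h3
  have requiv : ∀ (g : G) (z x y : X), r (g • z) (g • x) (g • y) ↔ r z x y := by
    intro g z x y
    constructor
    · rintro ⟨k, h1, h3, h4⟩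
      refine ⟨g⁻¹ * k, ?_, ?_, ?_⟩
      · rw [mul_smul, h1, inv_smul_smul]
      · rw [mul_inv_rev, inv_inv, mul_smul]; exact h3
      · rw [mul_inv_rev, inv_inv, mul_smul]; exact h4
    · rintro ⟨k, h1, h3, h4⟩
      refine ⟨g * k, ?_, ?_, ?_⟩
      · rw [mul_smul, h1]
      · rw [mul_inv_rev, mul_smul, inv_smul_smul]; exact h3
      · rw [mul_inv_rev, mul_smul, inv_smul_smul]; exact h4
  have rne : ∀ z x y : X, r z x y → x ≠ z := by
    rintro z x y ⟨g, h1, h3, -⟩ rfl
    apply haB
    rw [← h1, inv_smul_smul] at h3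
    exact h3
  have rsymm : ∀ z x y : X, r z x y → r z y x := by
    rintro z x y ⟨g, h1, h3, h4⟩
    exact ⟨g, h1, h4, h3⟩
  have rrefl : ∀ z x : X, x ≠ z → r z x x := by
    intro z x hxz
    obtain ⟨g, h1, h3⟩ := h2 a b0 z x hb0a.symm hxz.symm
    have : g⁻¹ • x ∈ B := by rw [← h3, inv_smul_smul]; exact hb0
    exact ⟨g, h1, this, this⟩
  have rtrans : ∀ z x y w : X, r z x y → r z y w → r z x w := by
    rintro z x y w ⟨g, h1, h3, h4⟩ ⟨k, h5, h6, h7⟩
    exact ⟨k, h5, htrans g k y (h1.trans h5.symm) h4 h6 x h3, h7⟩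
  have rclass : ∀ z x : X, x ≠ z → {y | r z x y}.ncard = B.ncard := by
    intro z x hxz
    obtain ⟨g, h1, h3, -⟩ := rrefl z x hxz
    have : {y | r z x y} = (fun y => g • y) '' B := by
      ext y
      constructor
      · rintro ⟨k, h5, h6, h7⟩
        exact ⟨g⁻¹ • y, htrans k g x (h5.trans h1.symm) h6 h3 y h7, smul_inv_smul _ _⟩
      · rintro ⟨y', hy', rfl⟩
        exact ⟨g, h1, h3, by change g⁻¹ • g • y' ∈ B; rw [inv_smul_smul]; exact hy'⟩
    rw [this, Set.ncard_image_of_injective _ (MulAction.injective g)]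
  -- counting the bad points
  have hbadinv : ∀ (g : G) (x y : X), {z | r z (g • x) (g • y)}.ncard = {z | r z x y}.ncard := by
    intro g x y
    have : {z | r z (g • x) (g • y)} = (fun z => g • z) '' {z | r z x y} := by
      ext z
      constructor
      · intro hz
        refine ⟨g⁻¹ • z, ?_, smul_inv_smul _ _⟩
        change r (g⁻¹ • z) x y
        rw [← requiv g, smul_inv_smul]
        exact hz
      · rintro ⟨z', hz', rfl⟩
        exact (requiv g z' x y).mpr hz'
    rw [this, Set.ncard_image_of_injective _ (MulAction.injective g)]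
  have hbadconst : ∀ x y x' y' : X, x ≠ y → x' ≠ y' →
      {z | r z x y}.ncard = {z | r z x' y'}.ncard := by
    intro x y x' y' hxy hxy'
    obtain ⟨g, h1, h3⟩ := h2 x y x' y' hxy hxy'
    rw [← hbadinv g x y, h1, h3]
  have hncard : ∀ P : X → Prop, {z | P z}.ncard = (Finset.univ.filter P).card := by
    intro P
    rw [← Set.ncard_coe_finset]
    congr 1
    ext z
    simp
  have hbad : ∀ x y : X, x ≠ y → {z | r z x y}.ncard = B.ncard - 1 := by
    intro x y hxy
    set β := {z | r z x y}.ncard with hβ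
    set R : Finset (X × X) := Finset.univ.filter (fun p => p.1 ≠ p.2) with hR
    have hRcard : R.card = Fintype.card X * (Fintype.card X - 1) := by
      rw [hR, Finset.card_filter, Fintype.sum_prod_type]
      have : ∀ u : X, (∑ w : X, if u ≠ w then 1 else 0) = Fintype.card X - 1 := by
        intro u
        rw [← Finset.card_filter, Finset.filter_ne, Finset.card_erase_of_mem (Finset.mem_univ _),
          Finset.card_univ]
      simp only
      rw [Finset.sum_congr rfl (fun u _ => this u), Finset.sum_const, Finset.card_univ, smul_eq_mul]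
    have e1 : ∑ p ∈ R, {z | r z p.1 p.2}.ncard = R.card * β := by
      rw [← smul_eq_mul, ← Finset.sum_const]
      apply Finset.sum_congr rfl
      intro p hp
      exact hbadconst _ _ _ _ (Finset.mem_filter.mp hp).2 hxy
    have e2 : ∑ p ∈ R, {z | r z p.1 p.2}.ncard =
        ∑ z : X, (R.filter (fun p => r z p.1 p.2)).card := by
      simp only [hncard, Finset.card_filter]
      exact Finset.sum_comm
    have e3 : ∀ z : X, (R.filter (fun p => r z p.1 p.2)).card =
        (Fintype.card X - 1) * (B.ncard - 1) := by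
      intro z
      rw [hR, Finset.filter_filter, Finset.card_filter, Fintype.sum_prod_type]
      have hz0 : (∑ w : X, if (z ≠ w ∧ r z z w) then 1 else 0) = 0 := by
        apply Finset.sum_eq_zero
        intro w _
        rw [if_neg]
        rintro ⟨-, h⟩
        exact rne z z w h rfl
      have hz1 : ∀ u ∈ Finset.univ.erase z, (∑ w : X, if (u ≠ w ∧ r z u w) then 1 else 0) =
          B.ncard - 1 := by
        intro u hu
        have huz : u ≠ z := Finset.ne_of_mem_erase hu
        rw [← Finset.card_filter]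
        have : Finset.univ.filter (fun w => u ≠ w ∧ r z u w) =
            (Finset.univ.filter (fun w => r z u w)).erase u := by
          ext w
          simp only [Finset.mem_filter, Finset.mem_univ, true_and, Finset.mem_erase]
          constructor
          · rintro ⟨h1, h3⟩; exact ⟨h1.symm, h3⟩
          · rintro ⟨h1, h3⟩; exact ⟨h1.symm, h3⟩
        rw [this, Finset.card_erase_of_mem, ← hncard, rclass z u huz]
        rw [Finset.mem_filter]
        exact ⟨Finset.mem_univ _, rrefl z u huz⟩
      simp only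
      rw [← Finset.add_sum_erase _ _ (Finset.mem_univ z), hz0, zero_add,
        Finset.sum_congr rfl hz1, Finset.sum_const, Finset.card_erase_of_mem (Finset.mem_univ _),
        Finset.card_univ, smul_eq_mul]
    rw [e1, Finset.sum_congr rfl (fun z _ => e3 z), Finset.sum_const, Finset.card_univ,
      smul_eq_mul, hRcard, ← mul_assoc] at e2
    have hXpos : 0 < Fintype.card X * (Fintype.card X - 1) := by
      have h1 : 0 < Fintype.card X - 1 := by omega
      have h3 : 0 < Fintype.card X := by omega
      exact Nat.mul_pos h3 h1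
    exact Nat.eq_of_mul_eq_mul_left hXpos e2
  exact ⟨B.ncard, r, ⟨requiv, rne, rsymm, rrefl, rtrans, rclass, hbad⟩, hB2, hB2b, hBd⟩

end Exists

section Weights

variable {G X : Type*} [Group G] [MulAction G X] [Fintype X] [DecidableEq X]

open Classical in
/-- pairs of points not separated by `T`. -/
noncomputable def Wset (r : X → X → X → Prop) (T : Finset X) : Finset (X × X) :=
  Finset.univ.filter (fun p => p.1 ≠ p.2 ∧ p.1 ∉ T ∧ p.2 ∉ T ∧
    ∀ a ∈ T, ∀ z ∈ T, (r a p.1 z ↔ r a p.2 z))

open Classical in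
theorem mem_Wset {r : X → X → X → Prop} {T : Finset X} {p : X × X} :
    p ∈ Wset r T ↔ p.1 ≠ p.2 ∧ p.1 ∉ T ∧ p.2 ∉ T ∧ ∀ a ∈ T, ∀ z ∈ T, (r a p.1 z ↔ r a p.2 z) := by
  unfold Wset
  rw [Finset.mem_filter]
  simp only [Finset.mem_univ, true_and]

theorem Wset_insert {r : X → X → X → Prop} {T : Finset X} {z : X} :
    Wset r (insert z T) ⊆ Wset r T := by
  intro p hp
  rw [mem_Wset] at hp ⊢
  obtain ⟨h1, h2, h3, h4⟩ := hp
  exact ⟨h1, fun h => h2 (Finset.mem_insert_of_mem h), fun h => h3 (Finset.mem_insert_of_mem h),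
    fun a ha z hz => h4 a (Finset.mem_insert_of_mem ha) z (Finset.mem_insert_of_mem hz)⟩

open Classical in
/-- the weight of a pair. -/
noncomputable def wt (r : X → X → X → Prop) (c : ℝ) (T : Finset X) (p : X × X) : ℝ :=
  if (∀ a ∈ T, r a p.1 p.2) then c else 1

theorem one_le_wt {r : X → X → X → Prop} {c : ℝ} (hc : 1 ≤ c) (T : Finset X) (p : X × X) :
    1 ≤ wt r c T p := by
  unfold wt
  split_ifs
  · exact hc
  · exact le_rfl

/-- the potential. -/
noncomputable def pot (r : X → X → X → Prop) (c : ℝ) (T : Finset X) : ℝ :=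
  ∑ p ∈ Wset r T, wt r c T p

theorem card_Wset_le_pot {r : X → X → X → Prop} {c : ℝ} (hc : 1 ≤ c) (T : Finset X) :
    ((Wset r T).card : ℝ) ≤ pot r c T := by
  unfold pot
  calc ((Wset r T).card : ℝ) = ∑ _p ∈ Wset r T, (1 : ℝ) := by
        rw [Finset.sum_const, nsmul_eq_mul, mul_one]
    _ ≤ _ := Finset.sum_le_sum (fun p _ => one_le_wt hc T p)

theorem hu_aux {b : ℕ} {r : X → X → X → Prop} (hF : Family G b r) {c : ℝ} (hc : 1 ≤ c)
    (T : Finset X) :
    (Nat.card {p : X × X // p.1 ≠ p.2 ∧ p.1 ∉ T ∧ p.2 ∉ T ∧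
      ∃ g ∈ fixingSubgroup G (T : Set X), g • p.1 = p.2} : ℝ) ≤ pot r c T := by
  refine le_trans ?_ (card_Wset_le_pot hc T)
  have h : Nat.card {p : X × X // p.1 ≠ p.2 ∧ p.1 ∉ T ∧ p.2 ∉ T ∧
      ∃ g ∈ fixingSubgroup G (T : Set X), g • p.1 = p.2} ≤ Nat.card (Wset r T) := by
    refine Nat.card_le_card_of_injective
      (fun p => (⟨p.1, ?_⟩ : {p // p ∈ Wset r T})) ?_
    · obtain ⟨p, h1, h2, h3, g, hg, hgp⟩ := p
      change p ∈ Wset r T
      rw [mem_Wset]
      refine ⟨h1, h2, h3, ?_⟩
      intro a ha z hz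
      rw [mem_fixingSubgroup_iff] at hg
      have ga : g • a = a := hg a ha
      have gz : g • z = z := hg z hz
      rw [← hF.equiv g a p.1 z, ga, gz, hgp]
    · intro p q hpq
      exact Subtype.ext (congrArg (fun x => x.1) hpq)
  rw [Nat.card_eq_fintype_card (α := Wset r T), Fintype.card_coe] at h
  exact_mod_cast h

theorem pot_empty {r : X → X → X → Prop} {c : ℝ} :
    pot r c ∅ = c * (Fintype.card X * (Fintype.card X - 1 : ℕ)) := by
  classical
  unfold pot
  have h1 : Wset r ∅ = Finset.univ.filter (fun p : X × X => p.1 ≠ p.2) := by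
    ext p
    rw [mem_Wset, Finset.mem_filter]
    simp
  have h2 : (Finset.univ.filter (fun p : X × X => p.1 ≠ p.2)).card =
      Fintype.card X * (Fintype.card X - 1) := by
    rw [Finset.card_filter, Fintype.sum_prod_type]
    have : ∀ u : X, (∑ w : X, if u ≠ w then 1 else 0) = Fintype.card X - 1 := by
      intro u
      rw [← Finset.card_filter, Finset.filter_ne, Finset.card_erase_of_mem (Finset.mem_univ _),
        Finset.card_univ]
    simp only
    rw [Finset.sum_congr rfl (fun u _ => this u), Finset.sum_const, Finset.card_univ, smul_eq_mul]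
  have h3 : ∀ p ∈ Wset r ∅, wt r c ∅ p = c := by
    intro p _
    unfold wt
    rw [if_pos]
    intro a ha
    exact absurd ha (Finset.notMem_empty a)
  rw [Finset.sum_congr rfl h3, Finset.sum_const, h1, h2, nsmul_eq_mul]
  push_cast
  ring

section Kill

variable {b : ℕ} {r : X → X → X → Prop} (hF : Family G b r) (hb : 2 ≤ b) {T : Finset X} {p : X × X}
  (hp : p ∈ Wset r T)

include hF hp

/-- Points of the class of `x` at a separating point `a ∈ T` kill the pair. -/
theorem kill_left {a : X} (haT : a ∈ T) (ha : ¬ r a p.1 p.2) {z : X} (hz : r a p.1 z) :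
    z ∉ T ∧ p ∉ Wset r (insert z T) := by
  rw [mem_Wset] at hp
  obtain ⟨h1, h2, h3, h4⟩ := hp
  constructor
  · intro hzT
    have h5 := (h4 a haT z hzT).mp hz
    exact ha (hF.trans _ _ _ _ hz (hF.symm _ _ _ h5))
  · intro hp'
    rw [mem_Wset] at hp'
    have h5 := (hp'.2.2.2 a (Finset.mem_insert_of_mem haT) z (Finset.mem_insert_self _ _)).mp hz
    exact ha (hF.trans _ _ _ _ hz (hF.symm _ _ _ h5))

theorem kill_right {a : X} (haT : a ∈ T) (ha : ¬ r a p.1 p.2) {z : X} (hz : r a p.2 z) :
    z ∉ T ∧ p ∉ Wset r (insert z T) := by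
  rw [mem_Wset] at hp
  obtain ⟨h1, h2, h3, h4⟩ := hp
  constructor
  · intro hzT
    have h5 := (h4 a haT z hzT).mpr hz
    exact ha (hF.trans _ _ _ _ h5 (hF.symm _ _ _ hz))
  · intro hp'
    rw [mem_Wset] at hp'
    have h5 := (hp'.2.2.2 a (Finset.mem_insert_of_mem haT) z (Finset.mem_insert_self _ _)).mpr hz
    exact ha (hF.trans _ _ _ _ h5 (hF.symm _ _ _ hz))

open Classical in
theorem killers_ge_two_mul {a : X} (haT : a ∈ T) (ha : ¬ r a p.1 p.2) :
    2 * b ≤ (Finset.univ.filter (fun z => z ∉ T ∧ p ∉ Wset r (insert z T))).card := by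
  have hp' := mem_Wset.mp hp
  have hx : p.1 ≠ a := fun h => hp'.2.1 (h ▸ haT)
  have hy : p.2 ≠ a := fun h => hp'.2.2.1 (h ▸ haT)
  have e1 : (Finset.univ.filter (fun z => r a p.1 z)).card = b := by
    rw [← hF.card_class a p.1 hx, ← Set.ncard_coe_finset]
    congr 1
    ext z; simp
  have e2 : (Finset.univ.filter (fun z => r a p.2 z)).card = b := by
    rw [← hF.card_class a p.2 hy, ← Set.ncard_coe_finset]
    congr 1
    ext z; simp
  have hdisj : Disjoint (Finset.univ.filter (fun z => r a p.1 z))
      (Finset.univ.filter (fun z => r a p.2 z)) := by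
    rw [Finset.disjoint_left]
    intro z h1 h2
    exact ha (hF.trans _ _ _ _ (Finset.mem_filter.mp h1).2
      (hF.symm _ _ _ (Finset.mem_filter.mp h2).2))
  have hsub : (Finset.univ.filter (fun z => r a p.1 z)) ∪ (Finset.univ.filter (fun z => r a p.2 z))
      ⊆ Finset.univ.filter (fun z => z ∉ T ∧ p ∉ Wset r (insert z T)) := by
    intro z hz
    rw [Finset.mem_filter]
    refine ⟨Finset.mem_univ _, ?_⟩
    rcases Finset.mem_union.mp hz with h | h
    · exact kill_left hF hp haT ha (Finset.mem_filter.mp h).2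
    · exact kill_right hF hp haT ha (Finset.mem_filter.mp h).2
  have := Finset.card_le_card hsub
  rw [Finset.card_union_of_disjoint hdisj, e1, e2] at this
  omega

include hb in
open Classical in
theorem killers_ge_card :
    (T.filter (fun a => ¬ r a p.1 p.2)).card + 2 ≤
      (Finset.univ.filter (fun z => z ∉ T ∧ p ∉ Wset r (insert z T))).card := by
  have hp' := mem_Wset.mp hp
  set T' := T.filter (fun a => ¬ r a p.1 p.2) with hT'
  set K := T'.biUnion (fun a => (Finset.univ.filter (fun z => r a p.1 z)).erase p.1) with hK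
  have e1 : ∀ a ∈ T', ((Finset.univ.filter (fun z => r a p.1 z)).erase p.1).card = b - 1 := by
    intro a ha
    have haT : a ∈ T := (Finset.mem_filter.mp ha).1
    have hx : p.1 ≠ a := fun h => hp'.2.1 (h ▸ haT)
    rw [Finset.card_erase_of_mem (Finset.mem_filter.mpr ⟨Finset.mem_univ _, hF.refl a p.1 hx⟩)]
    congr 1
    rw [← hF.card_class a p.1 hx, ← Set.ncard_coe_finset]
    congr 1
    ext z; simp
  have e2 : ∀ z ∈ K, (T'.filter (fun a => r a p.1 z)).card ≤ b - 1 := by
    intro z hz
    obtain ⟨a, ha, hza⟩ := Finset.mem_biUnion.mp hz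
    have hzx : p.1 ≠ z := (Finset.ne_of_mem_erase hza).symm
    rw [← hF.card_bad p.1 z hzx, ← Set.ncard_coe_finset]
    apply Set.ncard_le_ncard _ (Set.toFinite _)
    intro u hu
    exact (Finset.mem_filter.mp hu).2
  have e3 : T'.card * (b - 1) ≤ K.card * (b - 1) := by
    calc T'.card * (b - 1)
        = ∑ a ∈ T', ((Finset.univ.filter (fun z => r a p.1 z)).erase p.1).card := by
          rw [Finset.sum_congr rfl e1, Finset.sum_const, smul_eq_mul]
      _ = ∑ a ∈ T', (K.filter (fun z => r a p.1 z)).card := by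
          apply Finset.sum_congr rfl
          intro a ha
          congr 1
          ext z
          simp only [Finset.mem_erase, Finset.mem_filter, Finset.mem_univ, true_and]
          constructor
          · rintro ⟨h1, h2⟩
            refine ⟨?_, h2⟩
            rw [hK, Finset.mem_biUnion]
            exact ⟨a, ha, Finset.mem_erase.mpr ⟨h1, Finset.mem_filter.mpr
              ⟨Finset.mem_univ _, h2⟩⟩⟩
          · rintro ⟨h1, h2⟩
            refine ⟨?_, h2⟩
            obtain ⟨a', _, hz⟩ := Finset.mem_biUnion.mp h1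
            exact Finset.ne_of_mem_erase hz
      _ = ∑ z ∈ K, (T'.filter (fun a => r a p.1 z)).card := by
          simp only [Finset.card_filter]
          exact Finset.sum_comm
      _ ≤ ∑ _z ∈ K, (b - 1) := Finset.sum_le_sum e2
      _ = K.card * (b - 1) := by rw [Finset.sum_const, smul_eq_mul]
  have e4 : T'.card ≤ K.card := Nat.le_of_mul_le_mul_right e3 (by omega)
  have hxK : p.1 ∉ K := by
    intro h
    obtain ⟨a', _, hz⟩ := Finset.mem_biUnion.mp h
    exact (Finset.ne_of_mem_erase hz) rfl
  have hyK : p.2 ∉ K := by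
    intro h
    obtain ⟨a', ha', hz⟩ := Finset.mem_biUnion.mp h
    exact (Finset.mem_filter.mp ha').2 (Finset.mem_filter.mp (Finset.mem_of_mem_erase hz)).2
  have hxyK : p.1 ∉ insert p.2 K := by
    rw [Finset.mem_insert]
    rintro (h | h)
    · exact hp'.1 h
    · exact hxK h
  have hsub : insert p.1 (insert p.2 K) ⊆
      Finset.univ.filter (fun z => z ∉ T ∧ p ∉ Wset r (insert z T)) := by
    intro z hz
    rw [Finset.mem_filter]
    refine ⟨Finset.mem_univ _, ?_⟩
    rw [Finset.mem_insert, Finset.mem_insert] at hz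
    rcases hz with rfl | rfl | hz
    · exact ⟨hp'.2.1, fun h => (mem_Wset.mp h).2.1 (Finset.mem_insert_self _ _)⟩
    · exact ⟨hp'.2.2.1, fun h => (mem_Wset.mp h).2.2.1 (Finset.mem_insert_self _ _)⟩
    · obtain ⟨a', ha', hz'⟩ := Finset.mem_biUnion.mp hz
      exact kill_left hF hp (Finset.mem_filter.mp ha').1 (Finset.mem_filter.mp ha').2
        (Finset.mem_filter.mp (Finset.mem_of_mem_erase hz')).2
  have := Finset.card_le_card hsub
  rw [Finset.card_insert_of_notMem hxyK, Finset.card_insert_of_notMem hyK] at this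
  omega

omit hp [DecidableEq X] in
open Classical in
theorem card_filter_bad (hne : p.1 ≠ p.2) :
    (Finset.univ.filter (fun a => r a p.1 p.2)).card = b - 1 := by
  rw [← hF.card_bad p.1 p.2 hne, ← Set.ncard_coe_finset]
  congr 1
  ext z; simp

include hb in
open Classical in
/-- the step inequality for one pair. -/
theorem step_pair {c : ℕ} (hc : 1 ≤ c) :
    (∑ z ∈ Tᶜ, if p ∈ Wset r (insert z T) then wt r c (insert z T) p else 0) ≤
      AI (Fintype.card X) b c T.card * wt r c T p := by
  have hp' := mem_Wset.mp hp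
  have hcR : (1 : ℝ) ≤ (c : ℝ) := by exact_mod_cast hc
  have hbadcard := card_filter_bad (G := G) (p := p) hF hp'.1
  have hTc : (Tᶜ : Finset X).card = Fintype.card X - T.card := Finset.card_compl T
  by_cases hall : ∀ a ∈ T, r a p.1 p.2
  · -- all points of `T` are bad
    have hwtT : wt r c T p = c := by
      unfold wt
      rw [if_pos hall]
    have hTsub : T ⊆ Finset.univ.filter (fun a => r a p.1 p.2) := by
      intro a ha
      exact Finset.mem_filter.mpr ⟨Finset.mem_univ _, hall a ha⟩
    have hTle : T.card ≤ b - 1 := by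
      rw [← hbadcard]; exact Finset.card_le_card hTsub
    have hTb : T.card < b := by omega
    -- the three parts of the complement
    set B1 : Finset X := (Finset.univ.filter (fun a => r a p.1 p.2)) \ T with hB1
    have hB1card : B1.card = b - 1 - T.card := by
      rw [hB1, Finset.card_sdiff_of_subset hTsub, hbadcard]
    set B2 : Finset X := ((Tᶜ \ B1).erase p.1).erase p.2 with hB2
    have hB1c : B1 ⊆ Tᶜ := by
      intro z hz
      rw [Finset.mem_compl]
      exact (Finset.mem_sdiff.mp hz).2
    have hx : p.1 ∈ Tᶜ \ B1 := by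
      rw [Finset.mem_sdiff, Finset.mem_compl]
      refine ⟨hp'.2.1, ?_⟩
      intro h
      exact hF.ne _ _ _ (Finset.mem_filter.mp (Finset.mem_sdiff.mp h).1).2 rfl
    have hy : p.2 ∈ (Tᶜ \ B1).erase p.1 := by
      rw [Finset.mem_erase, Finset.mem_sdiff, Finset.mem_compl]
      refine ⟨hp'.1.symm, hp'.2.2.1, ?_⟩
      intro h
      exact hF.ne _ _ _ (hF.symm _ _ _ (Finset.mem_filter.mp (Finset.mem_sdiff.mp h).1).2) rfl
    have hB2card : B2.card = Fintype.card X - 1 - b := by
      rw [hB2, Finset.card_erase_of_mem hy, Finset.card_erase_of_mem hx,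
        Finset.card_sdiff_of_subset hB1c, hB1card, hTc]
      omega
    have hsplit : (∑ z ∈ Tᶜ, if p ∈ Wset r (insert z T) then wt r c (insert z T) p else 0) =
        (∑ z ∈ B1, if p ∈ Wset r (insert z T) then wt r c (insert z T) p else 0) +
        (∑ z ∈ B2, if p ∈ Wset r (insert z T) then wt r c (insert z T) p else 0) := by
      rw [← Finset.sum_sdiff hB1c, add_comm]
      congr 1
      rw [hB2, ← Finset.add_sum_erase _ _ hx, ← Finset.add_sum_erase _ _ hy]
      have z1 : p ∉ Wset r (insert p.1 T) :=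
        fun h => (mem_Wset.mp h).2.1 (Finset.mem_insert_self _ _)
      have z2 : p ∉ Wset r (insert p.2 T) :=
        fun h => (mem_Wset.mp h).2.2.1 (Finset.mem_insert_self _ _)
      rw [if_neg z1, if_neg z2, zero_add, zero_add]
    have hs1 : (∑ z ∈ B1, if p ∈ Wset r (insert z T) then wt r c (insert z T) p else 0) ≤
        ((b - 1 - T.card : ℕ) : ℝ) * c := by
      rw [← hB1card, ← nsmul_eq_mul, ← Finset.sum_const]
      apply Finset.sum_le_sum
      intro z _
      split_ifs
      · unfold wt
        split_ifs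
        · exact le_rfl
        · exact hcR
      · linarith
    have hs2 : (∑ z ∈ B2, if p ∈ Wset r (insert z T) then wt r c (insert z T) p else 0) ≤
        ((Fintype.card X - 1 - b : ℕ) : ℝ) := by
      rw [← hB2card]
      calc _ ≤ ∑ _z ∈ B2, (1 : ℝ) := by
            apply Finset.sum_le_sum
            intro z hz
            split_ifs
            · unfold wt
              rw [if_neg]
              intro h
              have hzb : r z p.1 p.2 := h z (Finset.mem_insert_self _ _)
              have hz1 : z ∈ Tᶜ \ B1 := Finset.mem_of_mem_erase (Finset.mem_of_mem_erase hz)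
              apply (Finset.mem_sdiff.mp hz1).2
              rw [hB1, Finset.mem_sdiff, Finset.mem_filter]
              exact ⟨⟨Finset.mem_univ _, hzb⟩, Finset.mem_compl.mp (Finset.mem_sdiff.mp hz1).1⟩
            · norm_num
        _ = _ := by rw [Finset.sum_const, nsmul_eq_mul, mul_one]
    rw [hsplit, hwtT]
    have hAI : ((b - 1 - T.card : ℕ) : ℝ) + ((Fintype.card X - 1 - b : ℕ) : ℝ) / (c : ℝ) ≤
        AI (Fintype.card X) b c T.card := by
      unfold AI
      rw [if_pos hTb]
      exact le_max_right _ _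
    calc _ ≤ ((b - 1 - T.card : ℕ) : ℝ) * c + ((Fintype.card X - 1 - b : ℕ) : ℝ) :=
          add_le_add hs1 hs2
      _ = (((b - 1 - T.card : ℕ) : ℝ) + ((Fintype.card X - 1 - b : ℕ) : ℝ) / (c : ℝ)) * c := by
          have : (c : ℝ) ≠ 0 := by linarith
          field_simp
      _ ≤ _ := mul_le_mul_of_nonneg_right hAI (by linarith)
  · -- some point of `T` separates `x` and `y`
    push Not at hall
    obtain ⟨a, haT, ha⟩ := hall
    have hwtT : wt r c T p = 1 := by
      unfold wt
      rw [if_neg]
      intro h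
      exact ha (h a haT)
    have k1 := killers_ge_two_mul hF hp haT ha
    have k2 := killers_ge_card hF hb hp
    have k3 : T.card ≤ (T.filter (fun a => ¬ r a p.1 p.2)).card + (b - 1) := by
      have e1 := Finset.card_filter_add_card_filter_not (s := T) (fun a => r a p.1 p.2)
      have e2 : (T.filter (fun a => r a p.1 p.2)).card ≤ b - 1 := by
        rw [← hbadcard]
        apply Finset.card_le_card
        intro z hz
        exact Finset.mem_filter.mpr ⟨Finset.mem_univ _, (Finset.mem_filter.mp hz).2⟩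
      omega
    set K := Finset.univ.filter (fun z => z ∉ T ∧ p ∉ Wset r (insert z T)) with hK
    have hKmax : max (2 * b) (T.card + 3 - b) ≤ K.card := by
      apply max_le k1
      omega
    have hcount : (Tᶜ.filter (fun z => p ∈ Wset r (insert z T))).card + K.card =
        Fintype.card X - T.card := by
      rw [← hTc, ← Finset.card_filter_add_card_filter_not (s := Tᶜ)
        (fun z => p ∈ Wset r (insert z T))]
      congr 2
      ext z
      rw [hK, Finset.mem_filter, Finset.mem_filter, Finset.mem_compl]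
      simp only [Finset.mem_univ, true_and]
    have hsum : (∑ z ∈ Tᶜ, if p ∈ Wset r (insert z T) then wt r c (insert z T) p else 0) =
        ((Tᶜ.filter (fun z => p ∈ Wset r (insert z T))).card : ℝ) := by
      rw [Finset.card_filter]
      push_cast
      apply Finset.sum_congr rfl
      intro z _
      split_ifs
      · unfold wt
        rw [if_neg]
        intro h
        exact ha (h a (Finset.mem_insert_of_mem haT))
      · rfl
    rw [hsum, hwtT, mul_one]
    have hle : (Tᶜ.filter (fun z => p ∈ Wset r (insert z T))).card ≤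
        Fintype.card X - T.card - max (2 * b) (T.card + 3 - b) := by omega
    have hAI : ((Fintype.card X - T.card - max (2 * b) (T.card + 3 - b) : ℕ) : ℝ) ≤
        AI (Fintype.card X) b c T.card := by
      unfold AI
      split_ifs
      · exact le_max_left _ _
      · exact le_rfl
    exact le_trans (by exact_mod_cast hle) hAI

end Kill

theorem hw_aux {b : ℕ} {r : X → X → X → Prop} (hF : Family G b r) (hb : 2 ≤ b) {c : ℕ}
    (hc : 1 ≤ c) (T : Finset X) :
    ∑ z ∈ Tᶜ, pot r c (insert z T) ≤ AI (Fintype.card X) b c T.card * pot r c T := by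
  classical
  have h1 : ∀ z ∈ Tᶜ, pot r c (insert z T) =
      ∑ p ∈ Wset r T, if p ∈ Wset r (insert z T) then wt r c (insert z T) p else 0 := by
    intro z _
    unfold pot
    rw [← Finset.sum_filter]
    apply Finset.sum_congr _ (fun _ _ => rfl)
    ext p
    rw [Finset.mem_filter]
    exact ⟨fun h => ⟨Wset_insert h, h⟩, fun h => h.2⟩
  rw [Finset.sum_congr rfl h1, Finset.sum_comm]
  unfold pot
  rw [Finset.mul_sum]
  apply Finset.sum_le_sum
  intro p hp
  exact step_pair hF hb hp hc

theorem AI_nonneg (m b c t : ℕ) : 0 ≤ AI m b c t := by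
  unfold AI
  split_ifs
  · exact le_max_of_le_left (Nat.cast_nonneg _)
  · exact Nat.cast_nonneg _

end Weights

/-- (I): order bound for 2-transitive groups with imprimitive point stabilisers. -/
theorem card_le_IB {G X : Type*} [Group G] [MulAction G X] [FaithfulSMul G X] [Fintype X]
    (h2 : IsMultiplyPretransitive G X 2) (h3 : 3 ≤ Fintype.card X) (a : X)
    (himp : ¬ IsPreprimitive (stabilizer G a) (SubMulAction.ofStabilizer G a)) :
    ∃ b, 2 ≤ b ∧ 2 * b ≤ Fintype.card X - 1 ∧ b ∣ Fintype.card X - 1 ∧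
      ∀ c : ℕ, 1 ≤ c → (Nat.card G : ℝ) ≤ IB (Fintype.card X) b c := by
  classical
  have h2' : ∀ a b c d : X, a ≠ b → c ≠ d → ∃ g : G, g • a = c ∧ g • b = d := by
    intro a b c d hab hcd
    exact is_two_pretransitive_iff.mp h2 hab hcd
  have htr : IsPretransitive (stabilizer G a) (SubMulAction.ofStabilizer G a) := by
    refine ⟨?_⟩
    rintro ⟨x, hx⟩ ⟨y, hy⟩
    obtain ⟨g, hga, hgx⟩ := h2' a x a y (fun h => hx h.symm) (fun h => hy h.symm)
    exact ⟨⟨g, hga⟩, Subtype.ext hgx⟩
  obtain ⟨b, r, hF, hb2, hb2b, hbd⟩ := exists_family h2' a htr himp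
  refine ⟨b, hb2, hb2b, hbd, ?_⟩
  intro c hc
  have hcR : (1 : ℝ) ≤ (c : ℝ) := by exact_mod_cast hc
  have key := Cfsg.Agent.PermutationGroups.OrderBound.Potential.card_le_prod (G := G) (X := X)
    (pot r c) (AI (Fintype.card X) b c) (AI_nonneg _ _ _)
    (fun T => hu_aux hF hcR T) (fun T => hw_aux hF hb2 hc T)
  have hpos : (0 : ℝ) < (Fintype.card X : ℝ) := by
    have : 0 < Fintype.card X := by omega
    exact_mod_cast this
  have h0 : pot r (c : ℝ) ∅ / (Fintype.card X : ℝ) = (c : ℝ) * ((Fintype.card X : ℝ) - 1) := by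
    rw [pot_empty, Nat.cast_sub (by omega)]
    push_cast
    field_simp
  rw [h0] at key
  exact key

end Cfsg.Agent.PermutationGroups.OrderBound.ImprimStab
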