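import Mathlib
import Cfsg.Agent.PermutationGroups.OrderBound.Defs

/-!
# Order bound for primitive groups (S0725): numerics for `n ≥ 2 ^ 23`
-/

set_option autoImplicit false

namespace Cfsg.Agent.PermutationGroups.OrderBound.NumLarge

open Cfsg.Agent.PermutationGroups.OrderBound.Defs

/-! ### General facts about `vseq` -/

theorem vseq_nonneg {n : ℕ} {v0 : ℝ} {A : ℕ → ℝ} (h0 : 0 ≤ v0) (hA : ∀ t, 0 ≤ A t) :
    ∀ t, 0 ≤ vseq n v0 A t := by
  intro t
  induction t with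
  | zero => rw [vseq_zero]; exact h0
  | succ t ih => rw [vseq_succ]; exact div_nonneg (mul_nonneg ih (hA t)) (Nat.cast_nonneg _)

theorem vseq_step {n : ℕ} {v0 : ℝ} {A : ℕ → ℝ} (h0 : 0 ≤ v0) (hA : ∀ t, 0 ≤ A t) (t : ℕ) (ρ : ℝ)
    (hρ : 0 ≤ ρ) (h : A t ≤ ρ * ((n - t - 1 : ℕ) : ℝ)) :
    vseq n v0 A (t + 1) ≤ ρ * vseq n v0 A t := by
  rw [vseq_succ]
  have hv := vseq_nonneg (n := n) h0 hA t
  rcases Nat.eq_zero_or_pos (n - t - 1) with hz | hpos
  · rw [hz, Nat.cast_zero, div_zero]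
    exact mul_nonneg hρ hv
  · have hpos' : (0 : ℝ) < ((n - t - 1 : ℕ) : ℝ) := by exact_mod_cast hpos
    rw [div_le_iff₀ hpos']
    calc vseq n v0 A t * A t ≤ vseq n v0 A t * (ρ * ((n - t - 1 : ℕ) : ℝ)) :=
          mul_le_mul_of_nonneg_left h hv
      _ = ρ * vseq n v0 A t * ((n - t - 1 : ℕ) : ℝ) := by ring

/-- `(1 - 1/e)^e ≤ 1/2`. -/
theorem one_sub_inv_pow_le (e : ℕ) (he : 1 ≤ e) : (1 - 1 / (e : ℝ)) ^ e ≤ 1 / 2 := by
  have h1 : (1 - 1 / (e : ℝ)) ^ e ≤ Real.exp (-1) :=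
    Real.one_sub_div_pow_le_exp_neg (n := e) (t := 1) (by exact_mod_cast he)
  have h2 : (2 : ℝ) ≤ Real.exp 1 := by
    have := Real.add_one_le_exp (1 : ℝ)
    linarith
  have h3 : Real.exp (-1) ≤ 1 / 2 := by
    rw [Real.exp_neg, inv_eq_one_div]
    exact one_div_le_one_div_of_le (by norm_num) h2
  exact h1.trans h3

theorem decay {v : ℕ → ℝ} (e t0 : ℕ) (B : ℝ) (he : 1 ≤ e) (hB0 : 0 ≤ B)
    (hstep : ∀ t, t0 ≤ t → v (t + 1) ≤ (1 - 1 / (e : ℝ)) * v t) (hB : v t0 ≤ B) (K : ℕ) :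
    ∀ t, t0 + e * K ≤ t → v t ≤ B / 2 ^ K := by
  have he' : (1 : ℝ) ≤ e := by exact_mod_cast he
  have hq0 : (0 : ℝ) ≤ 1 - 1 / (e : ℝ) := by
    rw [sub_nonneg]
    rw [div_le_one (by linarith)]
    exact he'
  have hq1 : 1 - 1 / (e : ℝ) ≤ 1 := by
    have : (0 : ℝ) ≤ 1 / (e : ℝ) := by positivity
    linarith
  have h1 : ∀ s, v (t0 + s) ≤ (1 - 1 / (e : ℝ)) ^ s * B := by
    intro s
    induction s with
    | zero => simpa using hB
    | succ s ih =>
      calc v (t0 + (s + 1)) = v (t0 + s + 1) := by rw [add_assoc]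
        _ ≤ (1 - 1 / (e : ℝ)) * v (t0 + s) := hstep _ (Nat.le_add_right _ _)
        _ ≤ (1 - 1 / (e : ℝ)) * ((1 - 1 / (e : ℝ)) ^ s * B) := mul_le_mul_of_nonneg_left ih hq0
        _ = (1 - 1 / (e : ℝ)) ^ (s + 1) * B := by rw [pow_succ]; ring
  intro t ht
  obtain ⟨s, rfl⟩ : ∃ s, t = t0 + s := ⟨t - t0, by omega⟩
  have hs : e * K ≤ s := by omega
  calc v (t0 + s) ≤ (1 - 1 / (e : ℝ)) ^ s * B := h1 s
    _ ≤ (1 - 1 / (e : ℝ)) ^ (e * K) * B :=
        mul_le_mul_of_nonneg_right (pow_le_pow_of_le_one hq0 hq1 hs) hB0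
    _ = ((1 - 1 / (e : ℝ)) ^ e) ^ K * B := by rw [pow_mul]
    _ ≤ (1 / 2) ^ K * B :=
        mul_le_mul_of_nonneg_right
          (pow_le_pow_left₀ (pow_nonneg hq0 _) (one_sub_inv_pow_le e he) K) hB0
    _ = B / 2 ^ K := by rw [one_div, inv_pow]; ring

/-- product bound: factors `≤ B` for `t < T`, then `≤ 1 + 1/M`. -/
theorem prod_bound (M T : ℕ) (hM : 1 ≤ M) (v : ℕ → ℝ) (B : ℝ) (hB : 1 ≤ B) (hv : ∀ t, 0 ≤ v t)
    (h1 : ∀ t, 1 + v t ≤ B) (h2 : ∀ t, T ≤ t → v t ≤ 1 / (M : ℝ)) :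
    ∏ t ∈ Finset.range M, (1 + v t) ≤ 4 * B ^ T := by
  have hM' : (0 : ℝ) < M := by exact_mod_cast hM
  have hle : ∏ t ∈ Finset.range M, (1 + v t) ≤
      ∏ t ∈ Finset.range M, ((if t < T then B else 1) * (1 + 1 / (M : ℝ))) := by
    apply Finset.prod_le_prod
    · intro t _; have := hv t; linarith
    · intro t _
      have hpos : (0 : ℝ) ≤ 1 / (M : ℝ) := by positivity
      by_cases ht : t < T
      · rw [if_pos ht]
        calc 1 + v t ≤ B := h1 t
          _ ≤ B * (1 + 1 / (M : ℝ)) := by nlinarith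
      · rw [if_neg ht, one_mul]
        have := h2 t (not_lt.mp ht)
        linarith
  rw [Finset.prod_mul_distrib, Finset.prod_const, Finset.card_range] at hle
  have hexp : (1 + 1 / (M : ℝ)) ^ M ≤ 4 := by
    have h3 : (1 + 1 / (M : ℝ)) ^ M ≤ Real.exp 1 := by
      have h4 : 1 + 1 / (M : ℝ) ≤ Real.exp (1 / (M : ℝ)) := by
        have := Real.add_one_le_exp (1 / (M : ℝ))
        linarith
      calc (1 + 1 / (M : ℝ)) ^ M ≤ (Real.exp (1 / (M : ℝ))) ^ M :=
            pow_le_pow_left₀ (by positivity) h4 M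
        _ = Real.exp 1 := by
            rw [← Real.exp_nat_mul]
            congr 1
            field_simp
    have h5 := Real.exp_one_lt_d9
    linarith
  have hprod : ∏ t ∈ Finset.range M, (if t < T then B else 1) ≤ B ^ T := by
    rw [Finset.prod_ite, Finset.prod_const_one, mul_one, Finset.prod_const]
    apply pow_le_pow_right₀ hB
    calc (Finset.filter (fun t => t < T) (Finset.range M)).card ≤ (Finset.range T).card := by
          apply Finset.card_le_card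
          intro t ht
          rw [Finset.mem_filter] at ht
          exact Finset.mem_range.mpr ht.2
      _ = T := Finset.card_range T
  have hprod0 : (0 : ℝ) ≤ ∏ t ∈ Finset.range M, (if t < T then B else 1) := by
    apply Finset.prod_nonneg
    intro t _
    split_ifs <;> linarith
  calc ∏ t ∈ Finset.range M, (1 + v t)
      ≤ (∏ t ∈ Finset.range M, (if t < T then B else 1)) * (1 + 1 / (M : ℝ)) ^ M := hle
    _ ≤ B ^ T * 4 := mul_le_mul hprod hexp (by positivity) (by positivity)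
    _ = 4 * B ^ T := by ring

/-! ### The bound for `UB` -/

theorem dmin_spec (m : ℕ) (hm : 1 ≤ m) : m - 1 ≤ dmin m * (dmin m - 1) ∧ 1 ≤ dmin m := by
  have hdef : dmin m = (Nat.sqrt (4 * m - 4) + 3) / 2 := rfl
  set y := Nat.sqrt (4 * m - 4) with hy
  have h1 : 4 * m - 4 < (y + 1) * (y + 1) := Nat.lt_succ_sqrt _
  have h2 : y + 2 ≤ 2 * dmin m := by rw [hdef]; omega
  have h3 : 1 ≤ dmin m := by omega
  refine ⟨?_, h3⟩
  obtain ⟨d, hd⟩ : ∃ d, dmin m = d + 1 := ⟨dmin m - 1, by omega⟩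
  rw [hd] at h2 ⊢
  rw [Nat.add_sub_cancel]
  have h4 : y ≤ 2 * d := by omega
  have h5 : (y + 1) * (y + 1) ≤ (2 * d + 1) * (2 * d + 1) := Nat.mul_self_le_mul_self (by omega)
  have h6 : (2 * d + 1) * (2 * d + 1) = 4 * ((d + 1) * d) + 1 := by ring
  omega

theorem dmin_le (m n : ℕ) (h : m ≤ n) : dmin m ≤ Nat.sqrt n + 2 := by
  have hdef : dmin m = (Nat.sqrt (4 * m - 4) + 3) / 2 := rfl
  set y := Nat.sqrt (4 * m - 4) with hy
  have h1 : y * y ≤ 4 * m - 4 := Nat.sqrt_le _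
  have h2 : n < (Nat.sqrt n + 1) * (Nat.sqrt n + 1) := Nat.lt_succ_sqrt _
  have h3 : y < 2 * (Nat.sqrt n + 1) := by
    by_contra hcon
    push Not at hcon
    have h4 : (2 * (Nat.sqrt n + 1)) * (2 * (Nat.sqrt n + 1)) ≤ y * y :=
      Nat.mul_self_le_mul_self hcon
    have h5 : (2 * (Nat.sqrt n + 1)) * (2 * (Nat.sqrt n + 1)) =
      4 * ((Nat.sqrt n + 1) * (Nat.sqrt n + 1)) := by ring
    omega
  rw [hdef]
  omega

theorem UB_le (M d P : ℕ) (hM : 1 ≤ M) (hd : 1 ≤ d) (hdM : M - 1 ≤ d * (d - 1)) (hP : M ≤ 2 ^ P) :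
    UB M d ≤ 4 * (M : ℝ) ^ (d * (2 * P)) := by
  have hM1 : (1 : ℝ) ≤ M := by exact_mod_cast hM
  have hd1 : (1 : ℝ) ≤ d := by exact_mod_cast hd
  have h0 : (0 : ℝ) ≤ (M : ℝ) - 1 := by linarith
  have hA : ∀ t, (0 : ℝ) ≤ (fun t => ((M - t - d : ℕ) : ℝ)) t := fun t => Nat.cast_nonneg _
  have hq0 : (0 : ℝ) ≤ 1 - 1 / (d : ℝ) := by
    rw [sub_nonneg, div_le_one (by linarith)]; exact hd1
  have hq1 : 1 - 1 / (d : ℝ) ≤ 1 := by
    have : (0 : ℝ) ≤ 1 / (d : ℝ) := by positivity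
    linarith
  have hstep : ∀ t, vseq M ((M : ℝ) - 1) (fun t => ((M - t - d : ℕ) : ℝ)) (t + 1) ≤
      (1 - 1 / (d : ℝ)) * vseq M ((M : ℝ) - 1) (fun t => ((M - t - d : ℕ) : ℝ)) t := by
    intro t
    apply vseq_step h0 hA t _ hq0
    -- `(M - t - d) * d ≤ (d - 1) * (M - t - 1)`
    have hnat : (M - t - d) * d ≤ (d - 1) * (M - t - 1) := by
      rcases Nat.lt_or_ge (M - t) d with h | h
      · rw [Nat.sub_eq_zero_of_le h.le, zero_mul]; exact Nat.zero_le _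
      · obtain ⟨u, hu⟩ : ∃ u, M - t = d + u := ⟨M - t - d, by omega⟩
        obtain ⟨c, rfl⟩ : ∃ c, d = c + 1 := ⟨d - 1, by omega⟩
        have e1 : M - t - (c + 1) = u := by omega
        have e2 : M - t - 1 = c + u := by omega
        rw [e1, e2, Nat.add_sub_cancel]
        rw [Nat.add_sub_cancel] at hdM
        have h3 : c + u ≤ M - 1 := by omega
        have h4 : c + u ≤ (c + 1) * c := h3.trans hdM
        nlinarith
    have hdpos : (0 : ℝ) < d := by linarith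
    have hreal : ((M - t - d : ℕ) : ℝ) * d ≤ ((d : ℝ) - 1) * ((M - t - 1 : ℕ) : ℝ) := by
      have : (((M - t - d) * d : ℕ) : ℝ) ≤ (((d - 1) * (M - t - 1) : ℕ) : ℝ) := by
        exact_mod_cast hnat
      rw [Nat.cast_mul, Nat.cast_mul, Nat.cast_sub hd, Nat.cast_one] at this
      exact this
    show ((M - t - d : ℕ) : ℝ) ≤ _
    have e3 : (1 - 1 / (d : ℝ)) * ((M - t - 1 : ℕ) : ℝ) =
        (((d : ℝ) - 1) * ((M - t - 1 : ℕ) : ℝ)) / d := by
      field_simp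
    rw [e3, le_div_iff₀ hdpos]
    exact hreal
  set v := vseq M ((M : ℝ) - 1) (fun t => ((M - t - d : ℕ) : ℝ)) with hv
  have hnn : ∀ t, 0 ≤ v t := vseq_nonneg h0 hA
  have hle : ∀ t, v t ≤ (M : ℝ) - 1 := by
    intro t
    induction t with
    | zero => exact le_refl _
    | succ t ih =>
      refine (hstep t).trans ?_
      calc (1 - 1 / (d : ℝ)) * v t ≤ 1 * v t := mul_le_mul_of_nonneg_right hq1 (hnn t)
        _ = v t := one_mul _
        _ ≤ _ := ih
  have hdec := decay (v := v) d 0 ((M : ℝ) - 1) hd h0 (fun t _ => hstep t) (hle 0) (2 * P)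
  have hfin := prod_bound M (d * (2 * P)) hM v (M : ℝ) hM1 hnn
    (fun t => by have := hle t; linarith) (fun t ht => by
      refine (hdec t (by omega)).trans ?_
      have hMpos : (0 : ℝ) < M := by linarith
      have h2P : (M : ℝ) * M ≤ 2 ^ (2 * P) := by
        have hP' : (M : ℝ) ≤ 2 ^ P := by exact_mod_cast hP
        calc (M : ℝ) * M ≤ 2 ^ P * 2 ^ P := mul_le_mul hP' hP' hMpos.le (by positivity)
          _ = 2 ^ (2 * P) := by rw [two_mul, pow_add]
      rw [div_le_div_iff₀ (by positivity) hMpos]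
      nlinarith)
  exact hfin

/-! ### The bound for `IB` -/

theorem IB_le (M b e P : ℕ) (hM : 1 ≤ M) (he : 4 ≤ e) (heM : M ≤ e * e) (hb : 2 ≤ b)
    (hb2 : 2 * b ≤ M - 1) (hP : M ≤ 2 ^ P) :
    IB M b 2 ≤ 4 * (2 * (M : ℝ)) ^ (2 * e + e * (2 * P + 1)) := by
  have hM1 : (1 : ℝ) ≤ M := by exact_mod_cast hM
  have he1 : (4 : ℝ) ≤ e := by exact_mod_cast he
  have hepos : (0 : ℝ) < e := by linarith
  have h0 : (0 : ℝ) ≤ ((2 : ℕ) : ℝ) * ((M : ℝ) - 1) := by
    have : (0 : ℝ) ≤ (M : ℝ) - 1 := by linarith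
    positivity
  -- real second branch
  have hsecond : ∀ t, t < b → ((b - 1 - t : ℕ) : ℝ) + ((M - 1 - b : ℕ) : ℝ) / ((2 : ℕ) : ℝ) ≤
      (3 / 4) * ((M - t - 1 : ℕ) : ℝ) := by
    intro t ht
    have hnat : 4 * (b - 1 - t) + 2 * (M - 1 - b) ≤ 3 * (M - t - 1) := by omega
    have hreal : 4 * ((b - 1 - t : ℕ) : ℝ) + 2 * ((M - 1 - b : ℕ) : ℝ) ≤
        3 * ((M - t - 1 : ℕ) : ℝ) := by exact_mod_cast hnat
    push_cast
    linarith
  have hA : ∀ t, (0 : ℝ) ≤ AI M b 2 t := by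
    intro t
    rw [AI]
    split_ifs with ht
    · exact le_max_of_le_left (Nat.cast_nonneg _)
    · exact Nat.cast_nonneg _
  have hle1 : ∀ t, AI M b 2 t ≤ 1 * ((M - t - 1 : ℕ) : ℝ) := by
    intro t
    have hfirst : ((M - t - max (2 * b) (t + 3 - b) : ℕ) : ℝ) ≤ ((M - t - 1 : ℕ) : ℝ) := by
      have : M - t - max (2 * b) (t + 3 - b) ≤ M - t - 1 := by
        have := le_max_left (2 * b) (t + 3 - b)
        omega
      exact_mod_cast this
    rw [AI, one_mul]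
    split_ifs with ht
    · apply max_le hfirst
      refine (hsecond t ht).trans ?_
      have : (0 : ℝ) ≤ ((M - t - 1 : ℕ) : ℝ) := Nat.cast_nonneg _
      linarith
    · exact hfirst
  have hle2 : ∀ t, 2 * e ≤ t → AI M b 2 t ≤ (1 - 1 / (e : ℝ)) * ((M - t - 1 : ℕ) : ℝ) := by
    intro t ht
    have hXe : ((M - t - 1 : ℕ) : ℝ) / e ≤ e := by
      rw [div_le_iff₀ hepos]
      have : M - t - 1 ≤ e * e := by omega
      exact_mod_cast this
    have hX0 : (0 : ℝ) ≤ ((M - t - 1 : ℕ) : ℝ) := Nat.cast_nonneg _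
    have hrw : (1 - 1 / (e : ℝ)) * ((M - t - 1 : ℕ) : ℝ) =
        ((M - t - 1 : ℕ) : ℝ) - ((M - t - 1 : ℕ) : ℝ) / e := by ring
    have hfirst : ((M - t - max (2 * b) (t + 3 - b) : ℕ) : ℝ) ≤
        (1 - 1 / (e : ℝ)) * ((M - t - 1 : ℕ) : ℝ) := by
      have hmax : 2 * (t + 3) ≤ 3 * max (2 * b) (t + 3 - b) := by
        have h1 := le_max_left (2 * b) (t + 3 - b)
        have h2 := le_max_right (2 * b) (t + 3 - b)
        omega
      rcases Nat.lt_or_ge (M - t) (max (2 * b) (t + 3 - b)) with h | h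
      · rw [Nat.sub_eq_zero_of_le h.le, Nat.cast_zero]
        apply mul_nonneg _ hX0
        rw [sub_nonneg, div_le_one hepos]; linarith
      · have hnat : (M - t - max (2 * b) (t + 3 - b)) + e ≤ M - t - 1 := by omega
        have hreal : ((M - t - max (2 * b) (t + 3 - b) : ℕ) : ℝ) + e ≤ ((M - t - 1 : ℕ) : ℝ) := by
          exact_mod_cast hnat
        rw [hrw]
        linarith
    rw [AI]
    split_ifs with htb
    · apply max_le hfirst
      refine (hsecond t htb).trans ?_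
      apply mul_le_mul_of_nonneg_right _ hX0
      have : 1 / (e : ℝ) ≤ 1 / 4 := one_div_le_one_div_of_le (by norm_num) he1
      linarith
    · exact hfirst
  set v := vseq M (((2 : ℕ) : ℝ) * ((M : ℝ) - 1)) (AI M b 2) with hv
  have hnn : ∀ t, 0 ≤ v t := vseq_nonneg h0 hA
  have hstep1 : ∀ t, v (t + 1) ≤ 1 * v t := fun t =>
    vseq_step h0 hA t 1 (by norm_num) (hle1 t)
  have hq0 : (0 : ℝ) ≤ 1 - 1 / (e : ℝ) := by
    rw [sub_nonneg, div_le_one hepos]; linarith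
  have hstep2 : ∀ t, 2 * e ≤ t → v (t + 1) ≤ (1 - 1 / (e : ℝ)) * v t := fun t ht =>
    vseq_step h0 hA t _ hq0 (hle2 t ht)
  have hle : ∀ t, v t ≤ 2 * (M : ℝ) - 2 := by
    intro t
    induction t with
    | zero =>
      rw [hv, vseq_zero]
      push_cast
      linarith
    | succ t ih =>
      refine (hstep1 t).trans ?_
      rw [one_mul]; exact ih
  have hdec := decay (v := v) e (2 * e) (2 * (M : ℝ)) (by omega) (by linarith) hstep2
    (by have := hle (2 * e); linarith) (2 * P + 1)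
  have hfin := prod_bound M (2 * e + e * (2 * P + 1)) hM v (2 * (M : ℝ)) (by linarith) hnn
    (fun t => by have := hle t; linarith) (fun t ht => by
      refine (hdec t ht).trans ?_
      have hMpos : (0 : ℝ) < M := by linarith
      have h2P : (M : ℝ) * M ≤ 2 ^ (2 * P) := by
        have hP' : (M : ℝ) ≤ 2 ^ P := by exact_mod_cast hP
        calc (M : ℝ) * M ≤ 2 ^ P * 2 ^ P := mul_le_mul hP' hP' hMpos.le (by positivity)
          _ = 2 ^ (2 * P) := by rw [two_mul, pow_add]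
      rw [div_le_div_iff₀ (by positivity) hMpos, pow_succ]
      nlinarith)
  exact hfin

/-! ### The degree of transitivity -/

theorem pow_bound1 (J : ℕ) (hJ : 23 ≤ J) : 18 * (J + 1) ^ 5 ≤ 25 * 2 ^ J := by
  induction J, hJ using Nat.le_induction with
  | base => norm_num
  | succ J hJ ih =>
    have h1 : (J + 1 + 1) ^ 5 ≤ 2 * (J + 1) ^ 5 := by
      obtain ⟨k, rfl⟩ : ∃ k, J = k + 23 := ⟨J - 23, by omega⟩
      ring_nf
      nlinarith [Nat.zero_le k, Nat.zero_le (k ^ 2), Nat.zero_le (k ^ 3), Nat.zero_le (k ^ 4),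
        Nat.zero_le (k ^ 5)]
    rw [pow_succ 2 J]
    nlinarith

theorem pow_bound2 (J : ℕ) (hJ : 23 ≤ J) : (2 * J ^ 2 + 9 * J + 13) ^ 2 ≤ 2 ^ J := by
  induction J, hJ using Nat.le_induction with
  | base => norm_num
  | succ J hJ ih =>
    have h1 : (2 * (J + 1) ^ 2 + 9 * (J + 1) + 13) ^ 2 ≤ 2 * (2 * J ^ 2 + 9 * J + 13) ^ 2 := by
      obtain ⟨k, rfl⟩ : ∃ k, J = k + 23 := ⟨J - 23, by omega⟩
      ring_nf
      nlinarith [Nat.zero_le k, Nat.zero_le (k ^ 2), Nat.zero_le (k ^ 3), Nat.zero_le (k ^ 4)]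
    rw [pow_succ 2 J]
    linarith

theorem two_pow_le_centralBinom (m : ℕ) (hm : 1 ≤ m) : 2 ^ m ≤ Nat.centralBinom m := by
  have h1 : 4 ^ m ≤ 2 * m * Nat.centralBinom m := Nat.four_pow_le_two_mul_self_mul_centralBinom m hm
  have h2 : 2 * m ≤ 2 ^ m := by
    induction m, hm using Nat.le_induction with
    | base => norm_num
    | succ m hm ih =>
      have := ih (Nat.four_pow_le_two_mul_self_mul_centralBinom m hm)
      rw [pow_succ]
      omega
  have h3 : (4 : ℕ) ^ m = 2 ^ m * 2 ^ m := by rw [← mul_pow]; norm_num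
  have h4 : 2 ^ m * 2 ^ m ≤ 2 ^ m * Nat.centralBinom m := by
    rw [← h3]
    exact h1.trans (Nat.mul_le_mul_right _ h2)
  exact Nat.le_of_mul_le_mul_left h4 (by positivity)

theorem degree_bound (n j J : ℕ) (hJ : 23 ≤ J) (hJn : 2 ^ J ≤ n) (hnJ : n < 2 ^ (J + 1))
    (hW : Wcond n j) : (J + 1) * j ≤ n := by
  set P := J + 1 with hP
  set m := Nat.sqrt (n / (2 * P)) with hm
  have hPpos : 0 < 2 * P := by omega
  have h1 : m * m ≤ n / (2 * P) := Nat.sqrt_le _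
  have h2 : n / (2 * P) < (m + 1) * (m + 1) := Nat.lt_succ_sqrt _
  have h3 : m * m * (2 * P) ≤ n := (Nat.le_div_iff_mul_le hPpos).mp h1
  have h4 : n < (m + 1) * (m + 1) * (2 * P) := (Nat.div_lt_iff_lt_mul hPpos).mp h2
  have h5 := pow_bound1 J hJ
  rw [← hP] at h5
  -- `3 P² < 5 (m+1)`
  have h6 : 3 * P ^ 2 < 5 * (m + 1) := by
    by_contra hcon
    push Not at hcon
    have h7 : (5 * (m + 1)) * (5 * (m + 1)) ≤ (3 * P ^ 2) * (3 * P ^ 2) :=
      Nat.mul_self_le_mul_self hcon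
    have h8 : 25 * n < 25 * ((m + 1) * (m + 1) * (2 * P)) := by omega
    have h9 : 25 * ((m + 1) * (m + 1) * (2 * P)) = (5 * (m + 1)) * (5 * (m + 1)) * (2 * P) := by
      ring
    have h10 : (5 * (m + 1)) * (5 * (m + 1)) * (2 * P) ≤ (3 * P ^ 2) * (3 * P ^ 2) * (2 * P) :=
      Nat.mul_le_mul_right _ h7
    have h11 : (3 * P ^ 2) * (3 * P ^ 2) * (2 * P) = 18 * P ^ 5 := by ring
    omega
  have hP24 : 24 ≤ P := by omega
  have hPP : 24 * 24 ≤ P ^ 2 := by rw [sq]; exact Nat.mul_le_mul hP24 hP24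
  have hm17 : 17 ≤ m := by omega
  -- the main inequality
  have h12 : P * n ≤ m * (4 * m ^ 2 - 2) := by
    have h13 : P * n ≤ P * ((m + 1) * (m + 1) * (2 * P)) := Nat.mul_le_mul_left _ h4.le
    have h14 : 3 * (P * ((m + 1) * (m + 1) * (2 * P))) = 2 * ((m + 1) * (m + 1)) * (3 * P ^ 2) := by
      ring
    have h15 : 2 * ((m + 1) * (m + 1)) * (3 * P ^ 2) ≤ 2 * ((m + 1) * (m + 1)) * (5 * (m + 1)) :=
      Nat.mul_le_mul_left _ h6.le
    have h16 : 2 * ((m + 1) * (m + 1)) * (5 * (m + 1)) ≤ 3 * (m * (4 * m ^ 2 - 2)) := by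
      obtain ⟨k, hk⟩ : ∃ k, m = k + 17 := ⟨m - 17, by omega⟩
      rw [hk]
      have e1 : 4 * (k + 17) ^ 2 - 2 = 4 * k ^ 2 + 136 * k + 1154 := by
        have : 4 * (k + 17) ^ 2 = 4 * k ^ 2 + 136 * k + 1154 + 2 := by ring
        omega
      rw [e1]
      ring_nf
      nlinarith [Nat.zero_le k, Nat.zero_le (k ^ 2), Nat.zero_le (k ^ 3)]
    omega
  by_contra hcon
  push Not at hcon
  have hj : 2 * m ^ 2 ≤ j := by
    by_contra hcon2
    push Not at hcon2
    have : P * j ≤ P * (2 * m ^ 2) := Nat.mul_le_mul_left _ hcon2.le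
    have e2 : P * (2 * m ^ 2) = m * m * (2 * P) := by ring
    omega
  have hWm := hW m (by omega) hj
  have h17 : (2 ^ m) ^ (4 * m ^ 2 - 2) ≤ Nat.centralBinom m ^ (4 * m ^ 2 - 2) :=
    Nat.pow_le_pow_left (two_pow_le_centralBinom m (by omega)) _
  have h18 : n ^ n < (2 ^ P) ^ n := Nat.pow_lt_pow_left hnJ (by
    have : 0 < 2 ^ J := by positivity
    omega)
  have h19 : (2 ^ P) ^ n ≤ (2 ^ m) ^ (4 * m ^ 2 - 2) := by
    rw [← pow_mul, ← pow_mul]
    exact Nat.pow_le_pow_right (by norm_num) h12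
  exact absurd (h18.trans_le (h19.trans (h17.trans hWm))) (lt_irrefl _)

/-! ### The final statement -/

theorem good_large (n j : ℕ) (hn : 2 ^ 23 ≤ n) (hj : 1 ≤ j) (hjn : j ≤ n) (hW : Wcond n j) :
    Good n j := by
  set J := Nat.log 2 n with hJdef
  have hn0 : n ≠ 0 := by
    have : 0 < 2 ^ 23 := by norm_num
    omega
  have hJ : 23 ≤ J := (Nat.le_log_iff_pow_le (by norm_num) hn0).mpr hn
  have hJn : 2 ^ J ≤ n := Nat.pow_log_le_self 2 hn0
  have hnJ : n < 2 ^ (J + 1) := Nat.lt_pow_succ_log_self (by norm_num) n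
  have hdeg := degree_bound n j J hJ hJn hnJ hW
  set r := Nat.sqrt n with hr
  have hr1 : 2 * J ^ 2 + 9 * J + 13 ≤ r := by
    rw [hr, Nat.le_sqrt, ← sq]
    exact (pow_bound2 J hJ).trans hJn
  have hr2 : r * r ≤ n := Nat.sqrt_le n
  have hr3 : n < (r + 1) * (r + 1) := Nat.lt_succ_sqrt n
  have hkey : (2 * J ^ 2 + 9 * J + 10) * (r + 2) + 2 ≤ n := by
    refine le_trans ?_ hr2
    obtain ⟨k, hk⟩ : ∃ k, r = 2 * J ^ 2 + 9 * J + 13 + k := ⟨r - (2 * J ^ 2 + 9 * J + 13), by omega⟩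
    set C := 2 * J ^ 2 + 9 * J + 10 with hC
    have hk' : r = C + 3 + k := by omega
    rw [hk']
    nlinarith [Nat.zero_le k, Nat.zero_le C, Nat.zero_le (k * C), Nat.zero_le (k * k)]
  have h4n : (4 : ℝ) ^ n = 2 ^ (2 * n) := by
    rw [pow_mul]; norm_num
  have hnR : (n : ℝ) ≤ 2 ^ (J + 1) := by exact_mod_cast hnJ.le
  refine ⟨?_, ?_⟩
  · -- uniprimitive part
    have hM1 : 1 ≤ n - j + 1 := by omega
    have hMn : n - j + 1 ≤ n := by omega
    obtain ⟨hd1, hd2⟩ := dmin_spec (n - j + 1) hM1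
    have hd3 := dmin_le (n - j + 1) n hMn
    rw [← hr] at hd3
    set M := n - j + 1 with hM
    set d := dmin M with hd
    have hMP : M ≤ 2 ^ (J + 1) := hMn.trans hnJ.le
    have hMR : (M : ℝ) ≤ 2 ^ (J + 1) := by exact_mod_cast hMP
    have h1 := UB_le M d (J + 1) hM1 hd2 hd1 hMP
    have h2 : (n.descFactorial (j - 1) : ℝ) ≤ (2 ^ (J + 1)) ^ (j - 1) := by
      calc (n.descFactorial (j - 1) : ℝ) ≤ ((n ^ (j - 1) : ℕ) : ℝ) := by
            exact_mod_cast Nat.descFactorial_le_pow n (j - 1)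
        _ = (n : ℝ) ^ (j - 1) := by push_cast; ring
        _ ≤ _ := pow_le_pow_left₀ (Nat.cast_nonneg _) hnR _
    have hUB0 : (0 : ℝ) ≤ 4 * (M : ℝ) ^ (d * (2 * (J + 1))) := by positivity
    calc (n.descFactorial (j - 1) : ℝ) * UB M d
        ≤ (n.descFactorial (j - 1) : ℝ) * (4 * (M : ℝ) ^ (d * (2 * (J + 1)))) :=
          mul_le_mul_of_nonneg_left h1 (Nat.cast_nonneg _)
      _ ≤ (2 ^ (J + 1)) ^ (j - 1) * (4 * (M : ℝ) ^ (d * (2 * (J + 1)))) :=
          mul_le_mul_of_nonneg_right h2 hUB0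
      _ ≤ (2 ^ (J + 1)) ^ (j - 1) * (4 * (2 ^ (J + 1)) ^ (d * (2 * (J + 1)))) := by
          gcongr
      _ = 2 ^ ((J + 1) * (j - 1) + 2 + (J + 1) * (d * (2 * (J + 1)))) := by
          rw [← pow_mul, ← pow_mul, pow_add, pow_add]; norm_num; ring
      _ ≤ 2 ^ (2 * n) := by
          apply pow_le_pow_right₀ (by norm_num)
          have e1 : (J + 1) * (j - 1) ≤ (J + 1) * j := Nat.mul_le_mul_left _ (Nat.sub_le _ _)
          have e2 : (J + 1) * (d * (2 * (J + 1))) ≤ (J + 1) * ((r + 2) * (2 * (J + 1))) :=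
            Nat.mul_le_mul_left _ (Nat.mul_le_mul_right _ hd3)
          have e3 : (J + 1) * ((r + 2) * (2 * (J + 1))) = (2 * J ^ 2 + 4 * J + 2) * (r + 2) := by
            ring
          have e4 : (2 * J ^ 2 + 4 * J + 2) * (r + 2) ≤ (2 * J ^ 2 + 9 * J + 10) * (r + 2) :=
            Nat.mul_le_mul_right _ (by omega)
          omega
      _ = 4 ^ n := h4n.symm
  · -- imprimitive part
    intro hj2 b hb hb2 _
    refine ⟨2, by norm_num, ?_⟩
    have hM1 : 1 ≤ n - j + 2 := by omega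
    have hMn : n - j + 2 ≤ n := by omega
    set M := n - j + 2 with hM
    have hMP : M ≤ 2 ^ (J + 1) := hMn.trans hnJ.le
    have hMR : (M : ℝ) ≤ 2 ^ (J + 1) := by exact_mod_cast hMP
    have h1 := IB_le M b (r + 1) (J + 1) hM1 (by omega) (hMn.trans hr3.le) hb (by omega) hMP
    have h2 : (n.descFactorial (j - 2) : ℝ) ≤ (2 ^ (J + 1)) ^ (j - 2) := by
      calc (n.descFactorial (j - 2) : ℝ) ≤ ((n ^ (j - 2) : ℕ) : ℝ) := by
            exact_mod_cast Nat.descFactorial_le_pow n (j - 2)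
        _ = (n : ℝ) ^ (j - 2) := by push_cast; ring
        _ ≤ _ := pow_le_pow_left₀ (Nat.cast_nonneg _) hnR _
    have hIB0 : (0 : ℝ) ≤ 4 * (2 * (M : ℝ)) ^ (2 * (r + 1) + (r + 1) * (2 * (J + 1) + 1)) := by
      positivity
    calc (n.descFactorial (j - 2) : ℝ) * IB M b 2
        ≤ (n.descFactorial (j - 2) : ℝ) *
          (4 * (2 * (M : ℝ)) ^ (2 * (r + 1) + (r + 1) * (2 * (J + 1) + 1))) :=
          mul_le_mul_of_nonneg_left h1 (Nat.cast_nonneg _)
      _ ≤ (2 ^ (J + 1)) ^ (j - 2) *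
          (4 * (2 * (M : ℝ)) ^ (2 * (r + 1) + (r + 1) * (2 * (J + 1) + 1))) :=
          mul_le_mul_of_nonneg_right h2 hIB0
      _ ≤ (2 ^ (J + 1)) ^ (j - 2) *
          (4 * (2 ^ (J + 2)) ^ (2 * (r + 1) + (r + 1) * (2 * (J + 1) + 1))) := by
          have hM2 : 2 * (M : ℝ) ≤ 2 ^ (J + 2) := by
            rw [pow_succ 2 (J + 1)]; linarith
          gcongr
      _ = 2 ^ ((J + 1) * (j - 2) + 2 +
            (J + 2) * (2 * (r + 1) + (r + 1) * (2 * (J + 1) + 1))) := by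
          rw [← pow_mul, ← pow_mul, pow_add, pow_add]; norm_num; ring
      _ ≤ 2 ^ (2 * n) := by
          apply pow_le_pow_right₀ (by norm_num)
          have e1 : (J + 1) * (j - 2) ≤ (J + 1) * j := Nat.mul_le_mul_left _ (Nat.sub_le _ _)
          have e3 : (J + 2) * (2 * (r + 1) + (r + 1) * (2 * (J + 1) + 1)) =
              (2 * J ^ 2 + 9 * J + 10) * (r + 1) := by ring
          have e4 : (2 * J ^ 2 + 9 * J + 10) * (r + 1) ≤ (2 * J ^ 2 + 9 * J + 10) * (r + 2) :=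
            Nat.mul_le_mul_left _ (by omega)
          omega
      _ = 4 ^ n := h4n.symm

end Cfsg.Agent.PermutationGroups.OrderBound.NumLarge
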