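import Mathlib
import Cfsg.Agent.PermutationGroups.OrderBound.Defs
import Cfsg.Agent.PermutationGroups.OrderBound.NumLarge

/-!
# Order bound for primitive groups (S0725): block estimates for `UB` and `IB`

`UB_blocks`: for all `1 ≤ m ≤ n1`, `UB m (dmin m) ≤ 4 * ∏_{i < K} (1 + (n1-1)/2^i)^s`.
`IB_blocks`: for all `1 ≤ m ≤ n1`, `IB m b 2 ≤ 4 * ∏_{i < K} (1 + 2(n1-1)/2^(i(i-1)/2))^s`.
-/

set_option autoImplicit false

namespace Cfsg.Agent.PermutationGroups.OrderBound.NumBlocks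

open Cfsg.Agent.PermutationGroups.OrderBound.Defs
open Cfsg.Agent.PermutationGroups.OrderBound.NumLarge

theorem prod_range_blocks (s K : ℕ) (hs : 1 ≤ s) (F : ℕ → ℝ) :
    ∏ t ∈ Finset.range (s * K), F (t / s) = ∏ i ∈ Finset.range K, F i ^ s := by
  induction K with
  | zero => simp
  | succ K ih =>
    rw [Nat.mul_succ, Finset.prod_range_add, ih, Finset.prod_range_succ]
    congr 1
    have : ∀ x ∈ Finset.range s, F ((s * K + x) / s) = F K := by
      intro x hx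
      have hx' := Finset.mem_range.mp hx
      congr 1
      rw [Nat.mul_add_div (by omega), Nat.div_eq_of_lt hx', Nat.add_zero]
    rw [Finset.prod_congr rfl this, Finset.prod_const, Finset.card_range]

theorem prod_le_prod_add (F : ℕ → ℝ) (hF : ∀ t, 1 ≤ F t) (M k : ℕ) :
    ∏ t ∈ Finset.range M, F t ≤ ∏ t ∈ Finset.range (M + k), F t := by
  induction k with
  | zero => exact le_refl _
  | succ k ih =>
    rw [← Nat.add_assoc, Finset.prod_range_succ]
    have h0 : (0 : ℝ) ≤ ∏ t ∈ Finset.range (M + k), F t :=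
      Finset.prod_nonneg fun t _ => le_trans zero_le_one (hF t)
    have h1 := hF (M + k)
    nlinarith

theorem prod_blocks (M s K : ℕ) (hM : 1 ≤ M) (hs : 1 ≤ s) (v B : ℕ → ℝ) (hv : ∀ t, 0 ≤ v t)
    (hB : ∀ i, 0 ≤ B i) (h : ∀ i, i < K → ∀ t, s * i ≤ t → v t ≤ B i)
    (h2 : ∀ t, s * K ≤ t → v t ≤ 1 / (M : ℝ)) :
    ∏ t ∈ Finset.range M, (1 + v t) ≤ 4 * ∏ i ∈ Finset.range K, (1 + B i) ^ s := by
  have hM' : (0 : ℝ) < M := by exact_mod_cast hM
  set F : ℕ → ℝ := fun t => if t < s * K then 1 + B (t / s) else 1 with hFdef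
  have hF1 : ∀ t, 1 ≤ F t := by
    intro t
    simp only [hFdef]
    split_ifs
    · have := hB (t / s); linarith
    · exact le_refl _
  have hle : ∏ t ∈ Finset.range M, (1 + v t) ≤
      ∏ t ∈ Finset.range M, (F t * (1 + 1 / (M : ℝ))) := by
    apply Finset.prod_le_prod
    · intro t _; have := hv t; linarith
    · intro t _
      have hpos : (0 : ℝ) ≤ 1 / (M : ℝ) := by positivity
      by_cases ht : t < s * K
      · have hi : t / s < K := Nat.div_lt_of_lt_mul ht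
        have h3 := h (t / s) hi t (Nat.mul_div_le t s)
        have h4 : F t = 1 + B (t / s) := by simp only [hFdef]; rw [if_pos ht]
        rw [h4]
        have := hB (t / s)
        nlinarith
      · have h4 : F t = 1 := by simp only [hFdef]; rw [if_neg ht]
        rw [h4, one_mul]
        have := h2 t (not_lt.mp ht)
        linarith
  rw [Finset.prod_mul_distrib, Finset.prod_const, Finset.card_range] at hle
  have hexp : (1 + 1 / (M : ℝ)) ^ M ≤ 4 := by
    have h3 : (1 + 1 / (M : ℝ)) ^ M ≤ Real.exp 1 := by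
      have h4 : 1 + 1 / (M : ℝ) ≤ Real.exp (1 / (M : ℝ)) := by
        have := Real.add_one_le_exp (1 / (M : ℝ))
        linarith
      calc (1 + 1 / (M : ℝ)) ^ M ≤ (Real.exp (1 / (M : ℝ))) ^ M :=
            pow_le_pow_left₀ (by positivity) h4 M
        _ = Real.exp 1 := by
            rw [← Real.exp_nat_mul]
            congr 1
            field_simp
    have h5 := Real.exp_one_lt_d9
    linarith
  have hprod : ∏ t ∈ Finset.range M, F t ≤ ∏ i ∈ Finset.range K, (1 + B i) ^ s := by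
    have e1 : ∏ t ∈ Finset.range (s * K), F t = ∏ i ∈ Finset.range K, (1 + B i) ^ s := by
      rw [← prod_range_blocks s K hs (fun i => 1 + B i)]
      apply Finset.prod_congr rfl
      intro t ht
      simp only [hFdef]
      rw [if_pos (Finset.mem_range.mp ht)]
    rcases le_total M (s * K) with hle' | hle'
    · obtain ⟨k, hk⟩ := Nat.exists_eq_add_of_le hle'
      rw [← e1, hk]
      exact prod_le_prod_add F hF1 M k
    · obtain ⟨k, hk⟩ := Nat.exists_eq_add_of_le hle'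
      rw [hk, Finset.prod_range_add, e1]
      have : ∀ x ∈ Finset.range k, F (s * K + x) = 1 := by
        intro x _
        simp only [hFdef]
        rw [if_neg (by omega)]
      rw [Finset.prod_congr rfl this, Finset.prod_const_one, mul_one]
  have hprod0 : (0 : ℝ) ≤ ∏ i ∈ Finset.range K, (1 + B i) ^ s :=
    Finset.prod_nonneg fun i _ => pow_nonneg (by have := hB i; linarith) _
  calc ∏ t ∈ Finset.range M, (1 + v t)
      ≤ (∏ t ∈ Finset.range M, F t) * (1 + 1 / (M : ℝ)) ^ M := hle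
    _ ≤ (∏ i ∈ Finset.range K, (1 + B i) ^ s) * 4 :=
        mul_le_mul hprod hexp (by positivity) hprod0
    _ = 4 * ∏ i ∈ Finset.range K, (1 + B i) ^ s := by ring

theorem dmin_le_of (m D : ℕ) (hD : 1 ≤ D) (h : m - 1 ≤ D * (D - 1)) : dmin m ≤ D := by
  have hdef : dmin m = (Nat.sqrt (4 * m - 4) + 3) / 2 := rfl
  set y := Nat.sqrt (4 * m - 4) with hy
  have h1 : y * y ≤ 4 * m - 4 := Nat.sqrt_le _
  obtain ⟨e, rfl⟩ : ∃ e, D = e + 1 := ⟨D - 1, by omega⟩
  rw [Nat.add_sub_cancel] at h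
  have h3 : y < 2 * e + 1 := by
    by_contra hcon
    push Not at hcon
    have h4 : (2 * e + 1) * (2 * e + 1) ≤ y * y := Nat.mul_self_le_mul_self hcon
    have h5 : (2 * e + 1) * (2 * e + 1) = 4 * ((e + 1) * e) + 1 := by ring
    omega
  rw [hdef]
  omega

theorem pow_le_half {a b s : ℕ} (hb : 1 ≤ b) (h : 2 * a ^ s ≤ b ^ s) :
    ((a : ℝ) / b) ^ s ≤ 1 / 2 := by
  have hb' : (0 : ℝ) < b := by exact_mod_cast hb
  have h' : 2 * (a : ℝ) ^ s ≤ (b : ℝ) ^ s := by exact_mod_cast h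
  rw [div_pow, div_le_div_iff₀ (by positivity) (by norm_num)]
  linarith

theorem UB_blocks (m n1 D s K : ℕ) (hm : 1 ≤ m) (hmn : m ≤ n1) (hD : 1 ≤ D)
    (hD2 : n1 - 1 ≤ D * (D - 1)) (hs : 1 ≤ s) (hs2 : 2 * (D - 1) ^ s ≤ D ^ s)
    (hK : (n1 - 1) * n1 ≤ 2 ^ K) :
    UB m (dmin m) ≤ 4 * ∏ i ∈ Finset.range K, (1 + ((n1 - 1 : ℕ) : ℝ) / 2 ^ i) ^ s := by
  have hM1 : (1 : ℝ) ≤ m := by exact_mod_cast hm
  have hdD : dmin m ≤ D := dmin_le_of m D hD (by omega)
  obtain ⟨hdM, hd⟩ := dmin_spec m hm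
  set d := dmin m with hddef
  have hd1 : (1 : ℝ) ≤ d := by exact_mod_cast hd
  have hD1 : (1 : ℝ) ≤ D := by exact_mod_cast hD
  have h0 : (0 : ℝ) ≤ (m : ℝ) - 1 := by linarith
  have hA : ∀ t, (0 : ℝ) ≤ (fun t => ((m - t - d : ℕ) : ℝ)) t := fun t => Nat.cast_nonneg _
  have hqe : (((D - 1 : ℕ) : ℝ) / D) = 1 - 1 / (D : ℝ) := by
    rw [Nat.cast_sub hD, Nat.cast_one]
    field_simp
  have hq0 : (0 : ℝ) ≤ 1 - 1 / (D : ℝ) := by rw [← hqe]; positivity
  have hq1 : 1 - 1 / (D : ℝ) ≤ 1 := by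
    have : (0 : ℝ) ≤ 1 / (D : ℝ) := by positivity
    linarith
  have hstep : ∀ t, vseq m ((m : ℝ) - 1) (fun t => ((m - t - d : ℕ) : ℝ)) (t + 1) ≤
      (1 - 1 / (D : ℝ)) * vseq m ((m : ℝ) - 1) (fun t => ((m - t - d : ℕ) : ℝ)) t := by
    intro t
    apply vseq_step h0 hA t _ hq0
    have hnat : (m - t - d) * d ≤ (d - 1) * (m - t - 1) := by
      rcases Nat.lt_or_ge (m - t) d with h | h
      · rw [Nat.sub_eq_zero_of_le h.le, zero_mul]; exact Nat.zero_le _
      · obtain ⟨u, hu⟩ : ∃ u, m - t = d + u := ⟨m - t - d, by omega⟩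
        obtain ⟨c, hc⟩ : ∃ c, d = c + 1 := ⟨d - 1, by omega⟩
        rw [hc] at hdM hu ⊢
        have e1 : m - t - (c + 1) = u := by omega
        have e2 : m - t - 1 = c + u := by omega
        rw [e1, e2, Nat.add_sub_cancel]
        rw [Nat.add_sub_cancel] at hdM
        have h3 : c + u ≤ m - 1 := by omega
        have h4 : c + u ≤ (c + 1) * c := h3.trans hdM
        nlinarith
    have hdpos : (0 : ℝ) < d := by linarith
    have hreal : ((m - t - d : ℕ) : ℝ) * d ≤ ((d : ℝ) - 1) * ((m - t - 1 : ℕ) : ℝ) := by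
      have : (((m - t - d) * d : ℕ) : ℝ) ≤ (((d - 1) * (m - t - 1) : ℕ) : ℝ) := by
        exact_mod_cast hnat
      rw [Nat.cast_mul, Nat.cast_mul, Nat.cast_sub hd, Nat.cast_one] at this
      exact this
    show ((m - t - d : ℕ) : ℝ) ≤ _
    have e3 : ((m - t - d : ℕ) : ℝ) ≤ (1 - 1 / (d : ℝ)) * ((m - t - 1 : ℕ) : ℝ) := by
      have e3 : (1 - 1 / (d : ℝ)) * ((m - t - 1 : ℕ) : ℝ) =
          (((d : ℝ) - 1) * ((m - t - 1 : ℕ) : ℝ)) / d := by
        field_simp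
      rw [e3, le_div_iff₀ hdpos]
      exact hreal
    refine e3.trans (mul_le_mul_of_nonneg_right ?_ (Nat.cast_nonneg _))
    have : 1 / (D : ℝ) ≤ 1 / (d : ℝ) :=
      one_div_le_one_div_of_le hdpos (by exact_mod_cast hdD)
    linarith
  set v := vseq m ((m : ℝ) - 1) (fun t => ((m - t - d : ℕ) : ℝ)) with hv
  have hnn : ∀ t, 0 ≤ v t := vseq_nonneg h0 hA
  have hN : (m : ℝ) - 1 ≤ ((n1 - 1 : ℕ) : ℝ) := by
    have : ((m - 1 : ℕ) : ℝ) ≤ ((n1 - 1 : ℕ) : ℝ) := by
      exact_mod_cast Nat.sub_le_sub_right hmn 1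
    rwa [Nat.cast_sub hm, Nat.cast_one] at this
  have hgeo : ∀ t, v t ≤ (1 - 1 / (D : ℝ)) ^ t * ((n1 - 1 : ℕ) : ℝ) := by
    intro t
    induction t with
    | zero => rw [pow_zero, one_mul]; exact hN
    | succ t ih =>
      calc v (t + 1) ≤ (1 - 1 / (D : ℝ)) * v t := hstep t
        _ ≤ (1 - 1 / (D : ℝ)) * ((1 - 1 / (D : ℝ)) ^ t * ((n1 - 1 : ℕ) : ℝ)) :=
          mul_le_mul_of_nonneg_left ih hq0
        _ = _ := by rw [pow_succ]; ring
  have hhalf : (1 - 1 / (D : ℝ)) ^ s ≤ 1 / 2 := by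
    rw [← hqe]; exact pow_le_half hD hs2
  have hblock : ∀ i t, s * i ≤ t → v t ≤ ((n1 - 1 : ℕ) : ℝ) / 2 ^ i := by
    intro i t ht
    calc v t ≤ (1 - 1 / (D : ℝ)) ^ t * ((n1 - 1 : ℕ) : ℝ) := hgeo t
      _ ≤ (1 - 1 / (D : ℝ)) ^ (s * i) * ((n1 - 1 : ℕ) : ℝ) :=
        mul_le_mul_of_nonneg_right (pow_le_pow_of_le_one hq0 hq1 ht) (Nat.cast_nonneg _)
      _ = ((1 - 1 / (D : ℝ)) ^ s) ^ i * ((n1 - 1 : ℕ) : ℝ) := by rw [pow_mul]
      _ ≤ (1 / 2) ^ i * ((n1 - 1 : ℕ) : ℝ) :=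
        mul_le_mul_of_nonneg_right (pow_le_pow_left₀ (pow_nonneg hq0 _) hhalf i)
          (Nat.cast_nonneg _)
      _ = ((n1 - 1 : ℕ) : ℝ) / 2 ^ i := by rw [one_div, inv_pow]; ring
  refine prod_blocks m s K hm hs v (fun i => ((n1 - 1 : ℕ) : ℝ) / 2 ^ i) hnn
    (fun i => by positivity) (fun i _ t ht => hblock i t ht) (fun t ht => ?_)
  refine (hblock K t ht).trans ?_
  have hmpos : (0 : ℝ) < m := by linarith
  rw [div_le_div_iff₀ (by positivity) hmpos, one_mul]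
  have h6 : (n1 - 1) * m ≤ 2 ^ K := (Nat.mul_le_mul_left _ hmn).trans hK
  exact_mod_cast h6

/-- Bernoulli. -/
theorem one_sub_mul_le_pow (x : ℝ) (hx1 : x ≤ 1) (i : ℕ) :
    1 - i * x ≤ (1 - x) ^ i := by
  have := one_add_mul_le_pow (a := -x) (by linarith) i
  have e : 1 + (i : ℝ) * -x = 1 - i * x := by ring
  rw [e] at this
  have e2 : (1 + -x) = 1 - x := by ring
  rwa [e2] at this

theorem tri_succ (i : ℕ) : (i + 1) * i / 2 = i * (i - 1) / 2 + i := by
  cases i with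
  | zero => rfl
  | succ k =>
    rw [Nat.add_sub_cancel]
    have e : (k + 1 + 1) * (k + 1) = (k + 1) * k + 2 * (k + 1) := by ring
    rw [e, Nat.add_mul_div_left _ _ (by norm_num)]

theorem IB_blocks (m n1 b s K : ℕ) (hm : 1 ≤ m) (hmn : m ≤ n1) (hb : 2 ≤ b)
    (hb2 : 2 * b ≤ m - 1) (hs : 1 ≤ s)
    (hs2 : 2 * (3 * (n1 - 1) - 2 * s) ^ s ≤ (3 * (n1 - 1)) ^ s)
    (hK1 : 8 * K * s ≤ 3 * (n1 - 1)) (hK2 : 2 * (n1 - 1) * n1 ≤ 2 ^ (K * (K - 1) / 2)) :
    IB m b 2 ≤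
      4 * ∏ i ∈ Finset.range K, (1 + ((2 * (n1 - 1) : ℕ) : ℝ) / 2 ^ (i * (i - 1) / 2)) ^ s := by
  have hM1 : (1 : ℝ) ≤ m := by exact_mod_cast hm
  have h0 : (0 : ℝ) ≤ ((2 : ℕ) : ℝ) * ((m : ℝ) - 1) := by
    have : (0 : ℝ) ≤ (m : ℝ) - 1 := by linarith
    positivity
  have hN5 : 4 ≤ n1 - 1 := by omega
  set N := n1 - 1 with hNdef
  have hKpos : 1 ≤ K := by
    rcases Nat.eq_zero_or_pos K with h | h
    · rw [h] at hK2
      have : 1 ≤ N := by omega
      have h2 : 1 * 1 ≤ N * n1 := Nat.mul_le_mul this (by omega)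
      have h3 : 2 * N * n1 = 2 * (N * n1) := by ring
      simp only [Nat.zero_mul, Nat.zero_div, pow_zero] at hK2
      omega
    · exact h
  have hsN : 8 * s ≤ 3 * N := by
    have : 8 * 1 * s ≤ 8 * K * s := Nat.mul_le_mul_right _ (Nat.mul_le_mul_left _ hKpos)
    omega
  have hNR : (4 : ℝ) ≤ (N : ℝ) := by exact_mod_cast hN5
  have hNpos : (0 : ℝ) < (N : ℝ) := by linarith
  -- x = 2s/(3N)
  set x : ℝ := 2 * (s : ℝ) / (3 * (N : ℝ)) with hx
  have hx0 : 0 ≤ x := by positivity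
  have hx14 : (K : ℝ) * x ≤ 1 / 4 := by
    rw [hx]
    have : (8 : ℝ) * K * s ≤ 3 * N := by exact_mod_cast hK1
    rw [mul_div_assoc', div_le_div_iff₀ (by positivity) (by norm_num)]
    nlinarith
  have hx1 : x ≤ 1 := by
    have : (1 : ℝ) ≤ K := by exact_mod_cast hKpos
    nlinarith
  have hhalf : (1 - x) ^ s ≤ 1 / 2 := by
    have h1 : ((3 * N - 2 * s : ℕ) : ℝ) / ((3 * N : ℕ) : ℝ) = 1 - x := by
      rw [Nat.cast_sub (by omega), hx]
      push_cast
      field_simp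
    rw [← h1]
    exact pow_le_half (by omega) hs2
  have h1x0 : 0 ≤ 1 - x := by linarith
  have h1x1 : 1 - x ≤ 1 := by linarith
  -- real second branch
  have hsecond : ∀ t, t < b → ((b - 1 - t : ℕ) : ℝ) + ((m - 1 - b : ℕ) : ℝ) / ((2 : ℕ) : ℝ) ≤
      (3 / 4) * ((m - t - 1 : ℕ) : ℝ) := by
    intro t ht
    have hnat : 4 * (b - 1 - t) + 2 * (m - 1 - b) ≤ 3 * (m - t - 1) := by omega
    have hreal : 4 * ((b - 1 - t : ℕ) : ℝ) + 2 * ((m - 1 - b : ℕ) : ℝ) ≤
        3 * ((m - t - 1 : ℕ) : ℝ) := by exact_mod_cast hnat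
    push_cast
    linarith
  have hA : ∀ t, (0 : ℝ) ≤ AI m b 2 t := by
    intro t
    rw [AI]
    split_ifs with ht
    · exact le_max_of_le_left (Nat.cast_nonneg _)
    · exact Nat.cast_nonneg _
  have hstepA : ∀ i t, i ≤ K → s * i ≤ t →
      AI m b 2 t ≤ (1 - x) ^ i * ((m - t - 1 : ℕ) : ℝ) := by
    intro i t hi ht
    have hX0 : (0 : ℝ) ≤ ((m - t - 1 : ℕ) : ℝ) := Nat.cast_nonneg _
    have hbern := one_sub_mul_le_pow x hx1 i
    have hi' : (i : ℝ) ≤ K := by exact_mod_cast hi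
    have h34 : (3 : ℝ) / 4 ≤ (1 - x) ^ i := by
      refine le_trans ?_ hbern
      have : (i : ℝ) * x ≤ K * x := mul_le_mul_of_nonneg_right hi' hx0
      linarith
    have hfirst : ((m - t - max (2 * b) (t + 3 - b) : ℕ) : ℝ) ≤
        (1 - x) ^ i * ((m - t - 1 : ℕ) : ℝ) := by
      refine le_trans ?_ (mul_le_mul_of_nonneg_right hbern hX0)
      have hmax : 2 * (t + 3) ≤ 3 * max (2 * b) (t + 3 - b) := by
        have h1 := le_max_left (2 * b) (t + 3 - b)
        have h2 := le_max_right (2 * b) (t + 3 - b)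
        omega
      rcases Nat.lt_or_ge (m - t) (max (2 * b) (t + 3 - b)) with h | h
      · rw [Nat.sub_eq_zero_of_le h.le, Nat.cast_zero]
        apply mul_nonneg _ hX0
        have : (i : ℝ) * x ≤ K * x := mul_le_mul_of_nonneg_right hi' hx0
        linarith
      · -- `3 * (m - t - max) + 2 s i ≤ 3 (m - t - 1)`
        have hnat : 3 * (m - t - max (2 * b) (t + 3 - b)) + 2 * (s * i) ≤ 3 * (m - t - 1) := by
          omega
        have hreal : 3 * ((m - t - max (2 * b) (t + 3 - b) : ℕ) : ℝ) + 2 * (s * i) ≤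
            3 * ((m - t - 1 : ℕ) : ℝ) := by exact_mod_cast hnat
        have hXN : ((m - t - 1 : ℕ) : ℝ) ≤ (N : ℝ) := by
          have : m - t - 1 ≤ N := by omega
          exact_mod_cast this
        have hkey : (i : ℝ) * x * ((m - t - 1 : ℕ) : ℝ) ≤ 2 * (s * i) / 3 := by
          have e1 : (i : ℝ) * x * ((m - t - 1 : ℕ) : ℝ) ≤ (i : ℝ) * x * N :=
            mul_le_mul_of_nonneg_left hXN (by positivity)
          have e2 : (i : ℝ) * x * N = 2 * (s * i) / 3 := by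
            rw [hx]; field_simp
          linarith
        have e3 : (1 - (i : ℝ) * x) * ((m - t - 1 : ℕ) : ℝ) =
            ((m - t - 1 : ℕ) : ℝ) - (i : ℝ) * x * ((m - t - 1 : ℕ) : ℝ) := by ring
        rw [e3]
        linarith
    rw [AI]
    split_ifs with htb
    · apply max_le hfirst
      exact (hsecond t htb).trans (mul_le_mul_of_nonneg_right h34 hX0)
    · exact hfirst
  set v := vseq m (((2 : ℕ) : ℝ) * ((m : ℝ) - 1)) (AI m b 2) with hv
  have hnn : ∀ t, 0 ≤ v t := vseq_nonneg h0 hA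
  have hstep : ∀ i t, i ≤ K → s * i ≤ t → v (t + 1) ≤ (1 - x) ^ i * v t := fun i t hi ht =>
    vseq_step h0 hA t _ (pow_nonneg h1x0 _) (hstepA i t hi ht)
  have hmono : ∀ t r, v (t + r) ≤ v t := by
    intro t r
    induction r with
    | zero => exact le_refl _
    | succ r ih =>
      have := hstep 0 (t + r) (Nat.zero_le _) (by omega)
      rw [pow_zero, one_mul] at this
      exact this.trans ih
  have hgeo : ∀ i, i ≤ K → ∀ r, v (s * i + r) ≤ ((1 - x) ^ i) ^ r * v (s * i) := by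
    intro i hi r
    induction r with
    | zero => rw [pow_zero, one_mul, Nat.add_zero]
    | succ r ih =>
      calc v (s * i + (r + 1)) = v (s * i + r + 1) := by rw [Nat.add_assoc]
        _ ≤ (1 - x) ^ i * v (s * i + r) := hstep i _ hi (by omega)
        _ ≤ (1 - x) ^ i * (((1 - x) ^ i) ^ r * v (s * i)) :=
          mul_le_mul_of_nonneg_left ih (pow_nonneg h1x0 _)
        _ = _ := by rw [pow_succ]; ring
  have hN : (m : ℝ) - 1 ≤ (N : ℝ) := by
    have : ((m - 1 : ℕ) : ℝ) ≤ (N : ℝ) := by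
      exact_mod_cast Nat.sub_le_sub_right hmn 1
    rwa [Nat.cast_sub hm, Nat.cast_one] at this
  have hpt : ∀ i, i ≤ K → v (s * i) ≤ ((2 * N : ℕ) : ℝ) / 2 ^ (i * (i - 1) / 2) := by
    intro i
    induction i with
    | zero =>
      intro _
      rw [Nat.mul_zero, hv, vseq_zero]
      simp only [Nat.zero_mul, Nat.zero_div, pow_zero, div_one]
      push_cast
      linarith
    | succ i ih =>
      intro hi
      have ih' := ih (by omega)
      have h1 := hgeo i (by omega) s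
      have e1 : ((1 - x) ^ i) ^ s = ((1 - x) ^ s) ^ i := by rw [← pow_mul, ← pow_mul, mul_comm]
      have h2 : ((1 - x) ^ s) ^ i ≤ (1 / 2) ^ i :=
        pow_le_pow_left₀ (pow_nonneg h1x0 _) hhalf i
      rw [Nat.add_sub_cancel, tri_succ, Nat.mul_succ]
      calc v (s * i + s) ≤ ((1 - x) ^ i) ^ s * v (s * i) := h1
        _ ≤ (1 / 2) ^ i * (((2 * N : ℕ) : ℝ) / 2 ^ (i * (i - 1) / 2)) := by
          rw [e1]
          exact mul_le_mul h2 ih' (hnn _) (by positivity)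
        _ = ((2 * N : ℕ) : ℝ) / 2 ^ (i * (i - 1) / 2 + i) := by
          rw [pow_add, one_div, inv_pow]
          field_simp
  have hblock : ∀ i, i ≤ K → ∀ t, s * i ≤ t →
      v t ≤ ((2 * N : ℕ) : ℝ) / 2 ^ (i * (i - 1) / 2) := by
    intro i hi t ht
    obtain ⟨r, rfl⟩ := Nat.exists_eq_add_of_le ht
    exact (hmono _ r).trans (hpt i hi)
  refine prod_blocks m s K hm hs v (fun i => ((2 * N : ℕ) : ℝ) / 2 ^ (i * (i - 1) / 2)) hnn
    (fun i => by positivity) (fun i hi t ht => hblock i hi.le t ht) (fun t ht => ?_)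
  refine (hblock K le_rfl t ht).trans ?_
  have hmpos : (0 : ℝ) < m := by linarith
  rw [div_le_div_iff₀ (by positivity) hmpos, one_mul]
  have h6 : 2 * N * m ≤ 2 ^ (K * (K - 1) / 2) := (Nat.mul_le_mul_left _ hmn).trans hK2
  exact_mod_cast h6

end Cfsg.Agent.PermutationGroups.OrderBound.NumBlocks
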