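import Mathlib
import Cfsg.Agent.PermutationGroups.OrderBound.Defs
import Cfsg.Agent.PermutationGroups.OrderBound.NumBlocks

/-!
# Order bound for primitive groups (S0725): numerics for `544 ≤ n < 2 ^ 23`

A sparse chain of primes `541 = p_0 < p_1 < ...`; for `p_i + 3 ≤ n ≤ p_{i+1} + 2` the degree of
transitivity `j` satisfies `j ≤ n - p_i`; the worst `n` of the block is `p_{i+1} + 2`, where
one arithmetic check (in units of a sixteenth of a bit) is done by the kernel.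
-/

set_option autoImplicit false

namespace Cfsg.Agent.PermutationGroups.OrderBound.NumMid

open Cfsg.Agent.PermutationGroups.OrderBound.Defs
open Cfsg.Agent.PermutationGroups.OrderBound.NumBlocks

/-- `(a / b) ^ 16 ≤ 2 ^ lg a b` -/
def lg (a b : ℕ) : ℕ := Nat.log2 (a ^ 16 / b ^ 16) + 1

theorem lg_spec (a b : ℕ) (hb : 1 ≤ b) : ((a : ℝ) / b) ^ 16 ≤ 2 ^ lg a b := by
  have h1 : a ^ 16 / b ^ 16 < 2 ^ lg a b := Nat.lt_log2_self
  have hb' : 0 < b ^ 16 := by positivity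
  have h2 : a ^ 16 < 2 ^ lg a b * b ^ 16 := (Nat.div_lt_iff_lt_mul hb').mp h1
  have hb'' : (0 : ℝ) < (b : ℝ) ^ 16 := by exact_mod_cast hb'
  rw [div_pow, div_le_iff₀ hb'']
  exact_mod_cast h2.le

/-- `∑_{i < k} lg (f i) (g i)` -/
def sumLg (f g : ℕ → ℕ) : ℕ → ℕ
  | 0 => 0
  | (k + 1) => sumLg f g k + lg (f k) (g k)

theorem sumLg_spec (f g : ℕ → ℕ) (hg : ∀ i, 1 ≤ g i) (K : ℕ) :
    ∏ i ∈ Finset.range K, (((f i : ℝ) / g i) ^ 16) ≤ 2 ^ sumLg f g K := by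
  induction K with
  | zero => simp [sumLg]
  | succ K ih =>
    rw [Finset.prod_range_succ, sumLg, pow_add]
    exact mul_le_mul ih (lg_spec _ _ (hg K)) (by positivity) (by positivity)

theorem bits_bound (f g : ℕ → ℕ) (hg : ∀ i, 1 ≤ g i) (s K n1 h : ℕ)
    (hE : 32 + s * sumLg f g K + h * lg n1 1 ≤ 32 * n1) :
    (4 * ∏ i ∈ Finset.range K, ((f i : ℝ) / g i) ^ s) * (n1 : ℝ) ^ h ≤ 4 ^ n1 := by
  have h0 : (0 : ℝ) ≤ ∏ i ∈ Finset.range K, ((f i : ℝ) / g i) ^ s :=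
    Finset.prod_nonneg fun i _ => by positivity
  refine le_of_pow_le_pow_left₀ (n := 16) (by norm_num) (by positivity) ?_
  have e1 : ((4 * ∏ i ∈ Finset.range K, ((f i : ℝ) / g i) ^ s) * (n1 : ℝ) ^ h) ^ 16 =
      2 ^ 32 * (∏ i ∈ Finset.range K, (((f i : ℝ) / g i) ^ 16)) ^ s *
        (((n1 : ℝ) / ((1 : ℕ) : ℝ)) ^ 16) ^ h := by
    rw [mul_pow, mul_pow, ← Finset.prod_pow, ← Finset.prod_pow, Nat.cast_one, div_one]
    congr 1
    · congr 1
      · norm_num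
      · apply Finset.prod_congr rfl
        intro i _
        rw [← pow_mul, ← pow_mul, mul_comm]
    · rw [← pow_mul, ← pow_mul, mul_comm]
  rw [e1]
  have h2 : (∏ i ∈ Finset.range K, (((f i : ℝ) / g i) ^ 16)) ^ s ≤ (2 ^ sumLg f g K) ^ s :=
    pow_le_pow_left₀ (Finset.prod_nonneg fun i _ => by positivity) (sumLg_spec f g hg K) s
  have h3 : (((n1 : ℝ) / ((1 : ℕ) : ℝ)) ^ 16) ^ h ≤ (2 ^ lg n1 1) ^ h :=
    pow_le_pow_left₀ (by positivity) (lg_spec n1 1 le_rfl) h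
  calc (2 : ℝ) ^ 32 * (∏ i ∈ Finset.range K, (((f i : ℝ) / g i) ^ 16)) ^ s *
        (((n1 : ℝ) / ((1 : ℕ) : ℝ)) ^ 16) ^ h
      ≤ 2 ^ 32 * (2 ^ sumLg f g K) ^ s * (2 ^ lg n1 1) ^ h := by
        apply mul_le_mul _ h3 (by positivity) (by positivity)
        exact mul_le_mul_of_nonneg_left h2 (by positivity)
    _ = 2 ^ (32 + s * sumLg f g K + h * lg n1 1) := by
        rw [← pow_mul, ← pow_mul, ← pow_add, ← pow_add, mul_comm (sumLg f g K) s,
          mul_comm (lg n1 1) h]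
    _ ≤ 2 ^ (32 * n1) := pow_le_pow_right₀ (by norm_num) hE
    _ = (4 ^ n1) ^ 16 := by
        rw [← pow_mul, show (4 : ℝ) = 2 ^ 2 by norm_num, ← pow_mul]
        congr 1
        ring

/-- the check for the block `p + 3 ≤ n ≤ p' + 2`. -/
def chk (p p' D sU KU sI KI : ℕ) : Bool :=
  Nat.ble 5 p && Nat.blt p p' && Nat.blt (p' + 2) (2 * p) && Nat.ble 1 D &&
  Nat.ble (p' + 1) (D * (D - 1)) &&
  Nat.ble 1 sU && Nat.ble (2 * (D - 1) ^ sU) (D ^ sU) && Nat.ble ((p' + 1) * (p' + 2)) (2 ^ KU) &&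
  Nat.ble 1 sI && Nat.ble (2 * (3 * (p' + 1) - 2 * sI) ^ sI) ((3 * (p' + 1)) ^ sI) &&
  Nat.ble (8 * KI * sI) (3 * (p' + 1)) &&
  Nat.ble (2 * (p' + 1) * (p' + 2)) (2 ^ (KI * (KI - 1) / 2)) &&
  Nat.ble (32 + sU * sumLg (fun i => 2 ^ i + (p' + 1)) (fun i => 2 ^ i) KU +
    (p' - p + 1) * lg (p' + 2) 1) (32 * (p' + 2)) &&
  Nat.ble (32 + sI * sumLg (fun i => 2 ^ (i * (i - 1) / 2) + 2 * (p' + 1))
    (fun i => 2 ^ (i * (i - 1) / 2)) KI + (p' - p) * lg (p' + 2) 1) (32 * (p' + 2))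

/-- from the end of a block to any point of it. -/
theorem shift_bound (n n1 e : ℕ) (C : ℝ) (hC : 0 ≤ C) (hn1 : 4 ≤ n1) (hnn : n ≤ n1)
    (h : C * (n1 : ℝ) ^ (e + (n1 - n)) ≤ 4 ^ n1) : C * (n1 : ℝ) ^ e ≤ 4 ^ n := by
  obtain ⟨r, hr⟩ := Nat.exists_eq_add_of_le hnn
  have hr' : n1 - n = r := by omega
  rw [hr', pow_add] at h
  have h4 : (4 : ℝ) ≤ (n1 : ℝ) := by exact_mod_cast hn1
  have h5 : (4 : ℝ) ^ r ≤ (n1 : ℝ) ^ r := pow_le_pow_left₀ (by norm_num) h4 r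
  have h6 : (4 : ℝ) ^ n1 = 4 ^ n * 4 ^ r := by rw [← pow_add]; congr 1
  have h7 : C * (n1 : ℝ) ^ e * 4 ^ r ≤ 4 ^ n * 4 ^ r := by
    rw [← h6]
    calc C * (n1 : ℝ) ^ e * 4 ^ r ≤ C * (n1 : ℝ) ^ e * (n1 : ℝ) ^ r :=
          mul_le_mul_of_nonneg_left h5 (by positivity)
      _ = C * ((n1 : ℝ) ^ e * (n1 : ℝ) ^ r) := by ring
      _ ≤ _ := h
  exact le_of_mul_le_mul_right h7 (by positivity)

theorem good_block (p p' D sU KU sI KI n j : ℕ) (hp : p.Prime)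
    (hchk : chk p p' D sU KU sI KI = true) (hn : p + 3 ≤ n) (hn' : n ≤ p' + 2) (hj : 1 ≤ j)
    (hK : Kcond n j) : Good n j := by
  simp only [chk, Bool.and_eq_true, Nat.ble_eq, Nat.blt_eq] at hchk
  obtain ⟨⟨⟨⟨⟨⟨⟨⟨⟨⟨⟨⟨⟨h1, h2⟩, h3⟩, h4⟩, h5⟩, h6⟩, h7⟩, h8⟩, h9⟩, h10⟩, h11⟩, h12⟩, h13⟩, h14⟩ :=
    hchk
  have hjn : j + 1 * p ≤ n := hK p 1 hp h1 (Or.inl rfl) (by omega) (by omega)
  have hfg1 : ∀ i : ℕ, 1 + ((p' + 2 - 1 : ℕ) : ℝ) / 2 ^ i =
      (((2 ^ i + (p' + 1) : ℕ) : ℝ) / ((2 ^ i : ℕ) : ℝ)) := by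
    intro i
    rw [show p' + 2 - 1 = p' + 1 by omega]
    push_cast
    field_simp
  have hfg2 : ∀ i : ℕ, 1 + ((2 * (p' + 2 - 1) : ℕ) : ℝ) / 2 ^ (i * (i - 1) / 2) =
      (((2 ^ (i * (i - 1) / 2) + 2 * (p' + 1) : ℕ) : ℝ) / ((2 ^ (i * (i - 1) / 2) : ℕ) : ℝ)) := by
    intro i
    rw [show p' + 2 - 1 = p' + 1 by omega]
    push_cast
    field_simp
  have hnR : (n : ℝ) ≤ ((p' + 2 : ℕ) : ℝ) := by exact_mod_cast hn'
  have hn1R : (1 : ℝ) ≤ ((p' + 2 : ℕ) : ℝ) := by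
    have : 1 ≤ p' + 2 := by omega
    exact_mod_cast this
  refine ⟨?_, ?_⟩
  · have hU := UB_blocks (n - j + 1) (p' + 2) D sU KU (by omega) (by omega) h4
      (by simpa using h5) h6 h7 (by simpa using h8)
    simp only [hfg1] at hU
    have hE := bits_bound (fun i => 2 ^ i + (p' + 1)) (fun i => 2 ^ i)
      (fun i => Nat.one_le_two_pow) sU KU (p' + 2) (p' - p + 1) h13
    set C : ℝ := 4 * ∏ i ∈ Finset.range KU,
      (((2 ^ i + (p' + 1) : ℕ) : ℝ) / ((2 ^ i : ℕ) : ℝ)) ^ sU with hCdef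
    have hC0 : 0 ≤ C := by
      apply mul_nonneg (by norm_num)
      exact Finset.prod_nonneg fun i _ => by positivity
    have hD : (n.descFactorial (j - 1) : ℝ) ≤ ((p' + 2 : ℕ) : ℝ) ^ (n - p - 1) := by
      calc (n.descFactorial (j - 1) : ℝ) ≤ ((n ^ (j - 1) : ℕ) : ℝ) := by
            exact_mod_cast Nat.descFactorial_le_pow n (j - 1)
        _ = (n : ℝ) ^ (j - 1) := by push_cast; ring
        _ ≤ ((p' + 2 : ℕ) : ℝ) ^ (j - 1) := pow_le_pow_left₀ (Nat.cast_nonneg _) hnR _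
        _ ≤ _ := pow_le_pow_right₀ hn1R (by omega)
    have hfin := shift_bound n (p' + 2) (n - p - 1) C hC0 (by omega) hn' (by
      rw [show n - p - 1 + (p' + 2 - n) = p' - p + 1 by omega]
      exact hE)
    calc (n.descFactorial (j - 1) : ℝ) * UB (n - j + 1) (dmin (n - j + 1))
        ≤ (n.descFactorial (j - 1) : ℝ) * C := mul_le_mul_of_nonneg_left hU (Nat.cast_nonneg _)
      _ ≤ ((p' + 2 : ℕ) : ℝ) ^ (n - p - 1) * C := mul_le_mul_of_nonneg_right hD hC0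
      _ = C * ((p' + 2 : ℕ) : ℝ) ^ (n - p - 1) := mul_comm _ _
      _ ≤ 4 ^ n := hfin
  · intro hj2 b hb hb2 _
    refine ⟨2, by norm_num, ?_⟩
    have hI := IB_blocks (n - j + 2) (p' + 2) b sI KI (by omega) (by omega) hb (by omega) h9
      (by simpa using h10) (by simpa using h11) (by simpa using h12)
    simp only [hfg2] at hI
    have hE := bits_bound (fun i => 2 ^ (i * (i - 1) / 2) + 2 * (p' + 1))
      (fun i => 2 ^ (i * (i - 1) / 2)) (fun i => Nat.one_le_two_pow) sI KI (p' + 2) (p' - p) h14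
    set C : ℝ := 4 * ∏ i ∈ Finset.range KI,
      (((2 ^ (i * (i - 1) / 2) + 2 * (p' + 1) : ℕ) : ℝ) / ((2 ^ (i * (i - 1) / 2) : ℕ) : ℝ)) ^ sI
      with hCdef
    have hC0 : 0 ≤ C := by
      apply mul_nonneg (by norm_num)
      exact Finset.prod_nonneg fun i _ => by positivity
    have hD : (n.descFactorial (j - 2) : ℝ) ≤ ((p' + 2 : ℕ) : ℝ) ^ (n - p - 2) := by
      calc (n.descFactorial (j - 2) : ℝ) ≤ ((n ^ (j - 2) : ℕ) : ℝ) := by
            exact_mod_cast Nat.descFactorial_le_pow n (j - 2)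
        _ = (n : ℝ) ^ (j - 2) := by push_cast; ring
        _ ≤ ((p' + 2 : ℕ) : ℝ) ^ (j - 2) := pow_le_pow_left₀ (Nat.cast_nonneg _) hnR _
        _ ≤ _ := pow_le_pow_right₀ hn1R (by omega)
    have hfin := shift_bound n (p' + 2) (n - p - 2) C hC0 (by omega) hn' (by
      rw [show n - p - 2 + (p' + 2 - n) = p' - p by omega]
      exact hE)
    calc (n.descFactorial (j - 2) : ℝ) * IB (n - j + 2) b 2
        ≤ (n.descFactorial (j - 2) : ℝ) * C := mul_le_mul_of_nonneg_left hI (Nat.cast_nonneg _)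
      _ ≤ ((p' + 2 : ℕ) : ℝ) ^ (n - p - 2) * C := mul_le_mul_of_nonneg_right hD hC0
      _ = C * ((p' + 2 : ℕ) : ℝ) ^ (n - p - 2) := mul_comm _ _
      _ ≤ 4 ^ n := hfin

/-! ### Primality by trial division -/

/-- no `m` with `k ≤ m` and `m * m ≤ p` divides `p`. -/
def noDiv (p : ℕ) : ℕ → ℕ → Bool
  | 0, _ => false
  | (f + 1), k =>
    bif Nat.blt p (k * k) then true else bif Nat.beq (p % k) 0 then false else noDiv p f (k + 1)

theorem noDiv_spec (p f : ℕ) : ∀ k, noDiv p f k = true → ∀ m, k ≤ m → m * m ≤ p → ¬ m ∣ p := by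
  induction f with
  | zero => intro k h; exact absurd h (by simp [noDiv])
  | succ f ih =>
    intro k h m hkm hmm hdvd
    rw [noDiv] at h
    rcases hb : Nat.blt p (k * k) with _ | _
    · rw [hb, cond_false] at h
      rcases hc : Nat.beq (p % k) 0 with _ | _
      · rw [hc, cond_false] at h
        rcases Nat.eq_or_lt_of_le hkm with rfl | hlt
        · have : p % k = 0 := Nat.mod_eq_zero_of_dvd hdvd
          rw [this] at hc
          exact absurd hc (by decide)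
        · exact ih (k + 1) h m hlt hmm hdvd
      · rw [hc, cond_true] at h
        exact absurd h (by decide)
    · have : p < k * k := by simpa [Nat.blt_eq] using hb
      have h2 : k * k ≤ m * m := Nat.mul_self_le_mul_self hkm
      omega

theorem prime_of_noDiv (p f : ℕ) (h2 : 2 ≤ p) (h : noDiv p f 2 = true) : p.Prime := by
  rw [Nat.prime_def_le_sqrt]
  exact ⟨h2, fun m hm hm' => noDiv_spec p f 2 h m hm (Nat.le_sqrt.mp hm')⟩

/-- the check of the whole chain. -/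
def chkAll : ℕ → List (ℕ × ℕ × ℕ × ℕ × ℕ × ℕ) → Bool
  | _, [] => true
  | p, (p', D, sU, KU, sI, KI) :: l =>
    Nat.ble 2 p && noDiv p 3000 2 && chk p p' D sU KU sI KI && chkAll p' l

/-- the last prime of the chain. -/
def lastP : ℕ → List (ℕ × ℕ × ℕ × ℕ × ℕ × ℕ) → ℕ
  | p, [] => p
  | _, (p', _, _, _, _, _) :: l => lastP p' l

theorem good_chain (l : List (ℕ × ℕ × ℕ × ℕ × ℕ × ℕ)) : ∀ p, chkAll p l = true →
    ∀ n j, p + 3 ≤ n → n ≤ lastP p l + 2 → 1 ≤ j → Kcond n j → Good n j := by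
  induction l with
  | nil =>
    intro p _ n j h1 h2
    rw [lastP] at h2
    omega
  | cons a l ih =>
    obtain ⟨p', D, sU, KU, sI, KI⟩ := a
    intro p h n j h1 h2 hj hK
    rw [chkAll, Bool.and_eq_true, Bool.and_eq_true, Bool.and_eq_true, Nat.ble_eq] at h
    obtain ⟨⟨⟨ha, hb⟩, hc⟩, hd⟩ := h
    rcases Nat.lt_or_ge (p' + 2) n with hlt | hge
    · exact ih p' hd n j (by omega) h2 hj hK
    · exact good_block p p' D sU KU sI KI n j (prime_of_noDiv p 3000 ha hb) hc h1 hge hj hK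

/-- the chain of primes, with the parameters of the blocks. -/
def data : List (ℕ × ℕ × ℕ × ℕ × ℕ × ℕ) := [
   (547, 24, 17, 19, 24, 7), (557, 25, 17, 19, 24, 7), (563, 25, 17, 19, 25, 7), (571, 25, 17, 19, 25, 7),
   (577, 25, 17, 19, 25, 7), (587, 25, 17, 19, 25, 7), (601, 26, 18, 19, 25, 7), (613, 26, 18, 19, 26, 7),
   (619, 26, 18, 19, 26, 7), (631, 26, 18, 19, 26, 7), (647, 26, 18, 19, 26, 7), (661, 27, 19, 19, 27, 7),
   (677, 27, 19, 19, 27, 7), (691, 27, 19, 19, 27, 7), (709, 28, 20, 19, 27, 7), (727, 28, 20, 20, 28, 7),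
   (751, 28, 20, 20, 28, 7), (773, 29, 20, 20, 29, 7), (797, 29, 20, 20, 29, 7), (827, 30, 21, 20, 30, 7),
   (863, 30, 21, 20, 30, 7), (887, 31, 22, 20, 31, 7), (929, 31, 22, 20, 31, 7), (971, 32, 22, 20, 32, 7),
   (1019, 33, 23, 20, 33, 7), (1069, 34, 24, 21, 34, 8), (1123, 35, 24, 21, 35, 8), (1187, 35, 24, 21, 35, 8),
   (1249, 36, 25, 21, 36, 8), (1327, 37, 26, 21, 37, 8), (1409, 39, 27, 21, 39, 8), (1499, 40, 28, 22, 40, 8),
   (1601, 41, 29, 22, 41, 8), (1709, 42, 29, 22, 42, 8), (1831, 44, 31, 22, 44, 8), (1951, 45, 31, 22, 45, 8),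
   (2099, 47, 33, 23, 47, 8), (2269, 49, 34, 23, 49, 8), (2447, 50, 35, 23, 51, 8), (2647, 52, 36, 23, 53, 8),
   (2879, 55, 38, 23, 55, 8), (3137, 57, 40, 24, 57, 8), (3413, 59, 41, 24, 60, 8), (3733, 62, 43, 24, 63, 8),
   (4091, 65, 45, 24, 66, 8), (4483, 68, 47, 25, 69, 8), (4919, 71, 49, 25, 72, 8), (5419, 75, 52, 25, 75, 8),
   (5981, 78, 54, 26, 79, 8), (6599, 82, 57, 26, 83, 8), (7283, 86, 60, 26, 87, 8), (8059, 91, 63, 26, 92, 8),
   (8929, 95, 66, 27, 97, 8), (9887, 100, 69, 27, 102, 8), (10957, 106, 74, 27, 107, 8), (12149, 111, 77, 28, 113, 9),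
   (13487, 117, 81, 28, 119, 9), (14983, 123, 85, 28, 125, 9), (16633, 130, 90, 29, 132, 9), (18481, 137, 95, 29, 139, 9),
   (20533, 144, 100, 29, 146, 9), (22817, 152, 106, 29, 154, 9), (25367, 160, 111, 30, 163, 9), (28211, 169, 117, 30, 172, 9),
   (31357, 178, 124, 30, 181, 9), (34883, 188, 130, 31, 191, 9), (38803, 198, 137, 31, 201, 9), (43159, 209, 145, 31, 212, 9),
   (48017, 220, 153, 32, 224, 9), (53407, 232, 161, 32, 236, 9), (59407, 245, 170, 32, 249, 9), (66047, 258, 179, 33, 262, 9),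
   (73433, 272, 189, 33, 277, 9), (81619, 287, 199, 33, 292, 9), (90731, 302, 209, 33, 307, 9), (100847, 319, 221, 34, 324, 9),
   (112031, 336, 233, 34, 342, 9), (124447, 354, 246, 34, 360, 9), (138163, 373, 259, 35, 379, 9), (153379, 393, 273, 35, 400, 9),
   (170179, 414, 287, 35, 421, 9), (188791, 436, 302, 36, 443, 10), (209401, 459, 318, 36, 467, 10), (232129, 483, 335, 36, 492, 10),
   (257281, 508, 352, 36, 518, 10), (285091, 535, 371, 37, 545, 10), (315703, 563, 390, 37, 573, 10), (349529, 592, 410, 37, 603, 10),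
   (386851, 623, 432, 38, 635, 10), (427883, 655, 454, 38, 667, 10), (473147, 689, 478, 38, 702, 10), (523049, 724, 502, 38, 738, 10),
   (577831, 761, 528, 39, 775, 10), (638147, 800, 555, 39, 815, 10), (704551, 840, 582, 39, 856, 10), (777317, 883, 612, 40, 899, 10),
   (857309, 927, 643, 40, 944, 10), (945211, 973, 675, 40, 992, 10), (1041757, 1022, 709, 40, 1041, 10), (1147387, 1072, 743, 41, 1093, 10),
   (1263263, 1125, 780, 41, 1146, 10), (1390369, 1180, 818, 41, 1203, 10), (1529701, 1238, 858, 42, 1261, 10), (1682363, 1298, 900, 42, 1323, 10),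
   (1848983, 1361, 944, 42, 1387, 10), (2031353, 1426, 989, 42, 1454, 10), (2230873, 1495, 1036, 43, 1523, 10), (2449039, 1566, 1086, 43, 1596, 10),
   (2687521, 1640, 1137, 43, 1672, 10), (2948087, 1718, 1191, 43, 1751, 10), (3232651, 1799, 1247, 44, 1834, 10), (3542267, 1883, 1305, 44, 1919, 10),
   (3880057, 1971, 1366, 44, 2009, 10), (4248401, 2062, 1429, 45, 2102, 11), (4649903, 2157, 1495, 45, 2199, 11), (5087323, 2257, 1565, 45, 2300, 11),
   (5563729, 2360, 1636, 45, 2405, 11), (6082367, 2467, 1710, 46, 2515, 11), (6646699, 2579, 1788, 46, 2629, 11), (7260569, 2696, 1869, 46, 2748, 11),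
   (7928059, 2817, 1953, 46, 2871, 11), (8653517, 2943, 2040, 47, 3000, 11)
  ]

theorem chkAll_data : chkAll 541 data = true := by decide +kernel

theorem good_mid' (n j : ℕ) (hn : 544 ≤ n) (hn' : n < 2 ^ 23) (hj : 1 ≤ j) (hK : Kcond n j) :
    Good n j := by
  have hlast : lastP 541 data = 8653517 := by decide +kernel
  refine good_chain data 541 chkAll_data n j (by omega) ?_ hj hK
  rw [hlast]
  have : (2 : ℕ) ^ 23 = 8388608 := by norm_num
  omega

theorem good_mid (n j : ℕ) (hn : 1024 ≤ n) (hn' : n < 2 ^ 23) (hj : 1 ≤ j) (_hjn : j ≤ n)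
    (hK : Kcond n j) : Good n j :=
  good_mid' n j (by omega) hn' hj hK

end Cfsg.Agent.PermutationGroups.OrderBound.NumMid
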