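import Cfsg.Agent.PermutationGroups.OrderBound.Defs

/-!
# Order bound for primitive groups (S0725): the numerical statement for `22 ≤ n < 1024`
-/

set_option autoImplicit false

namespace Cfsg.Agent.PermutationGroups.OrderBound.NumSmall

open Cfsg.Agent.PermutationGroups.OrderBound.Defs Finset

/-- Application with evaluated argument. -/
def force (n : ℕ) (k : ℕ → ℕ) : ℕ := Nat.rec (k 0) (fun n' _ => k (n'.succ)) n

theorem force_eq (n : ℕ) (k : ℕ → ℕ) : force n k = k n := by cases n <;> rfl

/-- The fixed point computation. -/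
def loop (D : ℕ) (a : ℕ → ℕ) (r : ℕ) : ℕ → ℕ → ℕ :=
  Nat.rec (fun _ P => P)
    (fun r' ih v P =>
      force (Nat.add (Nat.div (Nat.mul v (a r')) (Nat.mul D r')) 1) fun v' =>
        force (Nat.add (Nat.div (Nat.mul P (Nat.add 1048576 v)) 1048576) 1) fun P' => ih v' P') r

theorem loop_zero (D : ℕ) (a : ℕ → ℕ) (v P : ℕ) : loop D a 0 v P = P := rfl

theorem loop_succ (D : ℕ) (a : ℕ → ℕ) (r v P : ℕ) :
    loop D a (r + 1) v P =
      loop D a r (v * a r / (D * r) + 1) (P * (1048576 + v) / 1048576 + 1) := by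
  change force (Nat.add (Nat.div (Nat.mul v (a r)) (Nat.mul D r)) 1) (fun v' =>
    force (Nat.add (Nat.div (Nat.mul P (Nat.add 1048576 v)) 1048576) 1)
      fun P' => loop D a r v' P') = _
  rw [force_eq, force_eq]
  rfl

theorem lt_div_succ (a b : ℕ) (hb : 0 < b) : (a : ℝ) ≤ ((a / b + 1 : ℕ) : ℝ) * b := by
  have h : a < (a / b + 1) * b := by
    rw [Nat.add_mul, one_mul]
    have := Nat.div_add_mod a b
    have h2 := Nat.mod_lt a hb
    nlinarith [Nat.mul_comm b (a / b)]
  exact_mod_cast h.le

theorem loop_le (D : ℕ) (hD : 0 < D) (a : ℕ → ℕ) (r : ℕ) :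
    ∀ (W B : ℕ → ℝ) (k : ℕ) (_ : k ≤ r) (v P : ℕ) (Q : ℝ), (∀ i, 0 ≤ W i) →
      (∀ i, i + 1 < k → 0 ≤ B i) →
      (∀ i, i + 1 < k → W (i + 1) = W i * B i) →
      (∀ i, i + 1 < k → B i * (D * ((r - 1 - i : ℕ) : ℝ)) ≤ a (r - 1 - i)) →
      (0 < k → W 0 * 1048576 ≤ v) → 0 ≤ Q → Q ≤ P →
      Q * ∏ i ∈ range k, (1 + W i) ≤ loop D a r v P := by
  induction r with
  | zero =>
    intro W B k hk v P Q hW hB0 hWB hB h0 hQ hQP
    obtain rfl : k = 0 := by omega
    simpa [loop_zero] using hQP
  | succ r ih =>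
    intro W B k hk v P Q hW hB0 hWB hB h0 hQ hQP
    rw [loop_succ]
    have hP' : (P : ℝ) * (1048576 + v) ≤
        ((P * (1048576 + v) / 1048576 + 1 : ℕ) : ℝ) * 1048576 := by
      have := lt_div_succ (P * (1048576 + v)) 1048576 (by norm_num)
      push_cast at this ⊢
      exact this
    have hPv : (0 : ℝ) ≤ P * v := by positivity
    rcases k with _ | k
    · refine ih W B 0 (Nat.zero_le _) _ _ Q hW (by omega) (by omega) (by omega) (by omega) hQ ?_
      refine hQP.trans ?_
      have h1 : (P : ℝ) * 1048576 ≤ ((P * (1048576 + v) / 1048576 + 1 : ℕ) : ℝ) * 1048576 := by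
        linarith
      exact le_of_mul_le_mul_right h1 (by norm_num)
    · rw [prod_range_succ', ← mul_assoc, mul_right_comm]
      have h0' := h0 (Nat.succ_pos k)
      have hW0 := hW 0
      refine ih (fun i => W (i + 1)) (fun i => B (i + 1)) k (by omega) _ _ (Q * (1 + W 0))
        (fun i => hW _) (fun i hi => hB0 _ (by omega)) (fun i hi => hWB _ (by omega))
        (fun i hi => ?_) (fun hk0 => ?_) (by positivity) ?_
      · have h := hB (i + 1) (by omega)
        have e : r + 1 - 1 - (i + 1) = r - 1 - i := by omega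
        rw [e] at h
        exact h
      · have h1 := hWB 0 (by omega)
        have h2 := hB 0 (by omega)
        have hb0 := hB0 0 (by omega)
        have e : r + 1 - 1 - 0 = r := by omega
        rw [e] at h2
        have hr : 0 < r := by omega
        have h3 := lt_div_succ (v * a r) (D * r) (by positivity)
        change W (0 + 1) * 1048576 ≤ _
        rw [h1]
        have hDr : (0 : ℝ) < D * r := by positivity
        have h4 : W 0 * B 0 * 1048576 * (D * r) ≤
            ((v * a r / (D * r) + 1 : ℕ) : ℝ) * (D * r) := by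
          push_cast at h3 ⊢
          calc W 0 * B 0 * 1048576 * (D * r) = (W 0 * 1048576) * (B 0 * (D * r)) := by ring
            _ ≤ v * (a r) := by
              refine mul_le_mul h0' h2 (by positivity) (by positivity)
            _ ≤ _ := h3
        exact le_of_mul_le_mul_right h4 hDr
      · have h5 : Q * (1 + W 0) * 1048576 ≤
          ((P * (1048576 + v) / 1048576 + 1 : ℕ) : ℝ) * 1048576 := by
          refine le_trans ?_ hP'
          calc Q * (1 + W 0) * 1048576 = Q * (1048576 + W 0 * 1048576) := by ring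
            _ ≤ P * (1048576 + v) := by
              refine mul_le_mul hQP (by linarith) (by positivity) (by positivity)
        exact le_of_mul_le_mul_right h5 (by norm_num)

theorem vseq_nonneg (n : ℕ) (v0 : ℝ) (A : ℕ → ℝ) (h0 : 0 ≤ v0) (hA : ∀ t, 0 ≤ A t) (t : ℕ) :
    0 ≤ vseq n v0 A t := by
  induction t with
  | zero => exact h0
  | succ t ih =>
    rw [vseq_succ]
    have := hA t
    positivity

/-- The product bound through the fixed point computation. -/
theorem prod_vseq_le (D : ℕ) (hD : 0 < D) (a : ℕ → ℕ) (m M : ℕ) (hmM : m ≤ M) (v0 : ℝ)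
    (A : ℕ → ℝ) (h0 : 0 ≤ v0) (hA : ∀ t, 0 ≤ A t) (v : ℕ) (hv : v0 * 1048576 ≤ v)
    (h : ∀ t, t + 1 < m →
      A t / ((m - t - 1 : ℕ) : ℝ) * (D * ((M - 1 - t : ℕ) : ℝ)) ≤ a (M - 1 - t)) :
    (∏ t ∈ range m, (1 + vseq m v0 A t)) * 1048576 ≤ loop D a M v 1048576 := by
  have := loop_le D hD a M (vseq m v0 A) (fun t => A t / ((m - t - 1 : ℕ) : ℝ)) m hmM v 1048576
    1048576 (vseq_nonneg m v0 A h0 hA) (fun i _ => by have := hA i; positivity)
    (fun i _ => by rw [vseq_succ, mul_div_assoc]) h (fun _ => hv) (by norm_num) (by norm_num)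
  linarith

/-- comparing the ratios in degrees `m ≤ M`. -/
theorem ratio_le (x X Y E : ℝ) (hX : 0 < X) (hXY : X ≤ Y) (hE : 0 ≤ E) (hx0 : 0 ≤ x)
    (hx : x = 0 ∨ x ≤ X - E) : x / X * Y ≤ max 0 (Y - E) := by
  rcases hx with rfl | hx
  · simp
  · refine le_trans ?_ (le_max_right _ _)
    rw [div_mul_eq_mul_div, div_le_iff₀ hX]
    nlinarith

theorem UB_le (m M d e : ℕ) (hm : 1 ≤ m) (hmM : m ≤ M) (he : e + 1 ≤ d) :
    UB m d * 1048576 ≤ loop 1 (fun r => Nat.sub r e) M ((M - 1) * 1048576) 1048576 := by
  refine prod_vseq_le 1 one_pos _ m M hmM _ _ ?_ (fun t => by positivity) _ ?_ ?_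
  · have : (1 : ℝ) ≤ m := by exact_mod_cast hm
    linarith
  · push_cast
    have h1 : ((M - 1 : ℕ) : ℝ) = M - 1 := by
      rw [Nat.cast_sub (by omega)]; norm_num
    have h2 : (m : ℝ) ≤ M := by exact_mod_cast hmM
    rw [h1]
    linarith
  · intro t ht
    have hX : (0 : ℝ) < ((m - t - 1 : ℕ) : ℝ) := by
      exact_mod_cast (by omega : 0 < m - t - 1)
    have hXY : ((m - t - 1 : ℕ) : ℝ) ≤ ((M - 1 - t : ℕ) : ℝ) := by
      exact_mod_cast (by omega : m - t - 1 ≤ M - 1 - t)
    have key := ratio_le ((m - t - d : ℕ) : ℝ) _ _ (e : ℝ) hX hXY (by positivity) (by positivity)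
      (by
        rcases Nat.lt_or_ge (m - t) d with h | h
        · left
          rw [Nat.sub_eq_zero_of_le h.le]; simp
        · right
          rw [le_sub_iff_add_le]
          exact_mod_cast (by omega : m - t - d + e ≤ m - t - 1))
    rw [Nat.cast_one, one_mul]
    refine key.trans (max_le (by positivity) ?_)
    rw [sub_le_iff_le_add]
    exact_mod_cast (by change M - 1 - t ≤ (M - 1 - t - e) + e; omega)

/-- `c` times the first of the two quantities in `AI`. -/
def aF (m b c r : ℕ) : ℕ :=
  Nat.mul c (Nat.sub (Nat.add r 1) (Nat.add (Nat.mul 2 b)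
    (Nat.sub (Nat.sub (Nat.add (Nat.sub (Nat.sub m 1) r) 3) b) (Nat.mul 2 b))))

/-- `c` times the second of the two quantities in `AI`. -/
def aS (m b c r : ℕ) : ℕ :=
  Nat.add (Nat.mul c (Nat.sub (Nat.sub b 1) (Nat.sub (Nat.sub m 1) r)))
    (Nat.sub (Nat.sub m 1) b)

/-- numerators of the step factors, exact case. -/
def aI (m b c r : ℕ) : ℕ :=
  Nat.rec (aF m b c r)
    (fun _ _ => Nat.add (aF m b c r) (Nat.sub (aS m b c r) (aF m b c r)))
    (Nat.sub b (Nat.sub (Nat.sub m 1) r))

theorem AI_nonneg (m b c t : ℕ) : 0 ≤ AI m b c t := by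
  unfold AI
  split_ifs
  · exact le_max_of_le_left (by positivity)
  · positivity

theorem aF_eq (m b c t : ℕ) (ht : t + 1 ≤ m) :
    aF m b c (m - 1 - t) = c * (m - t - max (2 * b) (t + 3 - b)) := by
  change c * (m - 1 - t + 1 - (2 * b + (m - 1 - (m - 1 - t) + 3 - b - 2 * b))) = _
  congr 1
  omega

theorem aS_eq (m b c t : ℕ) (ht : t + 1 ≤ m) :
    aS m b c (m - 1 - t) = c * (b - 1 - t) + (m - 1 - b) := by
  change c * (b - 1 - (m - 1 - (m - 1 - t))) + (m - 1 - b) = _
  congr 3
  omega

theorem aI_lt (m b c t : ℕ) (ht : t + 1 ≤ m) (h : t < b) :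
    aI m b c (m - 1 - t) = max (aF m b c (m - 1 - t)) (aS m b c (m - 1 - t)) := by
  obtain ⟨k, hk⟩ : ∃ k, b - (m - 1 - (m - 1 - t)) = k + 1 := ⟨b - t - 1, by omega⟩
  change (Nat.rec _ _ (b - (m - 1 - (m - 1 - t))) : ℕ) = _
  rw [hk]
  change aF m b c (m - 1 - t) + (aS m b c (m - 1 - t) - aF m b c (m - 1 - t)) = _
  omega

theorem aI_ge (m b c t : ℕ) (ht : t + 1 ≤ m) (h : ¬ t < b) :
    aI m b c (m - 1 - t) = aF m b c (m - 1 - t) := by
  have hk : b - (m - 1 - (m - 1 - t)) = 0 := by omega
  change (Nat.rec _ _ (b - (m - 1 - (m - 1 - t))) : ℕ) = _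
  rw [hk]
  rfl

theorem aI_eq (m b c t : ℕ) (hc : 0 < c) (ht : t + 1 ≤ m) :
    (aI m b c (m - 1 - t) : ℝ) = c * AI m b c t := by
  have hc' : (0 : ℝ) < c := by exact_mod_cast hc
  unfold AI
  split_ifs with h
  · rw [aI_lt m b c t ht h, Nat.cast_max, aF_eq m b c t ht, aS_eq m b c t ht,
      mul_max_of_nonneg _ _ hc'.le]
    push_cast
    rw [mul_add, mul_div_cancel₀ _ hc'.ne']
  · rw [aI_ge m b c t ht h, aF_eq m b c t ht]
    push_cast
    rfl

theorem IB_le (m b c : ℕ) (hm : 1 ≤ m) (hc : 0 < c) :
    IB m b c * 1048576 ≤ loop c (aI m b c) m (c * (m - 1) * 1048576) 1048576 := by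
  refine prod_vseq_le c hc _ m m le_rfl _ _ ?_ (AI_nonneg m b c) _ ?_ ?_
  · have : (1 : ℝ) ≤ m := by exact_mod_cast hm
    have h2 : (0 : ℝ) ≤ c := by positivity
    exact mul_nonneg h2 (by linarith)
  · push_cast
    rw [Nat.cast_sub hm]
    norm_num
  · intro t ht
    have hX : (0 : ℝ) < ((m - t - 1 : ℕ) : ℝ) := by
      exact_mod_cast (by omega : 0 < m - t - 1)
    have e : m - 1 - t = m - t - 1 := by omega
    rw [aI_eq m b c t hc (by omega), e, div_mul_eq_mul_div, div_le_iff₀ hX]
    apply le_of_eq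
    ring

theorem AI_two_le (m b t : ℕ) (hb2 : 2 * b ≤ m - 1) (ht : t + 1 < m) :
    AI m b 2 t = 0 ∨ AI m b 2 t ≤ ((m - t - 1 : ℕ) : ℝ) - (min (8 * t + 12) (3 * m + 9) : ℕ) / 12 := by
  have h1 : ((m - t - max (2 * b) (t + 3 - b) : ℕ) : ℝ) = 0 ∨
      ((m - t - max (2 * b) (t + 3 - b) : ℕ) : ℝ) ≤
        ((m - t - 1 : ℕ) : ℝ) - (min (8 * t + 12) (3 * m + 9) : ℕ) / 12 := by
    rcases Nat.lt_or_ge (max (2 * b) (t + 3 - b)) (m - t) with h | h
    · right
      rw [le_sub_iff_add_le, ← le_sub_iff_add_le', div_le_iff₀ (by norm_num)]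
      have h3 : (min (8 * t + 12) (3 * m + 9)) + 12 * (m - t - max (2 * b) (t + 3 - b)) ≤
          12 * (m - t - 1) := by omega
      have h4 : ((min (8 * t + 12) (3 * m + 9) : ℕ) : ℝ) +
          12 * ((m - t - max (2 * b) (t + 3 - b) : ℕ) : ℝ) ≤ 12 * ((m - t - 1 : ℕ) : ℝ) := by
        exact_mod_cast h3
      linarith
    · left
      rw [Nat.sub_eq_zero_of_le h]; simp
  have h2 : t < b → ((b - 1 - t : ℕ) : ℝ) + ((m - 1 - b : ℕ) : ℝ) / ((2 : ℕ) : ℝ) ≤
      ((m - t - 1 : ℕ) : ℝ) - (min (8 * t + 12) (3 * m + 9) : ℕ) / 12 := by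
    intro htb
    have h3 : (min (8 * t + 12) (3 * m + 9)) + 12 * (b - 1 - t) + 6 * (m - 1 - b) ≤
        12 * (m - t - 1) := by omega
    have h4 : ((min (8 * t + 12) (3 * m + 9) : ℕ) : ℝ) + 12 * ((b - 1 - t : ℕ) : ℝ) +
        6 * ((m - 1 - b : ℕ) : ℝ) ≤ 12 * ((m - t - 1 : ℕ) : ℝ) := by
      exact_mod_cast h3
    push_cast at h4 ⊢
    linarith
  unfold AI
  split_ifs with h
  · rcases h1 with h1 | h1
    · right
      rw [h1]
      refine max_le ?_ (h2 h)
      refine le_trans ?_ (h2 h)
      positivity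
    · right
      exact max_le h1 (h2 h)
  · exact h1

theorem IB_two_le (m M m1 b : ℕ) (hm : 1 ≤ m) (hmM : m ≤ M) (hm1 : m1 ≤ m) (hb2 : 2 * b ≤ m - 1) :
    IB m b 2 * 1048576 ≤ loop 12
      (fun r => Nat.sub (Nat.mul 12 r) (Nat.sub (Nat.add (Nat.mul 8 (Nat.sub (Nat.sub M 1) r)) 12)
        (Nat.sub (Nat.add (Nat.mul 8 (Nat.sub (Nat.sub M 1) r)) 12) (Nat.add (Nat.mul 3 m1) 9))))
      M (2 * (M - 1) * 1048576) 1048576 := by
  refine prod_vseq_le 12 (by norm_num) _ m M hmM _ _ ?_ (AI_nonneg m b 2) _ ?_ ?_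
  · have : (1 : ℝ) ≤ m := by exact_mod_cast hm
    push_cast
    linarith
  · push_cast
    have h1 : ((M - 1 : ℕ) : ℝ) = M - 1 := by
      rw [Nat.cast_sub (by omega)]; norm_num
    have h2 : (m : ℝ) ≤ M := by exact_mod_cast hmM
    rw [h1]
    linarith
  · intro t ht
    have hX : (0 : ℝ) < ((m - t - 1 : ℕ) : ℝ) := by
      exact_mod_cast (by omega : 0 < m - t - 1)
    have hXY : ((m - t - 1 : ℕ) : ℝ) ≤ ((M - 1 - t : ℕ) : ℝ) := by
      exact_mod_cast (by omega : m - t - 1 ≤ M - 1 - t)
    have key := ratio_le (AI m b 2 t) _ _ (((min (8 * t + 12) (3 * m1 + 9) : ℕ) : ℝ) / 12) hX hXY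
      (by positivity) (AI_nonneg m b 2 t)
      (by
        rcases AI_two_le m b t hb2 ht with h | h
        · exact Or.inl h
        · right
          refine h.trans ?_
          have h5 : ((min (8 * t + 12) (3 * m1 + 9) : ℕ) : ℝ) ≤
              ((min (8 * t + 12) (3 * m + 9) : ℕ) : ℝ) := by
            exact_mod_cast (by omega)
          linarith)
    have key2 : AI m b 2 t / ((m - t - 1 : ℕ) : ℝ) * (((12 : ℕ) : ℝ) * ((M - 1 - t : ℕ) : ℝ)) =
        12 * (AI m b 2 t / ((m - t - 1 : ℕ) : ℝ) * ((M - 1 - t : ℕ) : ℝ)) := by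
      push_cast; ring
    rw [key2]
    have hmax : 12 * (AI m b 2 t / ((m - t - 1 : ℕ) : ℝ) * ((M - 1 - t : ℕ) : ℝ)) ≤
        12 * max 0 (((M - 1 - t : ℕ) : ℝ) - ((min (8 * t + 12) (3 * m1 + 9) : ℕ) : ℝ) / 12) := by
      linarith
    refine hmax.trans ?_
    rw [mul_max_of_nonneg _ _ (by norm_num)]
    refine max_le (by simp) ?_
    rw [mul_sub, mul_div_cancel₀ _ (by norm_num : (12 : ℝ) ≠ 0), sub_le_iff_le_add]
    have h6 : 12 * (M - 1 - t) ≤
        (12 * (M - 1 - t) - (8 * (M - 1 - (M - 1 - t)) + 12 -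
          (8 * (M - 1 - (M - 1 - t)) + 12 - (3 * m1 + 9)))) + min (8 * t + 12) (3 * m1 + 9) := by
      omega
    exact_mod_cast h6

/-- comparing `n! / m!` with `n₂! / m₁!` -/
theorem final_le (n n2 m1 k L : ℕ) (hn : 3 ≤ n) (hn2 : n ≤ n2) (hk : k ≤ n) (hm1 : m1 ≤ n - k)
    (x : ℝ) (hx : x * 1048576 ≤ L)
    (hchk : n2.descFactorial (n2 - m1) * L ≤ 4 ^ n2 * 1048576) :
    (n.descFactorial k : ℝ) * x ≤ 4 ^ n := by
  have h1 : n.descFactorial k * 4 ^ (n2 - n) ≤ n2.descFactorial (n2 - m1) := by
    have e1 : m1.factorial * n2.descFactorial (n2 - m1) = n2.factorial := by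
      have := Nat.factorial_mul_descFactorial (n := n2) (k := n2 - m1) (by omega)
      rwa [Nat.sub_sub_self (by omega)] at this
    have e2 := Nat.factorial_mul_descFactorial hk
    have e3 : n.factorial * (n + 1) ^ (n2 - n) ≤ n2.factorial := by
      have := Nat.factorial_mul_pow_le_factorial (m := n) (n := n2 - n)
      rwa [Nat.add_sub_cancel' hn2] at this
    have e4 : n.factorial * 4 ^ (n2 - n) ≤ n2.factorial :=
      le_trans (Nat.mul_le_mul_left _ (Nat.pow_le_pow_left (by omega) _)) e3
    have e5 : m1.factorial ≤ (n - k).factorial := Nat.factorial_le hm1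
    have e6 : m1.factorial * (n.descFactorial k * 4 ^ (n2 - n)) ≤
        m1.factorial * n2.descFactorial (n2 - m1) := by
      rw [e1, ← mul_assoc]
      refine le_trans (Nat.mul_le_mul_right _ (Nat.mul_le_mul_right _ e5)) ?_
      rw [e2]
      exact e4
    exact Nat.le_of_mul_le_mul_left e6 (Nat.factorial_pos _)
  have h2 : n.descFactorial k * 4 ^ (n2 - n) * L ≤ 4 ^ n2 * 1048576 :=
    le_trans (Nat.mul_le_mul_right _ h1) hchk
  have h3 : n.descFactorial k * L ≤ 4 ^ n * 1048576 := by
    have e : 4 ^ n2 = 4 ^ n * 4 ^ (n2 - n) := by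
      rw [← pow_add, Nat.add_sub_cancel' hn2]
    rw [e] at h2
    have e7 : 4 ^ (n2 - n) * (n.descFactorial k * L) ≤ 4 ^ (n2 - n) * (4 ^ n * 1048576) := by
      calc 4 ^ (n2 - n) * (n.descFactorial k * L) = n.descFactorial k * 4 ^ (n2 - n) * L := by ring
        _ ≤ _ := h2
        _ = _ := by ring
    exact Nat.le_of_mul_le_mul_left e7 (by positivity)
  have h4 : (n.descFactorial k : ℝ) * L ≤ 4 ^ n * 1048576 := by exact_mod_cast h3
  have h5 : (n.descFactorial k : ℝ) * (x * 1048576) ≤ n.descFactorial k * L :=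
    mul_le_mul_of_nonneg_left hx (by positivity)
  have h6 : (n.descFactorial k : ℝ) * x * 1048576 ≤ 4 ^ n * 1048576 := by
    rw [mul_assoc]; exact h5.trans h4
  exact le_of_mul_le_mul_right h6 (by norm_num)

theorem dmin_mono {m1 m : ℕ} (h : m1 ≤ m) : dmin m1 ≤ dmin m := by
  unfold dmin
  have := Nat.sqrt_le_sqrt (show 4 * m1 - 4 ≤ 4 * m - 4 by omega)
  omega

theorem dmin_pos (m : ℕ) : 1 ≤ dmin m := by
  unfold dmin
  omega

/-- Check of the first inequality, degrees `m1 ≤ m ≤ M`, `n ≤ n2`. -/
def chkU (m1 M n2 : ℕ) : Bool :=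
  Nat.ble (Nat.mul (n2.descFactorial (n2 - m1))
    (loop 1 (fun r => Nat.sub r (dmin m1 - 1)) M ((M - 1) * 1048576) 1048576)) (4 ^ n2 * 1048576)

/-- Check of the second inequality, uniform in `b`, degrees `m1 ≤ m ≤ M`, `n ≤ n2`. -/
def chkI (m1 M n2 : ℕ) : Bool :=
  Nat.ble (Nat.mul (n2.descFactorial (n2 - m1))
    (loop 12
      (fun r => Nat.sub (Nat.mul 12 r) (Nat.sub (Nat.add (Nat.mul 8 (Nat.sub (Nat.sub M 1) r)) 12)
        (Nat.sub (Nat.add (Nat.mul 8 (Nat.sub (Nat.sub M 1) r)) 12) (Nat.add (Nat.mul 3 m1) 9))))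
      M (2 * (M - 1) * 1048576) 1048576)) (4 ^ n2 * 1048576)

/-- Check of the second inequality for one value of `b` and `c`, degree `m`. -/
def chkJ (m b c n2 : ℕ) : Bool :=
  Nat.ble (Nat.mul (n2.descFactorial (n2 - m))
    (loop c (aI m b c) m (c * (m - 1) * 1048576) 1048576)) (4 ^ n2 * 1048576)

theorem UB_good (m1 M n2 n j : ℕ) (hc : chkU m1 M n2 = true) (hn : 3 ≤ n) (hn2 : n ≤ n2)
    (hj : 1 ≤ j) (hjn : j ≤ n) (h1 : m1 + j ≤ n + 1) (hM : n + 1 ≤ M + j) :
    (n.descFactorial (j - 1) : ℝ) * UB (n - j + 1) (dmin (n - j + 1)) ≤ 4 ^ n := by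
  refine final_le n n2 m1 (j - 1) _ hn hn2 (by omega) (by omega) _
    (UB_le (n - j + 1) M _ (dmin m1 - 1) (by omega) (by omega) ?_) (Nat.le_of_ble_eq_true hc)
  have := dmin_pos m1
  have := dmin_mono (show m1 ≤ n - j + 1 by omega)
  omega

theorem IB_good (m1 M n2 n j b : ℕ) (hc : chkI m1 M n2 = true) (hn : 3 ≤ n) (hn2 : n ≤ n2)
    (hj : 2 ≤ j) (hjn : j ≤ n) (h1 : m1 + j ≤ n + 2) (hM : n + 2 ≤ M + j)
    (hb : 2 * b ≤ n - j + 1) :
    (n.descFactorial (j - 2) : ℝ) * IB (n - j + 2) b 2 ≤ 4 ^ n :=
  final_le n n2 m1 (j - 2) _ hn hn2 (by omega) (by omega) _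
    (IB_two_le (n - j + 2) M m1 b (by omega) (by omega) (by omega) (by omega))
    (Nat.le_of_ble_eq_true hc)

theorem JB_good (n2 n j b c : ℕ) (h0 : 0 < c) (hc : chkJ (n - j + 2) b c n2 = true) (hn : 3 ≤ n)
    (hn2 : n ≤ n2) (hj : 2 ≤ j) (hjn : j ≤ n) :
    (n.descFactorial (j - 2) : ℝ) * IB (n - j + 2) b c ≤ 4 ^ n :=
  final_le n n2 (n - j + 2) (j - 2) _ hn hn2 (by omega) (by omega) _
    (IB_le (n - j + 2) b c (by omega) h0)
    (Nat.le_of_ble_eq_true hc)

/-- Blocks `n₁ ≤ n ≤ n₂`, checked at once. -/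
theorem good_block (p q V n1 n2 : ℕ) (hp : p.Prime) (hp5 : 5 ≤ p) (hq : q = 1 ∨ q = 2)
    (hV : V = q * p) (h1 : V + 3 ≤ n1) (h2 : n2 < (q + 1) * p)
    (hU : chkU (V + 1) n2 n2 = true) (hI : chkI (V + 2) n2 n2 = true)
    (n j : ℕ) (hn : n1 ≤ n) (hn' : n ≤ n2) (hj : 1 ≤ j) (hjn : j ≤ n) (hK : Kcond n j) :
    Good n j := by
  have hjV : j + V ≤ n := by
    rw [hV]
    exact hK p q hp hp5 hq (by omega) (by omega)
  refine ⟨UB_good (V + 1) n2 n2 n j hU (by omega) hn' hj hjn (by omega) (by omega),
    fun hj2 b _ hb _ => ⟨2, by norm_num, ?_⟩⟩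
  exact IB_good (V + 2) n2 n2 n j b hI (by omega) hn' hj2 hjn (by omega) (by omega) hb

/-- The checks of the second inequality in degree `m`. -/
def chkJall (m n2 : ℕ) : ℕ → Bool :=
  Nat.rec true fun b ih =>
    (Nat.ble b 1 || !(Nat.beq (Nat.mod (Nat.sub m 1) b) 0) || chkJ m b 1 n2 || chkJ m b 2 n2
      || chkJ m b 3 n2) && ih

theorem chkJall_spec (m n2 k : ℕ) (h : chkJall m n2 k = true) (b : ℕ) (hb2 : 2 ≤ b) (hb : b < k)
    (hd : b ∣ m - 1) : ∃ c : ℕ, 1 ≤ c ∧ chkJ m b c n2 = true := by
  induction k with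
  | zero => omega
  | succ k ih =>
    have h' : ((Nat.ble k 1 || !(Nat.beq (Nat.mod (Nat.sub m 1) k) 0) || chkJ m k 1 n2 ||
      chkJ m k 2 n2 || chkJ m k 3 n2) && chkJall m n2 k) = true := h
    rw [Bool.and_eq_true] at h'
    obtain ⟨h1, h2⟩ := h'
    rcases Nat.lt_or_ge b k with hbk | hbk
    · exact ih h2 hbk
    · obtain rfl : b = k := by omega
      simp only [Bool.or_eq_true] at h1
      rcases h1 with (((h1 | h1) | h1) | h1) | h1
      · have := Nat.le_of_ble_eq_true h1
        omega
      · exfalso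
        have h3 : (m - 1) % b = 0 := Nat.mod_eq_zero_of_dvd hd
        have h4 : Nat.mod (Nat.sub m 1) b = 0 := h3
        rw [h4] at h1
        exact absurd h1 (by decide)
      · exact ⟨1, le_rfl, h1⟩
      · exact ⟨2, by norm_num, h1⟩
      · exact ⟨3, by norm_num, h1⟩

/-- All checks in degrees `V + 1 ≤ m ≤ V + k`. -/
def chkAll (V n2 : ℕ) : ℕ → Bool :=
  Nat.rec true fun i ih =>
    ((Nat.beq i 0 || chkJall (Nat.add V (Nat.add i 1)) n2 (Nat.div (Nat.add V (Nat.add i 2)) 2)) &&
      chkU (Nat.add V (Nat.add i 1)) (Nat.add V (Nat.add i 1)) n2) && ih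

theorem chkAll_spec (V n2 k : ℕ) (h : chkAll V n2 k = true) (i : ℕ) (hi : i < k) :
    (1 ≤ i → chkJall (V + (i + 1)) n2 ((V + (i + 2)) / 2) = true) ∧
      chkU (V + (i + 1)) (V + (i + 1)) n2 = true := by
  induction k with
  | zero => omega
  | succ k ih =>
    have h' : (((Nat.beq k 0 || chkJall (V + (k + 1)) n2 ((V + (k + 2)) / 2)) &&
      chkU (V + (k + 1)) (V + (k + 1)) n2) && chkAll V n2 k) = true := h
    rw [Bool.and_eq_true, Bool.and_eq_true] at h'
    obtain ⟨⟨h1, h2⟩, h3⟩ := h'
    rcases Nat.lt_or_ge i k with hik | hik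
    · exact ih h3 hik
    · obtain rfl : i = k := by omega
      refine ⟨fun h5 => ?_, h2⟩
      rw [Bool.or_eq_true] at h1
      rcases h1 with h1 | h1
      · have := Nat.eq_of_beq_eq_true h1
        omega
      · exact h1

/-- Blocks `n₁ ≤ n ≤ n₂`, checked degree by degree. -/
theorem good_block' (p q V n1 n2 : ℕ) (hp : p.Prime) (hp5 : 5 ≤ p) (hq : q = 1 ∨ q = 2)
    (hV : V = q * p) (h1 : V + 3 ≤ n1) (h2 : n2 < (q + 1) * p)
    (hA : chkAll V n2 (n2 - V) = true)
    (n j : ℕ) (hn : n1 ≤ n) (hn' : n ≤ n2) (hj : 1 ≤ j) (hjn : j ≤ n) (hK : Kcond n j) :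
    Good n j := by
  have hjV : j + V ≤ n := by
    rw [hV]
    exact hK p q hp hp5 hq (by omega) (by omega)
  refine ⟨?_, fun hj2 b hb2 hb hbd => ?_⟩
  · have h := (chkAll_spec V n2 _ hA (n - j - V) (by omega)).2
    have e : V + (n - j - V + 1) = n - j + 1 := by omega
    rw [e] at h
    exact UB_good _ _ n2 n j h (by omega) hn' hj hjn (by omega) (by omega)
  · have h := (chkAll_spec V n2 _ hA (n - j + 1 - V) (by omega)).1 (by omega)
    have e : V + (n - j + 1 - V + 1) = n - j + 2 := by omega
    have e2 : V + (n - j + 1 - V + 2) = n - j + 3 := by omega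
    rw [e, e2] at h
    obtain ⟨c, hc, hc2⟩ := chkJall_spec _ n2 _ h b hb2 (by omega) (by
      have e3 : n - j + 2 - 1 = n - j + 1 := by omega
      rw [e3]; exact hbd)
    exact ⟨c, hc, JB_good n2 n j b c hc hc2 (by omega) hn' hj2 hjn⟩

theorem cS0 : chkAll 19 24 5 = true := by decide +kernel
theorem cS1 : chkAll 22 25 3 = true := by decide +kernel
theorem cS2 : chkAll 23 28 5 = true := by decide +kernel
theorem cS3 : chkAll 26 31 5 = true := by decide +kernel
theorem cS4 : chkAll 29 33 4 = true := by decide +kernel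
theorem cS5 : chkAll 31 36 5 = true := by decide +kernel
theorem cS6 : chkAll 34 39 5 = true := by decide +kernel
theorem cS7 : chkAll 37 40 3 = true := by decide +kernel
theorem cS8 : chkAll 38 43 5 = true := by decide +kernel
theorem cS9 : chkAll 41 45 4 = true := by decide +kernel
theorem cS10 : chkAll 43 48 5 = true := by decide +kernel
theorem cS11 : chkAll 46 49 3 = true := by decide +kernel
theorem cS12 : chkAll 47 55 8 = true := by decide +kernel
theorem cS13 : chkAll 53 60 7 = true := by decide +kernel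
theorem cS14 : chkAll 58 61 3 = true := by decide +kernel
theorem cS15 : chkAll 59 63 4 = true := by decide +kernel
theorem cS16 : chkAll 61 64 3 = true := by decide +kernel
theorem cS17 : chkAll 62 69 7 = true := by decide +kernel
theorem cS18 : chkAll 67 73 6 = true := by decide +kernel
theorem cS19 : chkAll 71 75 4 = true := by decide +kernel
theorem cS20 : chkAll 73 76 3 = true := by decide +kernel
theorem cS21 : chkAll 74 81 7 = true := by decide +kernel
theorem cS22 : chkAll 79 84 5 = true := by decide +kernel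
theorem cS23 : chkAll 82 85 3 = true := by decide +kernel
theorem cS24 : chkAll 83 88 5 = true := by decide +kernel
theorem cS25 : chkAll 86 91 5 = true := by decide +kernel
theorem cS26 : chkAll 89 96 7 = true := by decide +kernel
theorem cS27 : chkAll 94 99 5 = true := by decide +kernel
theorem cS28 : chkAll 97 103 6 = true := by decide +kernel
theorem cS29 : chkAll 101 105 4 = true := by decide +kernel
theorem cS30 : chkAll 103 108 5 = true := by decide +kernel
theorem cS31 : chkAll 106 109 3 = true := by decide +kernel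
theorem cS32 : chkAll 107 111 4 = true := by decide +kernel
theorem cS33 : chkAll 109 115 6 = true := by decide +kernel
theorem cS34 : chkAll 113 120 7 = true := by decide +kernel

theorem cU0 : chkU 119 124 124 = true := by decide +kernel
theorem cI0 : chkI 120 124 124 = true := by decide +kernel
theorem cU1 : chkU 123 129 129 = true := by decide +kernel
theorem cI1 : chkI 124 129 129 = true := by decide +kernel
theorem cU2 : chkU 128 134 134 = true := by decide +kernel
theorem cI2 : chkI 129 134 134 = true := by decide +kernel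
theorem cU3 : chkU 132 138 138 = true := by decide +kernel
theorem cI3 : chkI 133 138 138 = true := by decide +kernel
theorem cU4 : chkU 135 142 142 = true := by decide +kernel
theorem cI4 : chkI 136 142 142 = true := by decide +kernel
theorem cU5 : chkU 140 147 147 = true := by decide +kernel
theorem cI5 : chkI 141 147 147 = true := by decide +kernel
theorem cU6 : chkU 143 150 150 = true := by decide +kernel
theorem cI6 : chkI 144 150 150 = true := by decide +kernel
theorem cU7 : chkU 147 155 155 = true := by decide +kernel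
theorem cI7 : chkI 148 155 155 = true := by decide +kernel
theorem cU8 : chkU 152 160 160 = true := by decide +kernel
theorem cI8 : chkI 153 160 160 = true := by decide +kernel
theorem cU9 : chkU 159 168 168 = true := by decide +kernel
theorem cI9 : chkI 160 168 168 = true := by decide +kernel
theorem cU10 : chkU 167 176 176 = true := by decide +kernel
theorem cI10 : chkI 168 176 176 = true := by decide +kernel
theorem cU11 : chkU 174 184 184 = true := by decide +kernel
theorem cI11 : chkI 175 184 184 = true := by decide +kernel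
theorem cU12 : chkU 182 193 193 = true := by decide +kernel
theorem cI12 : chkI 183 193 193 = true := by decide +kernel
theorem cU13 : chkU 192 204 204 = true := by decide +kernel
theorem cI13 : chkI 193 204 204 = true := by decide +kernel
theorem cU14 : chkU 203 216 216 = true := by decide +kernel
theorem cI14 : chkI 204 216 216 = true := by decide +kernel
theorem cU15 : chkU 215 229 229 = true := by decide +kernel
theorem cI15 : chkI 216 229 229 = true := by decide +kernel
theorem cU16 : chkU 228 243 243 = true := by decide +kernel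
theorem cI16 : chkI 229 243 243 = true := by decide +kernel
theorem cU17 : chkU 242 259 259 = true := by decide +kernel
theorem cI17 : chkI 243 259 259 = true := by decide +kernel
theorem cU18 : chkU 258 276 276 = true := by decide +kernel
theorem cI18 : chkI 259 276 276 = true := by decide +kernel
theorem cU19 : chkU 275 295 295 = true := by decide +kernel
theorem cI19 : chkI 276 295 295 = true := by decide +kernel
theorem cU20 : chkU 294 316 316 = true := by decide +kernel
theorem cI20 : chkI 295 316 316 = true := by decide +kernel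
theorem cU21 : chkU 315 339 339 = true := by decide +kernel
theorem cI21 : chkI 316 339 339 = true := by decide +kernel
theorem cU22 : chkU 338 365 365 = true := by decide +kernel
theorem cI22 : chkI 339 365 365 = true := by decide +kernel
theorem cU23 : chkU 363 393 393 = true := by decide +kernel
theorem cI23 : chkI 364 393 393 = true := by decide +kernel
theorem cU24 : chkU 390 423 423 = true := by decide +kernel
theorem cI24 : chkI 391 423 423 = true := by decide +kernel
theorem cU25 : chkU 422 458 458 = true := by decide +kernel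
theorem cI25 : chkI 423 458 458 = true := by decide +kernel
theorem cU26 : chkU 455 495 495 = true := by decide +kernel
theorem cI26 : chkI 456 495 495 = true := by decide +kernel
theorem cU27 : chkU 492 537 537 = true := by decide +kernel
theorem cI27 : chkI 493 537 537 = true := by decide +kernel
theorem cU28 : chkU 527 576 576 = true := by decide +kernel
theorem cI28 : chkI 528 576 576 = true := by decide +kernel
theorem cU29 : chkU 572 626 626 = true := by decide +kernel
theorem cI29 : chkI 573 626 626 = true := by decide +kernel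
theorem cU30 : chkU 623 682 682 = true := by decide +kernel
theorem cI30 : chkI 624 682 682 = true := by decide +kernel
theorem cU31 : chkU 678 742 742 = true := by decide +kernel
theorem cI31 : chkI 679 742 742 = true := by decide +kernel
theorem cU32 : chkU 740 810 810 = true := by decide +kernel
theorem cI32 : chkI 741 810 810 = true := by decide +kernel
theorem cU33 : chkU 803 880 880 = true := by decide +kernel
theorem cI33 : chkI 804 880 880 = true := by decide +kernel
theorem cU34 : chkU 879 966 966 = true := by decide +kernel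
theorem cI34 : chkI 880 966 966 = true := by decide +kernel
theorem cU35 : chkU 959 1054 1054 = true := by decide +kernel
theorem cI35 : chkI 960 1054 1054 = true := by decide +kernel

theorem good_small (n j : ℕ) (hn : 22 ≤ n) (hn' : n < 1024) (hj : 1 ≤ j) (hjn : j ≤ n)
    (hK : Kcond n j) : Good n j := by
  rcases Nat.lt_or_ge 24 n with h0 | h0
  swap
  · exact good_block' 19 1 19 22 24 (by norm_num) (by norm_num) (by norm_num) (by norm_num) (by norm_num) (by norm_num) cS0 n j (by omega) h0 hj hjn hK
  rcases Nat.lt_or_ge 25 n with h1 | h1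
  swap
  · exact good_block' 11 2 22 25 25 (by norm_num) (by norm_num) (by norm_num) (by norm_num) (by norm_num) (by norm_num) cS1 n j (by omega) h1 hj hjn hK
  rcases Nat.lt_or_ge 28 n with h2 | h2
  swap
  · exact good_block' 23 1 23 26 28 (by norm_num) (by norm_num) (by norm_num) (by norm_num) (by norm_num) (by norm_num) cS2 n j (by omega) h2 hj hjn hK
  rcases Nat.lt_or_ge 31 n with h3 | h3
  swap
  · exact good_block' 13 2 26 29 31 (by norm_num) (by norm_num) (by norm_num) (by norm_num) (by norm_num) (by norm_num) cS3 n j (by omega) h3 hj hjn hK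
  rcases Nat.lt_or_ge 33 n with h4 | h4
  swap
  · exact good_block' 29 1 29 32 33 (by norm_num) (by norm_num) (by norm_num) (by norm_num) (by norm_num) (by norm_num) cS4 n j (by omega) h4 hj hjn hK
  rcases Nat.lt_or_ge 36 n with h5 | h5
  swap
  · exact good_block' 31 1 31 34 36 (by norm_num) (by norm_num) (by norm_num) (by norm_num) (by norm_num) (by norm_num) cS5 n j (by omega) h5 hj hjn hK
  rcases Nat.lt_or_ge 39 n with h6 | h6
  swap
  · exact good_block' 17 2 34 37 39 (by norm_num) (by norm_num) (by norm_num) (by norm_num) (by norm_num) (by norm_num) cS6 n j (by omega) h6 hj hjn hK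
  rcases Nat.lt_or_ge 40 n with h7 | h7
  swap
  · exact good_block' 37 1 37 40 40 (by norm_num) (by norm_num) (by norm_num) (by norm_num) (by norm_num) (by norm_num) cS7 n j (by omega) h7 hj hjn hK
  rcases Nat.lt_or_ge 43 n with h8 | h8
  swap
  · exact good_block' 19 2 38 41 43 (by norm_num) (by norm_num) (by norm_num) (by norm_num) (by norm_num) (by norm_num) cS8 n j (by omega) h8 hj hjn hK
  rcases Nat.lt_or_ge 45 n with h9 | h9
  swap
  · exact good_block' 41 1 41 44 45 (by norm_num) (by norm_num) (by norm_num) (by norm_num) (by norm_num) (by norm_num) cS9 n j (by omega) h9 hj hjn hK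
  rcases Nat.lt_or_ge 48 n with h10 | h10
  swap
  · exact good_block' 43 1 43 46 48 (by norm_num) (by norm_num) (by norm_num) (by norm_num) (by norm_num) (by norm_num) cS10 n j (by omega) h10 hj hjn hK
  rcases Nat.lt_or_ge 49 n with h11 | h11
  swap
  · exact good_block' 23 2 46 49 49 (by norm_num) (by norm_num) (by norm_num) (by norm_num) (by norm_num) (by norm_num) cS11 n j (by omega) h11 hj hjn hK
  rcases Nat.lt_or_ge 55 n with h12 | h12
  swap
  · exact good_block' 47 1 47 50 55 (by norm_num) (by norm_num) (by norm_num) (by norm_num) (by norm_num) (by norm_num) cS12 n j (by omega) h12 hj hjn hK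
  rcases Nat.lt_or_ge 60 n with h13 | h13
  swap
  · exact good_block' 53 1 53 56 60 (by norm_num) (by norm_num) (by norm_num) (by norm_num) (by norm_num) (by norm_num) cS13 n j (by omega) h13 hj hjn hK
  rcases Nat.lt_or_ge 61 n with h14 | h14
  swap
  · exact good_block' 29 2 58 61 61 (by norm_num) (by norm_num) (by norm_num) (by norm_num) (by norm_num) (by norm_num) cS14 n j (by omega) h14 hj hjn hK
  rcases Nat.lt_or_ge 63 n with h15 | h15
  swap
  · exact good_block' 59 1 59 62 63 (by norm_num) (by norm_num) (by norm_num) (by norm_num) (by norm_num) (by norm_num) cS15 n j (by omega) h15 hj hjn hK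
  rcases Nat.lt_or_ge 64 n with h16 | h16
  swap
  · exact good_block' 61 1 61 64 64 (by norm_num) (by norm_num) (by norm_num) (by norm_num) (by norm_num) (by norm_num) cS16 n j (by omega) h16 hj hjn hK
  rcases Nat.lt_or_ge 69 n with h17 | h17
  swap
  · exact good_block' 31 2 62 65 69 (by norm_num) (by norm_num) (by norm_num) (by norm_num) (by norm_num) (by norm_num) cS17 n j (by omega) h17 hj hjn hK
  rcases Nat.lt_or_ge 73 n with h18 | h18
  swap
  · exact good_block' 67 1 67 70 73 (by norm_num) (by norm_num) (by norm_num) (by norm_num) (by norm_num) (by norm_num) cS18 n j (by omega) h18 hj hjn hK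
  rcases Nat.lt_or_ge 75 n with h19 | h19
  swap
  · exact good_block' 71 1 71 74 75 (by norm_num) (by norm_num) (by norm_num) (by norm_num) (by norm_num) (by norm_num) cS19 n j (by omega) h19 hj hjn hK
  rcases Nat.lt_or_ge 76 n with h20 | h20
  swap
  · exact good_block' 73 1 73 76 76 (by norm_num) (by norm_num) (by norm_num) (by norm_num) (by norm_num) (by norm_num) cS20 n j (by omega) h20 hj hjn hK
  rcases Nat.lt_or_ge 81 n with h21 | h21
  swap
  · exact good_block' 37 2 74 77 81 (by norm_num) (by norm_num) (by norm_num) (by norm_num) (by norm_num) (by norm_num) cS21 n j (by omega) h21 hj hjn hK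
  rcases Nat.lt_or_ge 84 n with h22 | h22
  swap
  · exact good_block' 79 1 79 82 84 (by norm_num) (by norm_num) (by norm_num) (by norm_num) (by norm_num) (by norm_num) cS22 n j (by omega) h22 hj hjn hK
  rcases Nat.lt_or_ge 85 n with h23 | h23
  swap
  · exact good_block' 41 2 82 85 85 (by norm_num) (by norm_num) (by norm_num) (by norm_num) (by norm_num) (by norm_num) cS23 n j (by omega) h23 hj hjn hK
  rcases Nat.lt_or_ge 88 n with h24 | h24
  swap
  · exact good_block' 83 1 83 86 88 (by norm_num) (by norm_num) (by norm_num) (by norm_num) (by norm_num) (by norm_num) cS24 n j (by omega) h24 hj hjn hK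
  rcases Nat.lt_or_ge 91 n with h25 | h25
  swap
  · exact good_block' 43 2 86 89 91 (by norm_num) (by norm_num) (by norm_num) (by norm_num) (by norm_num) (by norm_num) cS25 n j (by omega) h25 hj hjn hK
  rcases Nat.lt_or_ge 96 n with h26 | h26
  swap
  · exact good_block' 89 1 89 92 96 (by norm_num) (by norm_num) (by norm_num) (by norm_num) (by norm_num) (by norm_num) cS26 n j (by omega) h26 hj hjn hK
  rcases Nat.lt_or_ge 99 n with h27 | h27
  swap
  · exact good_block' 47 2 94 97 99 (by norm_num) (by norm_num) (by norm_num) (by norm_num) (by norm_num) (by norm_num) cS27 n j (by omega) h27 hj hjn hK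
  rcases Nat.lt_or_ge 103 n with h28 | h28
  swap
  · exact good_block' 97 1 97 100 103 (by norm_num) (by norm_num) (by norm_num) (by norm_num) (by norm_num) (by norm_num) cS28 n j (by omega) h28 hj hjn hK
  rcases Nat.lt_or_ge 105 n with h29 | h29
  swap
  · exact good_block' 101 1 101 104 105 (by norm_num) (by norm_num) (by norm_num) (by norm_num) (by norm_num) (by norm_num) cS29 n j (by omega) h29 hj hjn hK
  rcases Nat.lt_or_ge 108 n with h30 | h30
  swap
  · exact good_block' 103 1 103 106 108 (by norm_num) (by norm_num) (by norm_num) (by norm_num) (by norm_num) (by norm_num) cS30 n j (by omega) h30 hj hjn hK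
  rcases Nat.lt_or_ge 109 n with h31 | h31
  swap
  · exact good_block' 53 2 106 109 109 (by norm_num) (by norm_num) (by norm_num) (by norm_num) (by norm_num) (by norm_num) cS31 n j (by omega) h31 hj hjn hK
  rcases Nat.lt_or_ge 111 n with h32 | h32
  swap
  · exact good_block' 107 1 107 110 111 (by norm_num) (by norm_num) (by norm_num) (by norm_num) (by norm_num) (by norm_num) cS32 n j (by omega) h32 hj hjn hK
  rcases Nat.lt_or_ge 115 n with h33 | h33
  swap
  · exact good_block' 109 1 109 112 115 (by norm_num) (by norm_num) (by norm_num) (by norm_num) (by norm_num) (by norm_num) cS33 n j (by omega) h33 hj hjn hK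
  rcases Nat.lt_or_ge 120 n with h34 | h34
  swap
  · exact good_block' 113 1 113 116 120 (by norm_num) (by norm_num) (by norm_num) (by norm_num) (by norm_num) (by norm_num) cS34 n j (by omega) h34 hj hjn hK
  rcases Nat.lt_or_ge 124 n with g0 | g0
  swap
  · exact good_block 59 2 118 121 124 (by norm_num) (by norm_num) (by norm_num) (by norm_num) (by norm_num) (by norm_num) cU0 cI0 n j (by omega) g0 hj hjn hK
  rcases Nat.lt_or_ge 129 n with g1 | g1
  swap
  · exact good_block 61 2 122 125 129 (by norm_num) (by norm_num) (by norm_num) (by norm_num) (by norm_num) (by norm_num) cU1 cI1 n j (by omega) g1 hj hjn hK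
  rcases Nat.lt_or_ge 134 n with g2 | g2
  swap
  · exact good_block 127 1 127 130 134 (by norm_num) (by norm_num) (by norm_num) (by norm_num) (by norm_num) (by norm_num) cU2 cI2 n j (by omega) g2 hj hjn hK
  rcases Nat.lt_or_ge 138 n with g3 | g3
  swap
  · exact good_block 131 1 131 135 138 (by norm_num) (by norm_num) (by norm_num) (by norm_num) (by norm_num) (by norm_num) cU3 cI3 n j (by omega) g3 hj hjn hK
  rcases Nat.lt_or_ge 142 n with g4 | g4
  swap
  · exact good_block 67 2 134 139 142 (by norm_num) (by norm_num) (by norm_num) (by norm_num) (by norm_num) (by norm_num) cU4 cI4 n j (by omega) g4 hj hjn hK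
  rcases Nat.lt_or_ge 147 n with g5 | g5
  swap
  · exact good_block 139 1 139 143 147 (by norm_num) (by norm_num) (by norm_num) (by norm_num) (by norm_num) (by norm_num) cU5 cI5 n j (by omega) g5 hj hjn hK
  rcases Nat.lt_or_ge 150 n with g6 | g6
  swap
  · exact good_block 71 2 142 148 150 (by norm_num) (by norm_num) (by norm_num) (by norm_num) (by norm_num) (by norm_num) cU6 cI6 n j (by omega) g6 hj hjn hK
  rcases Nat.lt_or_ge 155 n with g7 | g7
  swap
  · exact good_block 73 2 146 151 155 (by norm_num) (by norm_num) (by norm_num) (by norm_num) (by norm_num) (by norm_num) cU7 cI7 n j (by omega) g7 hj hjn hK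
  rcases Nat.lt_or_ge 160 n with g8 | g8
  swap
  · exact good_block 151 1 151 156 160 (by norm_num) (by norm_num) (by norm_num) (by norm_num) (by norm_num) (by norm_num) cU8 cI8 n j (by omega) g8 hj hjn hK
  rcases Nat.lt_or_ge 168 n with g9 | g9
  swap
  · exact good_block 79 2 158 161 168 (by norm_num) (by norm_num) (by norm_num) (by norm_num) (by norm_num) (by norm_num) cU9 cI9 n j (by omega) g9 hj hjn hK
  rcases Nat.lt_or_ge 176 n with g10 | g10
  swap
  · exact good_block 83 2 166 169 176 (by norm_num) (by norm_num) (by norm_num) (by norm_num) (by norm_num) (by norm_num) cU10 cI10 n j (by omega) g10 hj hjn hK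
  rcases Nat.lt_or_ge 184 n with g11 | g11
  swap
  · exact good_block 173 1 173 177 184 (by norm_num) (by norm_num) (by norm_num) (by norm_num) (by norm_num) (by norm_num) cU11 cI11 n j (by omega) g11 hj hjn hK
  rcases Nat.lt_or_ge 193 n with g12 | g12
  swap
  · exact good_block 181 1 181 185 193 (by norm_num) (by norm_num) (by norm_num) (by norm_num) (by norm_num) (by norm_num) cU12 cI12 n j (by omega) g12 hj hjn hK
  rcases Nat.lt_or_ge 204 n with g13 | g13
  swap
  · exact good_block 191 1 191 194 204 (by norm_num) (by norm_num) (by norm_num) (by norm_num) (by norm_num) (by norm_num) cU13 cI13 n j (by omega) g13 hj hjn hK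
  rcases Nat.lt_or_ge 216 n with g14 | g14
  swap
  · exact good_block 101 2 202 205 216 (by norm_num) (by norm_num) (by norm_num) (by norm_num) (by norm_num) (by norm_num) cU14 cI14 n j (by omega) g14 hj hjn hK
  rcases Nat.lt_or_ge 229 n with g15 | g15
  swap
  · exact good_block 107 2 214 217 229 (by norm_num) (by norm_num) (by norm_num) (by norm_num) (by norm_num) (by norm_num) cU15 cI15 n j (by omega) g15 hj hjn hK
  rcases Nat.lt_or_ge 243 n with g16 | g16
  swap
  · exact good_block 227 1 227 230 243 (by norm_num) (by norm_num) (by norm_num) (by norm_num) (by norm_num) (by norm_num) cU16 cI16 n j (by omega) g16 hj hjn hK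
  rcases Nat.lt_or_ge 259 n with g17 | g17
  swap
  · exact good_block 241 1 241 244 259 (by norm_num) (by norm_num) (by norm_num) (by norm_num) (by norm_num) (by norm_num) cU17 cI17 n j (by omega) g17 hj hjn hK
  rcases Nat.lt_or_ge 276 n with g18 | g18
  swap
  · exact good_block 257 1 257 260 276 (by norm_num) (by norm_num) (by norm_num) (by norm_num) (by norm_num) (by norm_num) cU18 cI18 n j (by omega) g18 hj hjn hK
  rcases Nat.lt_or_ge 295 n with g19 | g19
  swap
  · exact good_block 137 2 274 277 295 (by norm_num) (by norm_num) (by norm_num) (by norm_num) (by norm_num) (by norm_num) cU19 cI19 n j (by omega) g19 hj hjn hK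
  rcases Nat.lt_or_ge 316 n with g20 | g20
  swap
  · exact good_block 293 1 293 296 316 (by norm_num) (by norm_num) (by norm_num) (by norm_num) (by norm_num) (by norm_num) cU20 cI20 n j (by omega) g20 hj hjn hK
  rcases Nat.lt_or_ge 339 n with g21 | g21
  swap
  · exact good_block 157 2 314 317 339 (by norm_num) (by norm_num) (by norm_num) (by norm_num) (by norm_num) (by norm_num) cU21 cI21 n j (by omega) g21 hj hjn hK
  rcases Nat.lt_or_ge 365 n with g22 | g22
  swap
  · exact good_block 337 1 337 340 365 (by norm_num) (by norm_num) (by norm_num) (by norm_num) (by norm_num) (by norm_num) cU22 cI22 n j (by omega) g22 hj hjn hK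
  rcases Nat.lt_or_ge 393 n with g23 | g23
  swap
  · exact good_block 181 2 362 366 393 (by norm_num) (by norm_num) (by norm_num) (by norm_num) (by norm_num) (by norm_num) cU23 cI23 n j (by omega) g23 hj hjn hK
  rcases Nat.lt_or_ge 423 n with g24 | g24
  swap
  · exact good_block 389 1 389 394 423 (by norm_num) (by norm_num) (by norm_num) (by norm_num) (by norm_num) (by norm_num) cU24 cI24 n j (by omega) g24 hj hjn hK
  rcases Nat.lt_or_ge 458 n with g25 | g25
  swap
  · exact good_block 421 1 421 424 458 (by norm_num) (by norm_num) (by norm_num) (by norm_num) (by norm_num) (by norm_num) cU25 cI25 n j (by omega) g25 hj hjn hK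
  rcases Nat.lt_or_ge 495 n with g26 | g26
  swap
  · exact good_block 227 2 454 459 495 (by norm_num) (by norm_num) (by norm_num) (by norm_num) (by norm_num) (by norm_num) cU26 cI26 n j (by omega) g26 hj hjn hK
  rcases Nat.lt_or_ge 537 n with g27 | g27
  swap
  · exact good_block 491 1 491 496 537 (by norm_num) (by norm_num) (by norm_num) (by norm_num) (by norm_num) (by norm_num) cU27 cI27 n j (by omega) g27 hj hjn hK
  rcases Nat.lt_or_ge 576 n with g28 | g28
  swap
  · exact good_block 263 2 526 538 576 (by norm_num) (by norm_num) (by norm_num) (by norm_num) (by norm_num) (by norm_num) cU28 cI28 n j (by omega) g28 hj hjn hK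
  rcases Nat.lt_or_ge 626 n with g29 | g29
  swap
  · exact good_block 571 1 571 577 626 (by norm_num) (by norm_num) (by norm_num) (by norm_num) (by norm_num) (by norm_num) cU29 cI29 n j (by omega) g29 hj hjn hK
  rcases Nat.lt_or_ge 682 n with g30 | g30
  swap
  · exact good_block 311 2 622 627 682 (by norm_num) (by norm_num) (by norm_num) (by norm_num) (by norm_num) (by norm_num) cU30 cI30 n j (by omega) g30 hj hjn hK
  rcases Nat.lt_or_ge 742 n with g31 | g31
  swap
  · exact good_block 677 1 677 683 742 (by norm_num) (by norm_num) (by norm_num) (by norm_num) (by norm_num) (by norm_num) cU31 cI31 n j (by omega) g31 hj hjn hK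
  rcases Nat.lt_or_ge 810 n with g32 | g32
  swap
  · exact good_block 739 1 739 743 810 (by norm_num) (by norm_num) (by norm_num) (by norm_num) (by norm_num) (by norm_num) cU32 cI32 n j (by omega) g32 hj hjn hK
  rcases Nat.lt_or_ge 880 n with g33 | g33
  swap
  · exact good_block 401 2 802 811 880 (by norm_num) (by norm_num) (by norm_num) (by norm_num) (by norm_num) (by norm_num) cU33 cI33 n j (by omega) g33 hj hjn hK
  rcases Nat.lt_or_ge 966 n with g34 | g34
  swap
  · exact good_block 439 2 878 881 966 (by norm_num) (by norm_num) (by norm_num) (by norm_num) (by norm_num) (by norm_num) cU34 cI34 n j (by omega) g34 hj hjn hK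
  rcases Nat.lt_or_ge 1054 n with g35 | g35
  swap
  · exact good_block 479 2 958 967 1054 (by norm_num) (by norm_num) (by norm_num) (by norm_num) (by norm_num) (by norm_num) cU35 cI35 n j (by omega) g35 hj hjn hK
  omega

end Cfsg.Agent.PermutationGroups.OrderBound.NumSmall
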