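import Mathlib
import Cfsg.Agent.PermutationGroups.OrderBound.Defs

/-!
(N1a) numerics for `22 ≤ n < 128`: fixed point upper bounds (scale `2^24`) for the products
`UB` and `IB`, evaluated in the kernel.
-/

set_option autoImplicit false

namespace Cfsg.Agent.PermutationGroups.OrderBound.NumSmallA

open Cfsg.Agent.PermutationGroups.OrderBound.Defs

/-- the fixed point scale. -/
abbrev S : ℕ := 16777216

/-- fixed point evaluation of the product; `V` is an upper bound of `S * v_t`. -/
def loop (m c : ℕ) (a : ℕ → ℕ) : ℕ → ℕ → ℕ → ℕ → ℕ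
  | 0, _, _, acc => acc
  | f + 1, t, V, acc =>
    loop m c a f (t + 1) (V * a t / (c * (m - t - 1)) + 1) (acc * (S + V))

theorem loop_zero (m c : ℕ) (a : ℕ → ℕ) (t V acc : ℕ) : loop m c a 0 t V acc = acc := rfl

theorem loop_succ (m c : ℕ) (a : ℕ → ℕ) (f t V acc : ℕ) :
    loop m c a (f + 1) t V acc =
      loop m c a f (t + 1) (V * a t / (c * (m - t - 1)) + 1) (acc * (S + V)) := rfl

theorem loop_sound (m c : ℕ) (hc : 0 < c) (a : ℕ → ℕ) (v0 : ℝ) (A : ℕ → ℝ)
    (hv0 : 0 ≤ v0) (hA : ∀ t, 0 ≤ A t) (ha : ∀ t, A t * c ≤ a t) (f : ℕ) :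
    ∀ t V acc : ℕ, (S : ℝ) * vseq m v0 A t ≤ V →
      (acc : ℝ) * ∏ i ∈ Finset.range f, ((S : ℝ) * (1 + vseq m v0 A (t + i)))
        ≤ (loop m c a f t V acc : ℕ) := by
  have hnn : ∀ t, 0 ≤ vseq m v0 A t := by
    intro t
    induction t with
    | zero => rw [vseq_zero]; exact hv0
    | succ t ih => rw [vseq_succ]; exact div_nonneg (mul_nonneg ih (hA t)) (Nat.cast_nonneg _)
  have hS : (0 : ℝ) < (S : ℝ) := by norm_num
  have hc' : (0 : ℝ) < c := by exact_mod_cast hc
  induction f with
  | zero =>
    intro t V acc _
    rw [loop_zero, Finset.range_zero, Finset.prod_empty, mul_one]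
  | succ f ih =>
    intro t V acc hV
    rw [loop_succ]
    have hV' : (S : ℝ) * vseq m v0 A (t + 1) ≤ ((V * a t / (c * (m - t - 1)) + 1 : ℕ) : ℝ) := by
      rw [vseq_succ]
      rcases Nat.eq_zero_or_pos (m - t - 1) with h0 | hpos
      · rw [h0, Nat.cast_zero, div_zero, mul_zero]
        exact Nat.cast_nonneg _
      · have hpos' : (0 : ℝ) < ((m - t - 1 : ℕ) : ℝ) := by exact_mod_cast hpos
        have h1 : (S : ℝ) * (vseq m v0 A t * A t / ((m - t - 1 : ℕ) : ℝ))
            = ((S : ℝ) * vseq m v0 A t) * (A t * c) / (c * ((m - t - 1 : ℕ) : ℝ)) := by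
          field_simp
        rw [h1]
        have h2 : ((S : ℝ) * vseq m v0 A t) * (A t * c) ≤ (V : ℝ) * a t :=
          mul_le_mul hV (ha t) (mul_nonneg (hA t) hc'.le) (Nat.cast_nonneg _)
        have h3 : ((S : ℝ) * vseq m v0 A t) * (A t * c) / (c * ((m - t - 1 : ℕ) : ℝ))
            ≤ (V : ℝ) * a t / (c * ((m - t - 1 : ℕ) : ℝ)) :=
          div_le_div_of_nonneg_right h2 (mul_nonneg hc'.le hpos'.le)
        refine h3.trans ?_
        have h4 := Nat.lt_div_mul_add (a := V * a t) (b := c * (m - t - 1)) (Nat.mul_pos hc hpos)
        have h5 : ((V * a t : ℕ) : ℝ)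
            ≤ ((V * a t / (c * (m - t - 1)) + 1 : ℕ) : ℝ) * ((c * (m - t - 1) : ℕ) : ℝ) := by
          have : V * a t ≤ (V * a t / (c * (m - t - 1)) + 1) * (c * (m - t - 1)) := by
            rw [add_mul, one_mul]; exact h4.le
          exact_mod_cast this
        rw [div_le_iff₀ (mul_pos hc' hpos')]
        push_cast at h5 ⊢
        exact h5
    have key := ih (t + 1) _ (acc * (S + V)) hV'
    refine le_trans ?_ key
    rw [Finset.prod_range_succ']
    have h6 : ∏ i ∈ Finset.range f, ((S : ℝ) * (1 + vseq m v0 A (t + (i + 1))))
        = ∏ i ∈ Finset.range f, ((S : ℝ) * (1 + vseq m v0 A (t + 1 + i))) := by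
      apply Finset.prod_congr rfl
      intro i _
      rw [show t + (i + 1) = t + 1 + i by ring]
    rw [h6]
    have h7 : (0 : ℝ) ≤ ∏ i ∈ Finset.range f, ((S : ℝ) * (1 + vseq m v0 A (t + 1 + i))) :=
      Finset.prod_nonneg fun i _ => mul_nonneg hS.le (by linarith [hnn (t + 1 + i)])
    have h8 : (S : ℝ) * (1 + vseq m v0 A (t + 0)) ≤ ((S + V : ℕ) : ℝ) := by
      rw [add_zero]
      push_cast
      push_cast at hV
      linarith
    push_cast
    push_cast at h8
    have h9 : (0 : ℝ) ≤ (acc : ℝ) := Nat.cast_nonneg _
    calc (acc : ℝ) * ((∏ i ∈ Finset.range f, ((16777216 : ℝ) * (1 + vseq m v0 A (t + 1 + i)))) *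
            (16777216 * (1 + vseq m v0 A (t + 0))))
        ≤ (acc : ℝ) * ((∏ i ∈ Finset.range f, ((16777216 : ℝ) * (1 + vseq m v0 A (t + 1 + i)))) *
            (16777216 + V)) := by
          apply mul_le_mul_of_nonneg_left _ h9
          apply mul_le_mul_of_nonneg_left h8
          exact_mod_cast h7
      _ = _ := by ring

/-- fixed point version of `UB m d`. -/
def loopU (m d : ℕ) : ℕ := loop m 1 (fun t => m - t - d) m 0 ((m - 1) * S) 1

/-- step factors for `IB`, times `c`. -/
def aI (m b c t : ℕ) : ℕ :=
  if t < b then max (c * (m - t - max (2 * b) (t + 3 - b))) (c * (b - 1 - t) + (m - 1 - b))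
  else c * (m - t - max (2 * b) (t + 3 - b))

/-- fixed point version of `IB m b c`. -/
def loopI (m b c : ℕ) : ℕ := loop m c (aI m b c) m 0 (c * (m - 1) * S) 1

theorem UB_le_of (m d T : ℕ) (hm : 1 ≤ m) (h : loopU m d ≤ T * S ^ m) : UB m d ≤ T := by
  have h0 : (0 : ℝ) ≤ (m : ℝ) - 1 := by
    have : (1 : ℝ) ≤ m := by exact_mod_cast hm
    linarith
  have key := loop_sound m 1 one_pos (fun t => m - t - d) ((m : ℝ) - 1)
    (fun t => ((m - t - d : ℕ) : ℝ)) h0 (fun t => Nat.cast_nonneg _)
    (fun t => by simp) m 0 ((m - 1) * S) 1 (by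
      rw [vseq_zero]
      push_cast [Nat.cast_sub hm]
      linarith)
  rw [Nat.cast_one, one_mul] at key
  have h1 : ((loopU m d : ℕ) : ℝ) ≤ (T : ℝ) * (S : ℝ) ^ m := by exact_mod_cast h
  have h2 : ∏ i ∈ Finset.range m, ((S : ℝ) * (1 + vseq m ((m : ℝ) - 1)
      (fun t => ((m - t - d : ℕ) : ℝ)) (0 + i))) = (S : ℝ) ^ m * UB m d := by
    rw [Finset.prod_mul_distrib, Finset.prod_const, Finset.card_range]
    unfold UB
    congr 1
    apply Finset.prod_congr rfl
    intro i _
    rw [zero_add]
  rw [h2] at key
  have h3 : (S : ℝ) ^ m * UB m d ≤ (T : ℝ) * (S : ℝ) ^ m := key.trans h1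
  have hS : (0 : ℝ) < (S : ℝ) ^ m := by positivity
  rw [mul_comm] at h3
  exact le_of_mul_le_mul_right h3 hS

theorem IB_le_of (m b c T : ℕ) (hm : 1 ≤ m) (hc : 1 ≤ c) (h : loopI m b c ≤ T * S ^ m) :
    IB m b c ≤ T := by
  have hc' : (0 : ℝ) < c := by exact_mod_cast hc
  have h0 : (0 : ℝ) ≤ (c : ℝ) * ((m : ℝ) - 1) := by
    have : (1 : ℝ) ≤ m := by exact_mod_cast hm
    exact mul_nonneg hc'.le (by linarith)
  have hA : ∀ t, 0 ≤ AI m b c t := by
    intro t
    unfold AI
    split_ifs
    · exact le_max_of_le_left (Nat.cast_nonneg _)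
    · exact Nat.cast_nonneg _
  have ha : ∀ t, AI m b c t * c ≤ aI m b c t := by
    intro t
    unfold AI aI
    split_ifs
    · rw [max_mul_of_nonneg _ _ hc'.le]
      push_cast
      apply max_le_max
      · rw [mul_comm]
      · rw [add_mul, div_mul_cancel₀ _ hc'.ne', mul_comm]
    · push_cast
      rw [mul_comm]
  have key := loop_sound m c hc (aI m b c) ((c : ℝ) * ((m : ℝ) - 1)) (AI m b c) h0 hA ha
    m 0 (c * (m - 1) * S) 1 (by
      rw [vseq_zero]
      push_cast [Nat.cast_sub hm]
      linarith)
  rw [Nat.cast_one, one_mul] at key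
  have h1 : ((loopI m b c : ℕ) : ℝ) ≤ (T : ℝ) * (S : ℝ) ^ m := by exact_mod_cast h
  have h2 : ∏ i ∈ Finset.range m, ((S : ℝ) * (1 + vseq m ((c : ℝ) * ((m : ℝ) - 1))
      (AI m b c) (0 + i))) = (S : ℝ) ^ m * IB m b c := by
    rw [Finset.prod_mul_distrib, Finset.prod_const, Finset.card_range]
    unfold IB
    congr 1
    apply Finset.prod_congr rfl
    intro i _
    rw [zero_add]
  rw [h2] at key
  have h3 : (S : ℝ) ^ m * IB m b c ≤ (T : ℝ) * (S : ℝ) ^ m := key.trans h1
  have hS : (0 : ℝ) < (S : ℝ) ^ m := by positivity
  rw [mul_comm] at h3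
  exact le_of_mul_le_mul_right h3 hS

/-- bounds for `UB m (dmin m)`, `m = 20 + index`. -/
def TU : List ℕ := [
  421484775, 1976263830,
  236939626, 930309501,
  3744251905, 15433526111,
  65098297988, 280766645672,
  1237318107888, 5567838373747,
  25567496543080, 119737402673304,
  5480036877355, 21796393236672,
  88108253115353, 361825997823960,
  1508911783743091, 6387734406038986,
  27440706655259343, 119581041238767405,
  528455921752124674, 2367560886868562492,
  10750096746548502083, 49456242869185861340,
  865067025067997410, 3432819104424289986,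
  13775597454901801103, 55890289514539645125,
  229213069019840397713, 950024559977695517751,
  3978688170700863454356, 16833559249029259413043,
  71939357334226694452086, 310483062715207425987151,
  1353067944226936488779883, 5953086771954336278877127,
  26438691344295458205503095, 118508398045975343583646209,
  805811039164344767671824, 3161139954136121938180100,
  12501414321613731688240257, 49834275738972782629859794,
  200217151199524218169033021, 810643458594232391799648479,
  3307253350270211137412366565, 13594655523019535286279979424,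
  56297376268735215682941464209, 234846726892676985572117825639,
  986767560478344117353863565039, 4175798583707152471644029682601,
  17795848781097207847012806782105, 76368336754729939081378337460295,
  329978794055381536570436753677916, 1435492489588737899398140885865562,
  3889396034911267992210339717645, 15000953440182493768689205256265,
  58206635462781932038570439873716, 227202316346980947806581939261709,
  892092888539671123088076468106625, 3523182015132475497337333730284288,
  13994582448211113385609664702065843, 55905901984469309627022448473462665,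
  224594974201374136290332170337936349, 907323609773509725180381108426924208,
  3685677049007401326850194640850959152, 15053615981716620689294428075427768390,
  61817016875595376062322507286346914889, 255208144293393591743920381746809090623,
  1059196770969384724794939017805121207111, 4419088322060573016858868104318494257900,
  18532665206083657051031132806836381960891, 78121744576634622275812636336128957484741,
  86755344599053563755724256045948624912, 327922002019065848839140456841085872368,
  1245244196625858866572467609679304185102, 4750383697681146764724464776557984385458,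
  18204299615369531692592716588635334137120, 70076758799469504486142852862174717576719,
  270962576474988687362872866038140887506668, 1052357221684272081519863541441184176675590,
  4105050331919640728955312380955703666998967, 16082677365340401518158206874849227300174131,
  63279989303104104336254993672037043691335737, 250049647475558700876172727371471715887863253,
  992250608101595839318516372322344769178080807, 3954008870864654018725249826863137955115389328,
  15821905815599713174719524696212186149224326396, 63572525863103553850297700374576304610900048711,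
  256481349159144413899566317578399802502397906166, 1038967591747869228020912438114703391981767052126,
  4225669110758664234848561638909929304386410316862, 17255206013117698809530336396662309458385843167975,
  8087806337085739391828246472776477226531766416, 29907394764121244933022390358428843567415929963,
  110995403068843029369787652746133203515314906119, 413426020054848591178896296121423976945249201591,
  1545416744711922039718718728203463745761755269572, 5797437356294884108847340903709160757928667623574,
  21825109636373409831406729436779850106613993346545, 82451256989499090854088999345257078435734907216825,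
  312568830598681238455328449132881502785017594100169, 1189025424267985147525515048794202995073347182915567,
  4538603543074010621319940869810457576178005480139685, 17383203847208974692124039191413458317659297278041984,
  66803875235915101641065303813838179706792025276881748, 257588813671799088448316126441244023478640502695933796,
  996544412305981163815469299857371397939248584114073276, 3868119767255240818674212398571791623474216513231537349]

/-- bounds for `IB m b c`, `m = 20 + index`. -/
def TI : List ℕ := [
  0, 2535328660,
  9986772887, 20359672751,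
  0, 264137008041,
  342695822, 1201979129233,
  6442616763307, 8867408679173,
  0, 146238704176887,
  0, 620937001773561,
  3107205626122370, 3079452956650035,
  77535630928926, 62171584437044081,
  0, 136456544452080448,
  1177175696689390995, 3513334946759491178,
  0, 21183737360428753511,
  0, 187694324371963412189,
  363661057576745609122, 213695788572985533253,
  0, 9168205042462190775327,
  9877586592225506, 11656241527537823544938,
  94236354579254872234828, 412532445169210654503841,
  0, 1430256645597997417299206,
  4792216819632731779973439, 17213506688010411528626250,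
  20937726219960525530872280, 8204230296461024740681506,
  0, 670000664782232211768094384,
  0, 248003586643032886216679995,
  4058748636020317016845303971, 24452722035021609610574790171,
  61846766581690491460137416610, 53934557617258236709370096499,
  0, 840639509894111573442374269188,
  696208983044226662979232082694, 5739679176131495521090538555464,
  0, 27332434857740463461328017264195,
  0, 5166111075067423006784916681304,
  486487916340920682164596976551729, 843513236157411624111535626937735,
  373130117306429083670387189226, 1705396870033941553860146713878328,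
  0, 37910252099860939818357510899327018,
  14843091078459177811920719033860849, 3172809980423050022446905233949578,
  0, 913535363178297967825302385563142681,
  2732350037153981068267982139573211001, 74327327982700589880323428952296393,
  1878507127757767106280419861398300335, 18690272304936349581290839843285698523,
  0, 183119203184051467747423210569677580363,
  1662657273765324666132059085320727036, 481923287635385176301011240104796904050,
  218272388292808143388878485804383503609, 36776159234566695002733468783839531206,
  11466414683810208813765250320386361257971, 26167988649098991061018759849776114459379,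
  0, 2772209502592545962338381706697421546560,
  23429908248873691159936220407732210923509, 673719070770571450584996789056717059499162,
  0, 3827299125309539902605871051990045988270604,
  0, 6585905703532343791187559088133455751679232,
  37287287599380865722681710880849311469754576, 319530725136177318417357687874425205553634,
  0, 512252306292145948672894076559262179646316407,
  0, 1950655907556715572432610788374073060272099566,
  217372367415221883377127760598284868619663228, 4740060315433319986047341243373972286255508574,
  0, 63101420191034339168251068059722644503058421965,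
  96761171444441290363878913087559999902616377771, 66393619511572147346393508355646911128232760116,
  18957625589336889085920582138875004916473570023, 2154618766582170839265038355888485515282379670,
  2625791178209716176197301335196047356467831680189, 7191500256652976178973640757423210937138193136757,
  489829835485882371352641415309388421, 38667707924398816405228235447429367988141412163,
  1555486924259370226840869615478009474536906247580, 26664353882748102981451156874648176827631591511404,
  205248346533572834592689271629302076693098037426295, 761854614307770225331493818761469024860309947216138]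

/-- primes `p` for the bound on the degree of transitivity, `n = 22 + index`. -/
def TP : List ℕ := [
  19, 19, 19, 11, 23, 23, 23, 13, 13, 13, 29, 29, 31, 31, 31, 17, 17, 17, 37, 19,
  19, 19, 41, 41, 43, 43, 43, 23, 47, 47, 47, 47, 47, 47, 53, 53, 53, 53, 53, 29,
  59, 59, 61, 31, 31, 31, 31, 31, 67, 67, 67, 67, 71, 71, 73, 37, 37, 37, 37, 37,
  79, 79, 79, 41, 83, 83, 83, 43, 43, 43, 89, 89, 89, 89, 89, 47, 47, 47, 97, 97,
  97, 97, 101, 101, 103, 103, 103, 53, 107, 107, 109, 109, 109, 109, 113, 113, 113, 113, 113, 59,
  59, 59, 59, 61, 61, 61]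

/-- number of cycles `q`, `n = 22 + index`. -/
def TQ : List ℕ := [
  1, 1, 1, 2, 1, 1, 1, 2, 2, 2, 1, 1, 1, 1, 1, 2, 2, 2, 1, 2,
  2, 2, 1, 1, 1, 1, 1, 2, 1, 1, 1, 1, 1, 1, 1, 1, 1, 1, 1, 2,
  1, 1, 1, 2, 2, 2, 2, 2, 1, 1, 1, 1, 1, 1, 1, 2, 2, 2, 2, 2,
  1, 1, 1, 2, 1, 1, 1, 2, 2, 2, 1, 1, 1, 1, 1, 2, 2, 2, 1, 1,
  1, 1, 1, 1, 1, 1, 1, 2, 1, 1, 1, 1, 1, 1, 1, 1, 1, 1, 1, 2,
  2, 2, 2, 2, 2, 2]


/-- the values `dmin m`, `m = 20 + index`. -/
def TD : List ℕ := [
  5, 5, 6, 6, 6, 6, 6, 6, 6, 6, 6, 6, 7, 7, 7, 7, 7, 7, 7, 7,
  7, 7, 7, 7, 8, 8, 8, 8, 8, 8, 8, 8, 8, 8, 8, 8, 8, 8, 9, 9,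
  9, 9, 9, 9, 9, 9, 9, 9, 9, 9, 9, 9, 9, 9, 10, 10, 10, 10, 10, 10,
  10, 10, 10, 10, 10, 10, 10, 10, 10, 10, 10, 10, 11, 11, 11, 11, 11, 11, 11, 11,
  11, 11, 11, 11, 11, 11, 11, 11, 11, 11, 11, 11, 12, 12, 12, 12, 12, 12, 12, 12,
  12, 12, 12, 12, 12, 12, 12, 12]

theorem dmin_eq (m d : ℕ) (h1 : m - 1 ≤ d * (d - 1)) (h2 : (d - 1) * (d - 2) < m - 1) :
    dmin m = d := by
  unfold dmin
  have hd : 2 ≤ d := by
    by_contra hlt
    have h3 : d * (d - 1) = 0 := by
      interval_cases d <;> rfl
    omega
  obtain ⟨e, rfl⟩ : ∃ e, d = e + 2 := ⟨d - 2, by omega⟩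
  have e1 : e + 2 - 1 = e + 1 := rfl
  have e2 : e + 2 - 2 = e := rfl
  rw [e1] at h1 h2
  rw [e2] at h2
  have h3 : 2 * e + 1 ≤ Nat.sqrt (4 * m - 4) := by
    rw [Nat.le_sqrt']
    have : (2 * e + 1) ^ 2 = 4 * ((e + 1) * e) + 1 := by ring
    rw [this]
    omega
  have h4 : Nat.sqrt (4 * m - 4) < 2 * e + 3 := by
    rw [Nat.sqrt_lt']
    have : (2 * e + 3) ^ 2 = 4 * ((e + 2) * (e + 1)) + 1 := by ring
    rw [this]
    omega
  omega

def checkU (m : ℕ) : Bool :=
  let d := TD.getD (m - 20) 0
  Nat.ble (m - 1) (d * (d - 1)) && Nat.ble ((d - 1) * (d - 2) + 1) (m - 1) &&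
    Nat.ble (loopU m d) (TU.getD (m - 20) 0 * S ^ m)

def checkI (m : ℕ) : Bool :=
  (List.range 128).all fun b =>
    Nat.ble b 1 || Nat.ble m (2 * b) || !((m - 1) % b == 0) ||
      Nat.ble (loopI m b 1) (TI.getD (m - 20) 0 * S ^ m) ||
      Nat.ble (loopI m b 2) (TI.getD (m - 20) 0 * S ^ m)

/-- falling factorial. -/
def fall (n : ℕ) : ℕ → ℕ
  | 0 => 1
  | k + 1 => (n - k) * fall n k

theorem fall_eq (n k : ℕ) : fall n k = n.descFactorial k := by
  induction k with
  | zero => rfl
  | succ k ih => rw [Nat.descFactorial_succ, ← ih]; rfl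

def checkN (n : ℕ) : Bool :=
  let p := TP.getD (n - 22) 0
  let q := TQ.getD (n - 22) 0
  Nat.ble 5 p && (q == 1 || q == 2) && Nat.ble (q * p + 3) n &&
    Nat.ble (n + 1) ((q + 1) * p) &&
    (List.range (n + 1 - q * p)).all fun j =>
      j == 0 ||
        (Nat.ble 20 (n - j + 1) && Nat.ble (fall n (j - 1) * TU.getD (n - j + 1 - 20) 0) (4 ^ n) &&
          (Nat.ble j 1 || Nat.ble (fall n (j - 2) * TI.getD (n - j + 2 - 20) 0) (4 ^ n)))

theorem all_U : (List.range 128).all (fun m => Nat.ble m 19 || checkU m) = true := by
  decide +kernel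

theorem all_I : (List.range 128).all (fun m => Nat.ble m 19 || checkI m) = true := by
  decide +kernel

theorem all_N : (List.range 128).all (fun n => Nat.ble n 21 || checkN n) = true := by
  decide +kernel

theorem primes_list : ∀ p ∈ ([11, 13, 17, 19, 23, 29, 31, 37, 41, 43, 47, 53, 59, 61, 67, 71, 73, 79, 83, 89, 97, 101, 103, 107, 109, 113] : List ℕ), p.Prime := by
  intro p hp
  fin_cases hp <;> norm_num

theorem TP_mem : TP.all (fun p => ([11, 13, 17, 19, 23, 29, 31, 37, 41, 43, 47, 53, 59, 61, 67, 71, 73, 79, 83, 89, 97, 101, 103, 107, 109, 113] : List ℕ).contains p) = true := by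
  decide +kernel

theorem UB_le (m : ℕ) (h1 : 20 ≤ m) (h2 : m < 128) :
    UB m (dmin m) ≤ (TU.getD (m - 20) 0 : ℕ) := by
  have h := List.all_eq_true.mp all_U m (List.mem_range.mpr h2)
  rw [Bool.or_eq_true] at h
  rcases h with h | h
  · have := Nat.le_of_ble_eq_true h
    omega
  · unfold checkU at h
    simp only [Bool.and_eq_true, Nat.ble_eq] at h
    obtain ⟨⟨h3, h4⟩, h5⟩ := h
    have h6 := dmin_eq m _ h3 (by omega)
    rw [h6]
    exact UB_le_of m _ _ (by omega) h5

theorem IB_le (m b : ℕ) (h1 : 20 ≤ m) (h2 : m < 128) (hb : 2 ≤ b) (hb2 : 2 * b ≤ m - 1)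
    (hb3 : b ∣ m - 1) : ∃ c : ℕ, 1 ≤ c ∧ IB m b c ≤ (TI.getD (m - 20) 0 : ℕ) := by
  have h := List.all_eq_true.mp all_I m (List.mem_range.mpr h2)
  rw [Bool.or_eq_true] at h
  rcases h with h | h
  · have := Nat.le_of_ble_eq_true h
    omega
  · unfold checkI at h
    have h' := List.all_eq_true.mp h b (List.mem_range.mpr (by omega))
    simp only [Bool.or_eq_true, Nat.ble_eq, Bool.not_eq_true', beq_eq_false_iff_ne, ne_eq] at h'
    rcases h' with (((h3 | h3) | h3) | h3) | h3
    · omega
    · omega
    · exact absurd (Nat.mod_eq_zero_of_dvd hb3) h3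
    · exact ⟨1, le_rfl, IB_le_of m b 1 _ (by omega) le_rfl h3⟩
    · exact ⟨2, by norm_num, IB_le_of m b 2 _ (by omega) (by norm_num) h3⟩

/-- (N1a) -/
theorem good_a (n j : ℕ) (hn : 22 ≤ n) (hn' : n < 128) (hj : 1 ≤ j) (hjn : j ≤ n)
    (hK : Kcond n j) : Good n j := by
  have h := List.all_eq_true.mp all_N n (List.mem_range.mpr hn')
  rw [Bool.or_eq_true] at h
  rcases h with h | h
  · have := Nat.le_of_ble_eq_true h
    omega
  unfold checkN at h
  simp only [Bool.and_eq_true, Bool.or_eq_true, Nat.ble_eq, beq_iff_eq] at h
  obtain ⟨⟨⟨⟨h1, h2⟩, h3⟩, h4⟩, h5⟩ := h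
  set p := TP.getD (n - 22) 0 with hp
  set q := TQ.getD (n - 22) 0 with hq
  have hpp : p.Prime := by
    apply primes_list
    have h6 : p ∈ TP := by
      rw [hp, List.getD_eq_getElem?_getD]
      rcases lt_or_ge (n - 22) TP.length with hlt | hge
      · rw [List.getElem?_eq_getElem hlt]
        exact List.getElem_mem hlt
      · exfalso
        have : p = 0 := by
          rw [hp, List.getD_eq_getElem?_getD, List.getElem?_eq_none hge]
          rfl
        omega
    have h7 := List.all_eq_true.mp TP_mem p h6
    simpa using h7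
  have hjq : j + q * p ≤ n := hK p q hpp h1 h2 h3 (by omega)
  have h8 := List.all_eq_true.mp h5 j (List.mem_range.mpr (by omega))
  simp only [Bool.and_eq_true, Bool.or_eq_true, Nat.ble_eq, beq_iff_eq] at h8
  rcases h8 with h8 | ⟨⟨h9, h10⟩, h11⟩
  · omega
  constructor
  · have hU := UB_le (n - j + 1) h9 (by omega)
    rw [fall_eq] at h10
    calc ((n.descFactorial (j - 1) : ℕ) : ℝ) * UB (n - j + 1) (dmin (n - j + 1))
        ≤ ((n.descFactorial (j - 1) : ℕ) : ℝ) * ((TU.getD (n - j + 1 - 20) 0 : ℕ) : ℝ) :=
          mul_le_mul_of_nonneg_left hU (Nat.cast_nonneg _)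
      _ ≤ 4 ^ n := by exact_mod_cast h10
  · intro hj2 b hb hb2 hb3
    rcases h11 with h11 | h11
    · omega
    · obtain ⟨c, hc, hI⟩ := IB_le (n - j + 2) b (by omega) (by omega) hb
        (by omega) (by rw [show n - j + 2 - 1 = n - j + 1 by omega]; exact hb3)
      refine ⟨c, hc, ?_⟩
      rw [fall_eq] at h11
      calc ((n.descFactorial (j - 2) : ℕ) : ℝ) * IB (n - j + 2) b c
          ≤ ((n.descFactorial (j - 2) : ℕ) : ℝ) * ((TI.getD (n - j + 2 - 20) 0 : ℕ) : ℝ) :=
            mul_le_mul_of_nonneg_left hI (Nat.cast_nonneg _)
        _ ≤ 4 ^ n := by exact_mod_cast h11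

end Cfsg.Agent.PermutationGroups.OrderBound.NumSmallA
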