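import Mathlib
import Cfsg.Agent.PermutationGroups.OrderBound.Defs
import Cfsg.Agent.PermutationGroups.OrderBound.NumLarge

/-!
# Order bound for primitive groups (S0725): numerics, fixed point computation in the kernel

`chkU`, `chkI` are certified fixed point evaluations of `UB` and `IB` (with `c = 2`) for a block
of degrees; `good_block` turns a pair of lists of such blocks into `Good n j` for all `n` in
`[q p + 3, N]`.
-/

set_option autoImplicit false

namespace Cfsg.Agent.PermutationGroups.OrderBound.NumSmallB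

open Cfsg.Agent.PermutationGroups.OrderBound.Defs
open Cfsg.Agent.PermutationGroups.OrderBound.NumLarge (vseq_nonneg vseq_step)

/-- the scale of the fixed point numbers -/
abbrev K : ℕ := 4294967296

/-- the loop: `x` bounds `K * v t`, `a` bounds `K * ∏_{i < t} (1 + v i)`. -/
def run (num den : ℕ → ℕ) : ℕ → ℕ → ℕ → ℕ → ℕ × ℕ
  | 0, _, x, a => (x, a)
  | f + 1, t, x, a => run num den f (t + 1) (x * num t / den t + 1) (a * (K + x) / K + 1)

theorem div_bound (x y : ℕ) (hy : 0 < y) : (x : ℝ) / y ≤ ((x / y + 1 : ℕ) : ℝ) := by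
  have hy' : (0 : ℝ) < y := by exact_mod_cast hy
  rw [div_le_iff₀ hy']
  have h := Nat.lt_mul_div_succ x hy
  have h2 : x ≤ (x / y + 1) * y := by rw [mul_comm]; exact h.le
  exact_mod_cast h2

theorem run_sound (v : ℕ → ℝ) (hv : ∀ t, 0 ≤ v t) (num den : ℕ → ℕ) :
    ∀ (f t x a : ℕ), v t ≤ (x : ℝ) / K → ∏ i ∈ Finset.range t, (1 + v i) ≤ (a : ℝ) / K →
      (∀ i, i < t + f → 0 < den i ∧ v (i + 1) ≤ v i * ((num i : ℝ) / den i)) →
      v (t + f) ≤ ((run num den f t x a).1 : ℝ) / K ∧
        ∏ i ∈ Finset.range (t + f), (1 + v i) ≤ ((run num den f t x a).2 : ℝ) / K := by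
  intro f
  induction f with
  | zero =>
    intro t x a hx ha _
    exact ⟨hx, ha⟩
  | succ f ih =>
    intro t x a hx ha hs
    have hK : (0 : ℝ) < (K : ℝ) := by norm_num
    have h1 := hs t (by omega)
    have e : t + (f + 1) = (t + 1) + f := by omega
    rw [e]
    refine ih (t + 1) _ _ ?_ ?_ (fun i hi => hs i (by omega))
    · refine h1.2.trans ?_
      have hden : (0 : ℝ) < den t := by exact_mod_cast h1.1
      rw [le_div_iff₀ hK]
      calc v t * ((num t : ℝ) / den t) * K ≤ (x : ℝ) / K * ((num t : ℝ) / den t) * K := by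
            gcongr
        _ = ((x * num t : ℕ) : ℝ) / den t := by
            push_cast
            field_simp
        _ ≤ _ := div_bound _ _ h1.1
    · rw [Finset.prod_range_succ, le_div_iff₀ hK]
      have hP : 0 ≤ ∏ i ∈ Finset.range t, (1 + v i) :=
        Finset.prod_nonneg (fun i _ => by have := hv i; linarith)
      calc (∏ i ∈ Finset.range t, (1 + v i)) * (1 + v t) * K
          ≤ ((a : ℝ) / K) * (1 + (x : ℝ) / K) * K := by
            have := hv t
            gcongr
        _ = ((a * (K + x) : ℕ) : ℝ) / ((K : ℕ) : ℝ) := by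
            push_cast
            field_simp
        _ ≤ _ := div_bound _ _ (by norm_num)

theorem prod_le_three (v : ℕ → ℝ) (hv : ∀ t, 0 ≤ v t) (hanti : ∀ t, v (t + 1) ≤ v t)
    (M B T : ℕ) (hMB : M ≤ B) (hB : 0 < B) (hT : v T * B ≤ 1) :
    ∏ t ∈ Finset.range M, (1 + v t) ≤ (∏ t ∈ Finset.range T, (1 + v t)) * 3 := by
  have hB' : (0 : ℝ) < B := by exact_mod_cast hB
  have h1 : ∏ t ∈ Finset.range M, (1 + v t) ≤ ∏ t ∈ Finset.range (T + M), (1 + v t) := by
    rw [add_comm T M, Finset.prod_range_add]
    have h2 : (1 : ℝ) ≤ ∏ s ∈ Finset.range T, (1 + v (M + s)) := by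
      calc (1 : ℝ) = ∏ s ∈ Finset.range T, (1 : ℝ) := by rw [Finset.prod_const_one]
        _ ≤ _ := by
          apply Finset.prod_le_prod
          · intro i _; exact zero_le_one
          · intro i _; have := hv (M + i); linarith
    have h3 : 0 ≤ ∏ t ∈ Finset.range M, (1 + v t) :=
      Finset.prod_nonneg (fun i _ => by have := hv i; linarith)
    exact le_mul_of_one_le_right h3 h2
  refine h1.trans ?_
  rw [Finset.prod_range_add]
  have hP : 0 ≤ ∏ i ∈ Finset.range T, (1 + v i) :=
    Finset.prod_nonneg (fun i _ => by have := hv i; linarith)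
  refine mul_le_mul_of_nonneg_left ?_ hP
  have hTs : ∀ s, v (T + s) ≤ 1 / (B : ℝ) := by
    intro s
    induction s with
    | zero => rw [le_div_iff₀ hB']; exact hT
    | succ s ih => exact (hanti (T + s)).trans ih
  calc ∏ s ∈ Finset.range M, (1 + v (T + s)) ≤ ∏ s ∈ Finset.range M, (1 + 1 / (B : ℝ)) := by
        apply Finset.prod_le_prod
        · intro i _; have := hv (T + i); linarith
        · intro i _; have := hTs i; linarith
    _ = (1 + 1 / (B : ℝ)) ^ M := by rw [Finset.prod_const, Finset.card_range]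
    _ ≤ (1 + 1 / (B : ℝ)) ^ B := by
        apply pow_le_pow_right₀ _ hMB
        have : 0 ≤ 1 / (B : ℝ) := by positivity
        linarith
    _ ≤ (Real.exp (1 / (B : ℝ))) ^ B := by
        apply pow_le_pow_left₀ (by positivity)
        have := Real.add_one_le_exp (1 / (B : ℝ))
        linarith
    _ = Real.exp 1 := by
        rw [← Real.exp_nat_mul]
        congr 1
        field_simp
    _ ≤ 3 := by
        have := Real.exp_one_lt_d9
        linarith

/-- the factorial factor -/
theorem desc_le (n m N lo : ℕ) (hlo : lo ≤ m) (hmn : m ≤ n) (hnN : n ≤ N) (hn : 3 ≤ n) :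
    n.descFactorial (n - m) * 4 ^ (N - n) ≤ N.descFactorial (N - lo) := by
  have h1 : (n - (n - m)).factorial * n.descFactorial (n - m) = n.factorial :=
    Nat.factorial_mul_descFactorial (by omega)
  have h2 : (N - (N - lo)).factorial * N.descFactorial (N - lo) = N.factorial :=
    Nat.factorial_mul_descFactorial (by omega)
  have e1 : n - (n - m) = m := by omega
  have e2 : N - (N - lo) = lo := by omega
  rw [e1] at h1
  rw [e2] at h2
  have h3 : n.factorial * (n + 1) ^ (N - n) ≤ (n + (N - n)).factorial :=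
    Nat.factorial_mul_pow_le_factorial
  have e3 : n + (N - n) = N := by omega
  rw [e3] at h3
  have h4 : (4 : ℕ) ^ (N - n) ≤ (n + 1) ^ (N - n) := Nat.pow_le_pow_left (by omega) _
  have h5 : lo.factorial ≤ m.factorial := Nat.factorial_le hlo
  have h6 : m.factorial * (n.descFactorial (n - m) * 4 ^ (N - n)) ≤
      m.factorial * N.descFactorial (N - lo) := by
    calc m.factorial * (n.descFactorial (n - m) * 4 ^ (N - n))
        = n.factorial * 4 ^ (N - n) := by rw [← h1]; ring
      _ ≤ n.factorial * (n + 1) ^ (N - n) := Nat.mul_le_mul_left _ h4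
      _ ≤ N.factorial := h3
      _ = lo.factorial * N.descFactorial (N - lo) := h2.symm
      _ ≤ m.factorial * N.descFactorial (N - lo) := Nat.mul_le_mul_right _ h5
  exact Nat.le_of_mul_le_mul_left h6 (Nat.factorial_pos m)

theorem desc_final (n m N lo : ℕ) (hlo : lo ≤ m) (hmn : m ≤ n) (hnN : n ≤ N) (hn : 3 ≤ n)
    (Q : ℝ) (hQ : 0 ≤ Q) (h : (N.descFactorial (N - lo) : ℝ) * Q ≤ 4 ^ N) :
    (n.descFactorial (n - m) : ℝ) * Q ≤ 4 ^ n := by
  have h1 := desc_le n m N lo hlo hmn hnN hn
  have h2 : (n.descFactorial (n - m) : ℝ) * 4 ^ (N - n) ≤ (N.descFactorial (N - lo) : ℝ) := by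
    exact_mod_cast h1
  have h3 : (4 : ℝ) ^ N = 4 ^ n * 4 ^ (N - n) := by
    rw [← pow_add]; congr 1; omega
  have h4 : ((n.descFactorial (n - m) : ℝ) * Q) * 4 ^ (N - n) ≤ 4 ^ n * 4 ^ (N - n) := by
    calc ((n.descFactorial (n - m) : ℝ) * Q) * 4 ^ (N - n)
        = ((n.descFactorial (n - m) : ℝ) * 4 ^ (N - n)) * Q := by ring
      _ ≤ (N.descFactorial (N - lo) : ℝ) * Q := mul_le_mul_of_nonneg_right h2 hQ
      _ ≤ 4 ^ N := h
      _ = _ := h3
  exact le_of_mul_le_mul_right h4 (by positivity)

/-! ### The uniprimitive bound -/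

def chkU (lo hi N d T : ℕ) : Bool :=
  let r := run (fun t => hi - t - d) (fun t => hi - t - 1) T 0 ((hi - 1) * K) K
  decide (1 ≤ lo) && decide (T < hi) && decide ((2 * d - 3) ^ 2 ≤ 4 * lo - 4) && decide (2 ≤ d) &&
    decide (r.1 * hi ≤ K) && decide (N.descFactorial (N - lo) * r.2 * 3 ≤ 4 ^ N * K)

theorem chkU_sound (lo hi N d T m : ℕ) (h : chkU lo hi N d T = true) (h1 : lo ≤ m)
    (h2 : m ≤ hi) : (N.descFactorial (N - lo) : ℝ) * UB m (dmin m) ≤ 4 ^ N := by
  rw [chkU] at h
  simp only [Bool.and_eq_true, decide_eq_true_eq] at h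
  obtain ⟨⟨⟨⟨⟨hlo, hT⟩, hd⟩, hd2⟩, hr1⟩, hr2⟩ := h
  have hm1 : 1 ≤ m := hlo.trans h1
  have hdm : d ≤ dmin m := by
    have h3 : 2 * d - 3 ≤ Nat.sqrt (4 * m - 4) := by
      rw [Nat.le_sqrt, ← sq]
      exact hd.trans (by omega)
    have hdef : dmin m = (Nat.sqrt (4 * m - 4) + 3) / 2 := rfl
    omega
  have hK : (0 : ℝ) < (K : ℝ) := by norm_num
  set A : ℕ → ℝ := fun t => ((m - t - dmin m : ℕ) : ℝ) with hAdef
  set v := vseq m ((m : ℝ) - 1) A with hvdef
  have hm1' : (1 : ℝ) ≤ m := by exact_mod_cast hm1
  have h0 : (0 : ℝ) ≤ (m : ℝ) - 1 := by linarith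
  have hA : ∀ t, 0 ≤ A t := fun t => Nat.cast_nonneg _
  have hv : ∀ t, 0 ≤ v t := vseq_nonneg h0 hA
  have hanti : ∀ t, v (t + 1) ≤ v t := by
    intro t
    have := vseq_step (n := m) h0 hA t 1 zero_le_one (by
      rw [one_mul]
      show ((m - t - dmin m : ℕ) : ℝ) ≤ ((m - t - 1 : ℕ) : ℝ)
      have : m - t - dmin m ≤ m - t - 1 := by omega
      exact_mod_cast this)
    rw [one_mul] at this
    exact this
  have hs : ∀ i, i < 0 + T → 0 < hi - i - 1 ∧
      v (i + 1) ≤ v i * (((hi - i - d : ℕ) : ℝ) / ((hi - i - 1 : ℕ) : ℝ)) := by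
    intro i hi'
    have hpos : 0 < hi - i - 1 := by omega
    refine ⟨hpos, ?_⟩
    have hpos' : (0 : ℝ) < ((hi - i - 1 : ℕ) : ℝ) := by exact_mod_cast hpos
    have := vseq_step (n := m) h0 hA i (((hi - i - d : ℕ) : ℝ) / ((hi - i - 1 : ℕ) : ℝ))
      (by positivity) (by
        show ((m - i - dmin m : ℕ) : ℝ) ≤ _
        rw [div_mul_eq_mul_div, le_div_iff₀ hpos']
        have hnat : (m - i - dmin m) * (hi - i - 1) ≤ (hi - i - d) * (m - i - 1) := by
          rcases Nat.lt_or_ge (m - i) (dmin m) with h | h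
          · rw [Nat.sub_eq_zero_of_le h.le, zero_mul]; exact Nat.zero_le _
          · obtain ⟨u, hu⟩ : ∃ u, m - i = dmin m + u := ⟨m - i - dmin m, by omega⟩
            obtain ⟨e, he⟩ : ∃ e, dmin m = d + e := ⟨dmin m - d, by omega⟩
            obtain ⟨D, hD⟩ : ∃ D, hi = m + D := ⟨hi - m, by omega⟩
            obtain ⟨d', hd'⟩ : ∃ d', d = d' + 1 := ⟨d - 1, by omega⟩
            have e1 : m - i - dmin m = u := by omega
            have e2 : hi - i - 1 = d' + e + u + D := by omega
            have e3 : hi - i - d = u + D + e := by omega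
            have e4 : m - i - 1 = d' + e + u := by omega
            rw [e1, e2, e3, e4]
            nlinarith [Nat.zero_le (D * d'), Nat.zero_le (D * e), Nat.zero_le (e * d'),
              Nat.zero_le (e * u), Nat.zero_le (e * e)]
        exact_mod_cast hnat)
    rw [mul_comm] at this
    exact this
  have hrun := run_sound v hv (fun t => hi - t - d) (fun t => hi - t - 1) T 0 ((hi - 1) * K) K
    (by
      rw [le_div_iff₀ hK]
      have hv0 : v 0 = (m : ℝ) - 1 := rfl
      rw [hv0]
      have h3 : m - 1 ≤ hi - 1 := by omega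
      have h4 : ((m - 1 : ℕ) : ℝ) ≤ ((hi - 1 : ℕ) : ℝ) := by exact_mod_cast h3
      rw [Nat.cast_sub hm1, Nat.cast_one] at h4
      rw [Nat.cast_mul]
      exact mul_le_mul_of_nonneg_right h4 hK.le)
    (by
      rw [Finset.prod_range_zero, div_self hK.ne']) hs
  rw [zero_add] at hrun
  set r := run (fun t => hi - t - d) (fun t => hi - t - 1) T 0 ((hi - 1) * K) K with hrdef
  have hhi : 0 < hi := by omega
  have hvT : v T * hi ≤ 1 := by
    have h3 : ((r.1 * hi : ℕ) : ℝ) ≤ ((K : ℕ) : ℝ) := by exact_mod_cast hr1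
    calc v T * hi ≤ ((r.1 : ℝ) / K) * hi := by
          have := hrun.1
          gcongr
      _ = ((r.1 * hi : ℕ) : ℝ) / K := by push_cast; ring
      _ ≤ 1 := by rw [div_le_one hK]; exact h3
  have hprod := prod_le_three v hv hanti m hi T h2 hhi hvT
  have hUB : UB m (dmin m) = ∏ t ∈ Finset.range m, (1 + v t) := rfl
  rw [hUB]
  have h5 : ∏ t ∈ Finset.range m, (1 + v t) ≤ ((r.2 : ℝ) / K) * 3 :=
    hprod.trans (mul_le_mul_of_nonneg_right hrun.2 (by norm_num))
  calc (N.descFactorial (N - lo) : ℝ) * ∏ t ∈ Finset.range m, (1 + v t)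
      ≤ (N.descFactorial (N - lo) : ℝ) * (((r.2 : ℝ) / K) * 3) :=
        mul_le_mul_of_nonneg_left h5 (Nat.cast_nonneg _)
    _ = ((N.descFactorial (N - lo) * r.2 * 3 : ℕ) : ℝ) / K := by push_cast; ring
    _ ≤ ((4 ^ N * K : ℕ) : ℝ) / K := by
        apply div_le_div_of_nonneg_right _ hK.le
        exact_mod_cast hr2
    _ = 4 ^ N := by
        push_cast
        field_simp

/-! ### The imprimitive bound, `c = 2` -/

def chkI (lo hi N T : ℕ) : Bool :=
  let r := run (fun t => max (12 * (hi + 1 - t) - 8 * (t + 3)) (9 * (hi + 1) - 21 - 12 * t))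
    (fun t => 12 * (hi - t)) T 0 (2 * hi * K) K
  decide (1 ≤ lo) && decide (T < hi) &&
    decide (r.1 * (hi + 1) ≤ K) && decide (N.descFactorial (N - (lo + 1)) * r.2 * 3 ≤ 4 ^ N * K)

theorem chkI_sound (lo hi N T m b : ℕ) (h : chkI lo hi N T = true) (h1 : lo ≤ m)
    (h2 : m ≤ hi) (hb : 2 ≤ b) (hbm : 2 * b ≤ m) :
    (N.descFactorial (N - (lo + 1)) : ℝ) * IB (m + 1) b 2 ≤ 4 ^ N := by
  rw [chkI] at h
  simp only [Bool.and_eq_true, decide_eq_true_eq] at h
  obtain ⟨⟨⟨hlo, hT⟩, hr1⟩, hr2⟩ := h
  have hm1 : 1 ≤ m := hlo.trans h1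
  have hK : (0 : ℝ) < (K : ℝ) := by norm_num
  set A : ℕ → ℝ := AI (m + 1) b 2 with hAdef
  set v0 : ℝ := ((2 : ℕ) : ℝ) * (((m + 1 : ℕ) : ℝ) - 1) with hv0def
  set v := vseq (m + 1) v0 A with hvdef
  have hv0' : v0 = 2 * (m : ℝ) := by rw [hv0def]; push_cast; ring
  have h0 : (0 : ℝ) ≤ v0 := by rw [hv0']; positivity
  have hA : ∀ t, (0 : ℝ) ≤ A t := by
    intro t
    rw [hAdef, AI]
    split_ifs with ht
    · exact le_max_of_le_left (Nat.cast_nonneg _)
    · exact Nat.cast_nonneg _
  have hv : ∀ t, 0 ≤ v t := vseq_nonneg h0 hA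
  -- bound on the step factor
  have hAle : ∀ t, 12 * A t ≤
      ((max (12 * (m + 1 - t) - 8 * (t + 3)) (9 * (m + 1) - 21 - 12 * t) : ℕ) : ℝ) := by
    intro t
    have hfirst : 12 * ((m + 1 - t - max (2 * b) (t + 3 - b) : ℕ) : ℝ) ≤
        ((max (12 * (m + 1 - t) - 8 * (t + 3)) (9 * (m + 1) - 21 - 12 * t) : ℕ) : ℝ) := by
      have hnat : 12 * (m + 1 - t - max (2 * b) (t + 3 - b)) ≤
          max (12 * (m + 1 - t) - 8 * (t + 3)) (9 * (m + 1) - 21 - 12 * t) := by
        refine le_trans ?_ (le_max_left _ _)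
        have := le_max_left (2 * b) (t + 3 - b)
        have := le_max_right (2 * b) (t + 3 - b)
        omega
      exact_mod_cast hnat
    rw [hAdef, AI]
    split_ifs with ht
    · rw [mul_max_of_nonneg _ _ (by norm_num : (0 : ℝ) ≤ 12)]
      apply max_le hfirst
      have hnat : 12 * (b - 1 - t) + 6 * (m + 1 - 1 - b) ≤
          max (12 * (m + 1 - t) - 8 * (t + 3)) (9 * (m + 1) - 21 - 12 * t) := by
        refine le_trans ?_ (le_max_right _ _)
        omega
      have hreal : 12 * ((b - 1 - t : ℕ) : ℝ) + 6 * ((m + 1 - 1 - b : ℕ) : ℝ) ≤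
          ((max (12 * (m + 1 - t) - 8 * (t + 3)) (9 * (m + 1) - 21 - 12 * t) : ℕ) : ℝ) := by
        exact_mod_cast hnat
      refine le_trans (le_of_eq ?_) hreal
      push_cast
      ring
    · exact hfirst
  have hanti : ∀ t, v (t + 1) ≤ v t := by
    intro t
    have := vseq_step (n := m + 1) h0 hA t 1 zero_le_one (by
      have h3 := hAle t
      have h4 : max (12 * (m + 1 - t) - 8 * (t + 3)) (9 * (m + 1) - 21 - 12 * t) ≤
          12 * (m + 1 - t - 1) := by
        apply max_le <;> omega
      have h5 : ((max (12 * (m + 1 - t) - 8 * (t + 3)) (9 * (m + 1) - 21 - 12 * t) : ℕ) : ℝ) ≤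
          12 * ((m + 1 - t - 1 : ℕ) : ℝ) := by exact_mod_cast h4
      linarith)
    rw [one_mul] at this
    exact this
  have hs : ∀ i, i < 0 + T → 0 < 12 * (hi - i) ∧
      v (i + 1) ≤ v i * (((max (12 * (hi + 1 - i) - 8 * (i + 3)) (9 * (hi + 1) - 21 - 12 * i) : ℕ)
        : ℝ) / ((12 * (hi - i) : ℕ) : ℝ)) := by
    intro i hi'
    have hpos : 0 < 12 * (hi - i) := by omega
    refine ⟨hpos, ?_⟩
    have hpos' : (0 : ℝ) < ((12 * (hi - i) : ℕ) : ℝ) := by exact_mod_cast hpos
    have hpos2 : (0 : ℝ) < ((hi - i : ℕ) : ℝ) := by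
      have : 0 < hi - i := by omega
      exact_mod_cast this
    have := vseq_step (n := m + 1) h0 hA i
      (((max (12 * (hi + 1 - i) - 8 * (i + 3)) (9 * (hi + 1) - 21 - 12 * i) : ℕ)
        : ℝ) / ((12 * (hi - i) : ℕ) : ℝ))
      (by positivity) (by
        rw [div_mul_eq_mul_div, le_div_iff₀ hpos']
        have hnat : max (12 * (m + 1 - i) - 8 * (i + 3)) (9 * (m + 1) - 21 - 12 * i) * (hi - i) ≤
            max (12 * (hi + 1 - i) - 8 * (i + 3)) (9 * (hi + 1) - 21 - 12 * i) * (m + 1 - i - 1)
            := by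
          rcases Nat.lt_or_ge i m with him | him
          · obtain ⟨D, hD⟩ : ∃ D, hi = m + D := ⟨hi - m, by omega⟩
            obtain ⟨k, hk⟩ : ∃ k, m = i + k := ⟨m - i, by omega⟩
            have e1 : hi - i = k + D := by omega
            have e2 : m + 1 - i - 1 = k := by omega
            rw [e1, e2]
            rcases Nat.le_total (12 * (m + 1 - i) - 8 * (i + 3)) (9 * (m + 1) - 21 - 12 * i)
              with hle | hle
            · rw [max_eq_right hle]
              refine le_trans ?_ (Nat.mul_le_mul_right _ (le_max_right _ _))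
              rcases Nat.lt_or_ge (9 * (m + 1)) (21 + 12 * i) with hc | hc
              · have : 9 * (m + 1) - 21 - 12 * i = 0 := by omega
                rw [this, zero_mul]; exact Nat.zero_le _
              · obtain ⟨w, hw⟩ : ∃ w, 9 * (m + 1) = 21 + 12 * i + w :=
                  ⟨9 * (m + 1) - (21 + 12 * i), by omega⟩
                have e3 : 9 * (m + 1) - 21 - 12 * i = w := by omega
                have e4 : 9 * (hi + 1) - 21 - 12 * i = w + 9 * D := by omega
                rw [e3, e4]
                -- w (k + D) ≤ (w + 9 D) k ; w ≤ 9 k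
                have hw2 : w ≤ 9 * k := by omega
                have : w * D ≤ 9 * k * D := Nat.mul_le_mul_right _ hw2
                nlinarith
            · rw [max_eq_left hle]
              refine le_trans ?_ (Nat.mul_le_mul_right _ (le_max_left _ _))
              rcases Nat.lt_or_ge (12 * (m + 1 - i)) (8 * (i + 3)) with hc | hc
              · have : 12 * (m + 1 - i) - 8 * (i + 3) = 0 := by omega
                rw [this, zero_mul]; exact Nat.zero_le _
              · obtain ⟨w, hw⟩ : ∃ w, 12 * (m + 1 - i) = 8 * (i + 3) + w :=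
                  ⟨12 * (m + 1 - i) - 8 * (i + 3), by omega⟩
                have e3 : 12 * (m + 1 - i) - 8 * (i + 3) = w := by omega
                have e4 : 12 * (hi + 1 - i) - 8 * (i + 3) = w + 12 * D := by omega
                rw [e3, e4]
                have hw2 : w ≤ 12 * k := by omega
                have : w * D ≤ 12 * k * D := Nat.mul_le_mul_right _ hw2
                nlinarith
          · -- `m ≤ i`
            have e5 : m + 1 - i - 1 = 0 := by omega
            have e6 : max (12 * (m + 1 - i) - 8 * (i + 3)) (9 * (m + 1) - 21 - 12 * i) = 0 := by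
              rw [Nat.max_eq_zero_iff]
              omega
            rw [e5, e6]
            simp
        have hreal : ((max (12 * (m + 1 - i) - 8 * (i + 3)) (9 * (m + 1) - 21 - 12 * i) : ℕ) : ℝ) *
            ((hi - i : ℕ) : ℝ) ≤
            ((max (12 * (hi + 1 - i) - 8 * (i + 3)) (9 * (hi + 1) - 21 - 12 * i) : ℕ) : ℝ) *
              ((m + 1 - i - 1 : ℕ) : ℝ) := by exact_mod_cast hnat
        have h3 := hAle i
        calc A i * ((12 * (hi - i) : ℕ) : ℝ) = (12 * A i) * ((hi - i : ℕ) : ℝ) := by
              push_cast; ring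
          _ ≤ ((max (12 * (m + 1 - i) - 8 * (i + 3)) (9 * (m + 1) - 21 - 12 * i) : ℕ) : ℝ) *
            ((hi - i : ℕ) : ℝ) := mul_le_mul_of_nonneg_right h3 hpos2.le
          _ ≤ _ := hreal)
    rw [mul_comm] at this
    exact this
  have hrun := run_sound v hv
    (fun t => max (12 * (hi + 1 - t) - 8 * (t + 3)) (9 * (hi + 1) - 21 - 12 * t))
    (fun t => 12 * (hi - t)) T 0 (2 * hi * K) K
    (by
      rw [le_div_iff₀ hK]
      have hv00 : v 0 = v0 := rfl
      rw [hv00, hv0']
      have h4 : (m : ℝ) ≤ (hi : ℝ) := by exact_mod_cast h2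
      rw [Nat.cast_mul, Nat.cast_mul, Nat.cast_ofNat]
      have : 2 * (m : ℝ) ≤ 2 * (hi : ℝ) := by linarith
      exact mul_le_mul_of_nonneg_right this hK.le)
    (by
      rw [Finset.prod_range_zero, div_self hK.ne']) hs
  rw [zero_add] at hrun
  set r := run (fun t => max (12 * (hi + 1 - t) - 8 * (t + 3)) (9 * (hi + 1) - 21 - 12 * t))
    (fun t => 12 * (hi - t)) T 0 (2 * hi * K) K with hrdef
  have hvT : v T * ((hi + 1 : ℕ) : ℝ) ≤ 1 := by
    have h3 : ((r.1 * (hi + 1) : ℕ) : ℝ) ≤ ((K : ℕ) : ℝ) := by exact_mod_cast hr1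
    calc v T * ((hi + 1 : ℕ) : ℝ) ≤ ((r.1 : ℝ) / K) * ((hi + 1 : ℕ) : ℝ) := by
          have := hrun.1
          gcongr
      _ = ((r.1 * (hi + 1) : ℕ) : ℝ) / K := by push_cast; ring
      _ ≤ 1 := by rw [div_le_one hK]; exact h3
  have hprod := prod_le_three v hv hanti (m + 1) (hi + 1) T (by omega) (by omega) hvT
  have hIB : IB (m + 1) b 2 = ∏ t ∈ Finset.range (m + 1), (1 + v t) := rfl
  rw [hIB]
  have h5 : ∏ t ∈ Finset.range (m + 1), (1 + v t) ≤ ((r.2 : ℝ) / K) * 3 :=
    hprod.trans (mul_le_mul_of_nonneg_right hrun.2 (by norm_num))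
  calc (N.descFactorial (N - (lo + 1)) : ℝ) * ∏ t ∈ Finset.range (m + 1), (1 + v t)
      ≤ (N.descFactorial (N - (lo + 1)) : ℝ) * (((r.2 : ℝ) / K) * 3) :=
        mul_le_mul_of_nonneg_left h5 (Nat.cast_nonneg _)
    _ = ((N.descFactorial (N - (lo + 1)) * r.2 * 3 : ℕ) : ℝ) / K := by push_cast; ring
    _ ≤ ((4 ^ N * K : ℕ) : ℝ) / K := by
        apply div_le_div_of_nonneg_right _ hK.le
        exact_mod_cast hr2
    _ = 4 ^ N := by
        push_cast
        field_simp

/-! ### Blocks -/

def allU (N : ℕ) : ℕ → List (ℕ × ℕ × ℕ) → Bool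
  | lo, [] => decide (N < lo)
  | lo, x :: l => chkU lo x.1 N x.2.1 x.2.2 && allU N (x.1 + 1) l

def allI (N : ℕ) : ℕ → List (ℕ × ℕ) → Bool
  | lo, [] => decide (N < lo)
  | lo, x :: l => chkI lo x.1 N x.2 && allI N (x.1 + 1) l

theorem allU_sound (N : ℕ) (l : List (ℕ × ℕ × ℕ)) : ∀ lo, allU N lo l = true →
    ∀ m, lo ≤ m → m ≤ N → ∃ lo', lo' ≤ m ∧
      (N.descFactorial (N - lo') : ℝ) * UB m (dmin m) ≤ 4 ^ N := by
  induction l with
  | nil =>
    intro lo h m h1 h2
    simp only [allU, decide_eq_true_eq] at h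
    omega
  | cons x l ih =>
    intro lo h m h1 h2
    simp only [allU, Bool.and_eq_true] at h
    rcases Nat.lt_or_ge x.1 m with hm | hm
    · exact ih (x.1 + 1) h.2 m hm h2
    · exact ⟨lo, h1, chkU_sound lo x.1 N x.2.1 x.2.2 m h.1 h1 hm⟩

theorem allI_sound (N : ℕ) (l : List (ℕ × ℕ)) : ∀ lo, allI N lo l = true →
    ∀ m b, lo ≤ m → m ≤ N → 2 ≤ b → 2 * b ≤ m → ∃ lo', lo' ≤ m ∧
      (N.descFactorial (N - (lo' + 1)) : ℝ) * IB (m + 1) b 2 ≤ 4 ^ N := by
  induction l with
  | nil =>
    intro lo h m b h1 h2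
    simp only [allI, decide_eq_true_eq] at h
    omega
  | cons x l ih =>
    intro lo h m b h1 h2 hb hbm
    simp only [allI, Bool.and_eq_true] at h
    rcases Nat.lt_or_ge x.1 m with hm | hm
    · exact ih (x.1 + 1) h.2 m b hm h2 hb hbm
    · exact ⟨lo, h1, chkI_sound lo x.1 N x.2 m b h.1 h1 hm hb hbm⟩

theorem UB_nonneg (m d : ℕ) (hm : 1 ≤ m) : 0 ≤ UB m d := by
  rw [UB]
  apply Finset.prod_nonneg
  intro t _
  have h0 : (0 : ℝ) ≤ (m : ℝ) - 1 := by
    have : (1 : ℝ) ≤ m := by exact_mod_cast hm
    linarith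
  have := vseq_nonneg (n := m) (A := fun t => ((m - t - d : ℕ) : ℝ)) h0
    (fun t => Nat.cast_nonneg _) t
  linarith

theorem IB_nonneg (m b c : ℕ) (hm : 1 ≤ m) : 0 ≤ IB m b c := by
  rw [IB]
  apply Finset.prod_nonneg
  intro t _
  have h0 : (0 : ℝ) ≤ (c : ℝ) * ((m : ℝ) - 1) := by
    have : (1 : ℝ) ≤ m := by exact_mod_cast hm
    have h1 : (0 : ℝ) ≤ (m : ℝ) - 1 := by linarith
    positivity
  have := vseq_nonneg (n := m) (A := AI m b c) h0
    (fun t => by
      rw [AI]
      split_ifs with ht
      · exact le_max_of_le_left (Nat.cast_nonneg _)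
      · exact Nat.cast_nonneg _) t
  linarith

/-- The main lemma: a pair of lists of certified blocks gives `Good n j` for `q p + 3 ≤ n ≤ N`. -/
theorem good_block (q p N : ℕ) (us : List (ℕ × ℕ × ℕ)) (is : List (ℕ × ℕ)) (hp : p.Prime)
    (h5 : 5 ≤ p) (hq : q = 1 ∨ q = 2) (hN : N < (q + 1) * p)
    (hU : allU N (q * p + 1) us = true) (hI : allI N (q * p + 1) is = true)
    (n j : ℕ) (hn : q * p + 3 ≤ n) (hn' : n ≤ N) (hj : 1 ≤ j) (hjn : j ≤ n) (hK : Kcond n j) :
    Good n j := by
  have hkey := hK p q hp h5 hq hn (by omega)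
  set m := n - j + 1 with hm
  have hm1 : q * p + 1 ≤ m := by omega
  refine ⟨?_, ?_⟩
  · obtain ⟨lo, hlo, h⟩ := allU_sound N us _ hU m hm1 (by omega)
    have e : j - 1 = n - m := by omega
    rw [e]
    exact desc_final n m N lo hlo (by omega) hn' (by omega) _ (UB_nonneg _ _ (by omega)) h
  · intro hj2 b hb hb2 _
    refine ⟨2, by norm_num, ?_⟩
    obtain ⟨lo, hlo, h⟩ := allI_sound N is _ hI m b hm1 (by omega) hb hb2
    have e : j - 2 = n - (m + 1) := by omega
    have e2 : n - j + 2 = m + 1 := by omega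
    rw [e, e2]
    exact desc_final n (m + 1) N (lo + 1) (by omega) (by omega) hn' (by omega) _
      (IB_nonneg _ _ _ (by omega)) h

set_option maxRecDepth 100000 in
/-- `Good n j` for `128 ≤ n < 1024`. -/
theorem good_b (n j : ℕ) (hn : 128 ≤ n) (hn' : n < 1024) (hj : 1 ≤ j) (hjn : j ≤ n)
    (hK : Kcond n j) : Good n j := by
  rcases Nat.lt_or_ge 129 n with h | h; swap
  · exact good_block 2 61 129 [(129, 12, 73)]
      [(127, 50), (129, 50)] (by norm_num) (by norm_num) (by norm_num) (by norm_num)
      (by decide +kernel) (by decide +kernel) n j (by omega) (by omega) hj hjn hK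
  clear hn; have hn := h; clear h
  rcases Nat.lt_or_ge 133 n with h | h; swap
  · exact good_block 1 127 133 [(133, 12, 75)]
      [(133, 51)] (by norm_num) (by norm_num) (by norm_num) (by norm_num)
      (by decide +kernel) (by decide +kernel) n j (by omega) (by omega) hj hjn hK
  clear hn; have hn := h; clear h
  rcases Nat.lt_or_ge 139 n with h | h; swap
  · exact good_block 1 131 139 [(139, 12, 79)]
      [(136, 52), (139, 53)] (by norm_num) (by norm_num) (by norm_num) (by norm_num)
      (by decide +kernel) (by decide +kernel) n j (by omega) (by omega) hj hjn hK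
  clear hn; have hn := h; clear h
  rcases Nat.lt_or_ge 144 n with h | h; swap
  · exact good_block 1 137 144 [(144, 13, 78)]
      [(144, 54)] (by norm_num) (by norm_num) (by norm_num) (by norm_num)
      (by decide +kernel) (by decide +kernel) n j (by omega) (by omega) hj hjn hK
  clear hn; have hn := h; clear h
  rcases Nat.lt_or_ge 151 n with h | h; swap
  · exact good_block 2 71 151 [(151, 13, 82)]
      [(147, 55), (151, 56)] (by norm_num) (by norm_num) (by norm_num) (by norm_num)
      (by decide +kernel) (by decide +kernel) n j (by omega) (by omega) hj hjn hK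
  clear hn; have hn := h; clear h
  rcases Nat.lt_or_ge 159 n with h | h; swap
  · exact good_block 1 149 159 [(159, 13, 87)]
      [(153, 56), (159, 58)] (by norm_num) (by norm_num) (by norm_num) (by norm_num)
      (by decide +kernel) (by decide +kernel) n j (by omega) (by omega) hj hjn hK
  clear hn; have hn := h; clear h
  rcases Nat.lt_or_ge 168 n with h | h; swap
  · exact good_block 1 157 168 [(168, 14, 88)]
      [(161, 58), (168, 60)] (by norm_num) (by norm_num) (by norm_num) (by norm_num)
      (by decide +kernel) (by decide +kernel) n j (by omega) (by omega) hj hjn hK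
  clear hn; have hn := h; clear h
  rcases Nat.lt_or_ge 175 n with h | h; swap
  · exact good_block 2 83 175 [(175, 14, 92)]
      [(175, 62)] (by norm_num) (by norm_num) (by norm_num) (by norm_num)
      (by decide +kernel) (by decide +kernel) n j (by omega) (by omega) hj hjn hK
  clear hn; have hn := h; clear h
  rcases Nat.lt_or_ge 183 n with h | h; swap
  · exact good_block 1 173 183 [(183, 14, 97)]
      [(183, 64)] (by norm_num) (by norm_num) (by norm_num) (by norm_num)
      (by decide +kernel) (by decide +kernel) n j (by omega) (by omega) hj hjn hK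
  clear hn; have hn := h; clear h
  rcases Nat.lt_or_ge 195 n with h | h; swap
  · exact good_block 1 181 195 [(195, 14, 105)]
      [(183, 64), (195, 67)] (by norm_num) (by norm_num) (by norm_num) (by norm_num)
      (by decide +kernel) (by decide +kernel) n j (by omega) (by omega) hj hjn hK
  clear hn; have hn := h; clear h
  rcases Nat.lt_or_ge 208 n with h | h; swap
  · exact good_block 1 193 208 [(208, 15, 107)]
      [(197, 67), (208, 69)] (by norm_num) (by norm_num) (by norm_num) (by norm_num)
      (by decide +kernel) (by decide +kernel) n j (by omega) (by omega) hj hjn hK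
  clear hn; have hn := h; clear h
  rcases Nat.lt_or_ge 220 n with h | h; swap
  · exact good_block 2 103 220 [(220, 15, 115)]
      [(220, 72)] (by norm_num) (by norm_num) (by norm_num) (by norm_num)
      (by decide +kernel) (by decide +kernel) n j (by omega) (by omega) hj hjn hK
  clear hn; have hn := h; clear h
  rcases Nat.lt_or_ge 235 n with h | h; swap
  · exact good_block 2 109 235 [(235, 16, 118)]
      [(226, 73), (235, 75)] (by norm_num) (by norm_num) (by norm_num) (by norm_num)
      (by decide +kernel) (by decide +kernel) n j (by omega) (by omega) hj hjn hK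
  clear hn; have hn := h; clear h
  rcases Nat.lt_or_ge 243 n with h | h; swap
  · exact good_block 1 233 243 [(243, 16, 122)]
      [(243, 77)] (by norm_num) (by norm_num) (by norm_num) (by norm_num)
      (by decide +kernel) (by decide +kernel) n j (by omega) (by omega) hj hjn hK
  clear hn; have hn := h; clear h
  rcases Nat.lt_or_ge 259 n with h | h; swap
  · exact good_block 1 241 259 [(259, 17, 126)]
      [(258, 80), (259, 80)] (by norm_num) (by norm_num) (by norm_num) (by norm_num)
      (by decide +kernel) (by decide +kernel) n j (by omega) (by omega) hj hjn hK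
  clear hn; have hn := h; clear h
  rcases Nat.lt_or_ge 279 n with h | h; swap
  · exact good_block 1 257 279 [(279, 17, 137)]
      [(263, 81), (279, 84)] (by norm_num) (by norm_num) (by norm_num) (by norm_num)
      (by decide +kernel) (by decide +kernel) n j (by omega) (by omega) hj hjn hK
  clear hn; have hn := h; clear h
  rcases Nat.lt_or_ge 300 n with h | h; swap
  · exact good_block 1 277 300 [(300, 18, 143)]
      [(291, 87), (300, 89)] (by norm_num) (by norm_num) (by norm_num) (by norm_num)
      (by decide +kernel) (by decide +kernel) n j (by omega) (by omega) hj hjn hK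
  clear hn; have hn := h; clear h
  rcases Nat.lt_or_ge 319 n with h | h; swap
  · exact good_block 2 149 319 [(319, 18, 153)]
      [(319, 92)] (by norm_num) (by norm_num) (by norm_num) (by norm_num)
      (by decide +kernel) (by decide +kernel) n j (by omega) (by omega) hj hjn hK
  clear hn; have hn := h; clear h
  rcases Nat.lt_or_ge 339 n with h | h; swap
  · exact good_block 1 317 339 [(339, 19, 157)]
      [(339, 96)] (by norm_num) (by norm_num) (by norm_num) (by norm_num)
      (by decide +kernel) (by decide +kernel) n j (by omega) (by omega) hj hjn hK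
  clear hn; have hn := h; clear h
  rcases Nat.lt_or_ge 364 n with h | h; swap
  · exact good_block 1 337 364 [(364, 19, 171)]
      [(364, 100)] (by norm_num) (by norm_num) (by norm_num) (by norm_num)
      (by decide +kernel) (by decide +kernel) n j (by omega) (by omega) hj hjn hK
  clear hn; have hn := h; clear h
  rcases Nat.lt_or_ge 391 n with h | h; swap
  · exact good_block 2 181 391 [(391, 20, 178)]
      [(391, 105)] (by norm_num) (by norm_num) (by norm_num) (by norm_num)
      (by decide +kernel) (by decide +kernel) n j (by omega) (by omega) hj hjn hK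
  clear hn; have hn := h; clear h
  rcases Nat.lt_or_ge 424 n with h | h; swap
  · exact good_block 1 389 424 [(424, 21, 188)]
      [(416, 109), (424, 111)] (by norm_num) (by norm_num) (by norm_num) (by norm_num)
      (by decide +kernel) (by decide +kernel) n j (by omega) (by omega) hj hjn hK
  clear hn; have hn := h; clear h
  rcases Nat.lt_or_ge 460 n with h | h; swap
  · exact good_block 2 211 460 [(460, 22, 199)]
      [(458, 116), (460, 117)] (by norm_num) (by norm_num) (by norm_num) (by norm_num)
      (by decide +kernel) (by decide +kernel) n j (by omega) (by omega) hj hjn hK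
  clear hn; have hn := h; clear h
  rcases Nat.lt_or_ge 493 n with h | h; swap
  · exact good_block 2 229 493 [(493, 22, 215)]
      [(493, 122)] (by norm_num) (by norm_num) (by norm_num) (by norm_num)
      (by decide +kernel) (by decide +kernel) n j (by omega) (by omega) hj hjn hK
  clear hn; have hn := h; clear h
  rcases Nat.lt_or_ge 528 n with h | h; swap
  · exact good_block 1 491 528 [(528, 23, 225)]
      [(528, 127)] (by norm_num) (by norm_num) (by norm_num) (by norm_num)
      (by decide +kernel) (by decide +kernel) n j (by omega) (by omega) hj hjn hK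
  clear hn; have hn := h; clear h
  rcases Nat.lt_or_ge 573 n with h | h; swap
  · exact good_block 2 263 573 [(573, 24, 238)]
      [(573, 134)] (by norm_num) (by norm_num) (by norm_num) (by norm_num)
      (by decide +kernel) (by decide +kernel) n j (by omega) (by omega) hj hjn hK
  clear hn; have hn := h; clear h
  rcases Nat.lt_or_ge 624 n with h | h; swap
  · exact good_block 1 571 624 [(624, 25, 254)]
      [(624, 141)] (by norm_num) (by norm_num) (by norm_num) (by norm_num)
      (by decide +kernel) (by decide +kernel) n j (by omega) (by omega) hj hjn hK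
  clear hn; have hn := h; clear h
  rcases Nat.lt_or_ge 679 n with h | h; swap
  · exact good_block 2 311 679 [(679, 26, 271)]
      [(679, 149)] (by norm_num) (by norm_num) (by norm_num) (by norm_num)
      (by decide +kernel) (by decide +kernel) n j (by omega) (by omega) hj hjn hK
  clear hn; have hn := h; clear h
  rcases Nat.lt_or_ge 745 n with h | h; swap
  · exact good_block 1 677 745 [(732, 27, 286), (745, 28, 284)]
      [(745, 158)] (by norm_num) (by norm_num) (by norm_num) (by norm_num)
      (by decide +kernel) (by decide +kernel) n j (by omega) (by omega) hj hjn hK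
  clear hn; have hn := h; clear h
  rcases Nat.lt_or_ge 813 n with h | h; swap
  · exact good_block 1 743 813 [(813, 28, 313)]
      [(813, 167)] (by norm_num) (by norm_num) (by norm_num) (by norm_num)
      (by decide +kernel) (by decide +kernel) n j (by omega) (by omega) hj hjn hK
  clear hn; have hn := h; clear h
  rcases Nat.lt_or_ge 889 n with h | h; swap
  · exact good_block 1 811 889 [(889, 29, 337)]
      [(889, 176)] (by norm_num) (by norm_num) (by norm_num) (by norm_num)
      (by decide +kernel) (by decide +kernel) n j (by omega) (by omega) hj hjn hK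
  clear hn; have hn := h; clear h
  rcases Nat.lt_or_ge 979 n with h | h; swap
  · exact good_block 1 887 979 [(960, 31, 347), (979, 32, 346)]
      [(979, 187)] (by norm_num) (by norm_num) (by norm_num) (by norm_num)
      (by decide +kernel) (by decide +kernel) n j (by omega) (by omega) hj hjn hK
  clear hn; have hn := h; clear h
  exact good_block 1 977 1071 [(1071, 32, 383)]
    [(1071, 197)] (by norm_num) (by norm_num) (by norm_num) (by norm_num)
    (by decide +kernel) (by decide +kernel) n j (by omega) (by omega) hj hjn hK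

end Cfsg.Agent.PermutationGroups.OrderBound.NumSmallB
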