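import Mathlib
import Cfsg.Agent.PermutationGroups.PSTransOne

/-!
# Praeger–Saxl, part (K1), in the form used by the assembly of S0725
-/

set_option autoImplicit false

namespace Cfsg.Agent.PermutationGroups.OrderBound.PrimeTrans

open MulAction

/-- A primitive group of degree `n`, `q p + 3 ≤ n < (q + 1) p`, `p ≥ 5` prime, `q ≤ 2`, which is
`(n - q p + 1)`-transitive contains the alternating group. -/
theorem prime_trans {α : Type*} [Fintype α] [DecidableEq α] (G : Subgroup (Equiv.Perm α))
    (hprim : IsPreprimitive G α) (p q : ℕ) (hp : p.Prime) (hp5 : 5 ≤ p) (hq : q = 1 ∨ q = 2)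
    (h3 : q * p + 3 ≤ Fintype.card α) (hlt : Fintype.card α < (q + 1) * p)
    (htr : IsMultiplyPretransitive G α (Fintype.card α - q * p + 1)) :
    alternatingGroup α ≤ G := by
  refine PSTransOne.alternating_le_of_prime G (p := p) (q := q) (f := Fintype.card α - q * p)
    hp hp5 hq ?_ ?_ htr
  · omega
  · omega

end Cfsg.Agent.PermutationGroups.OrderBound.PrimeTrans
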