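import Mathlib
import Cfsg.Agent.PermutationGroups.OrderBound.Defs
import Cfsg.Agent.PermutationGroups.OrderBound.Potential
import Cfsg.Agent.PermutationGroups.OrderBound.Disting

set_option autoImplicit false

namespace Cfsg.Agent.PermutationGroups.OrderBound.Uniprim

open Cfsg.Agent.PermutationGroups.OrderBound.Defs MulAction

/-- `dmin m` is minimal with `m - 1 ≤ d (d - 1)`. -/
theorem dmin_le (m D : ℕ) (h : m - 1 ≤ D * (D - 1)) (hD : 1 ≤ D) : dmin m ≤ D := by
  unfold dmin
  have h1 : Nat.sqrt (4 * m - 4) < 2 * D - 1 := by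
    rw [Nat.sqrt_lt']
    obtain ⟨E, rfl⟩ : ∃ E, D = E + 1 := ⟨D - 1, by omega⟩
    have h2 : 2 * (E + 1) - 1 = 2 * E + 1 := by omega
    rw [h2]
    have h3 : 4 * m - 4 ≤ 4 * ((E + 1) * E) := by
      have : E + 1 - 1 = E := by omega
      rw [this] at h
      omega
    nlinarith
  omega

open Classical in
/-- The set of pairs which are not distinguished by `T`. -/
noncomputable def W (G : Type*) {X : Type*} [Group G] [MulAction G X] [Fintype X] (T : Finset X) :
    Finset (X × X) :=
  Finset.univ.filter (fun p : X × X => p.1 ≠ p.2 ∧ ∀ z ∈ T, z ∉ disting G p.1 p.2)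

theorem card_le_of_disting {G X : Type*} [Group G] [MulAction G X] [FaithfulSMul G X]
    [Fintype X] (d : ℕ) (hd : ∀ x y : X, x ≠ y → d ≤ (disting G x y).ncard)
    (hne : 0 < Fintype.card X) :
    (Nat.card G : ℝ) ≤ UB (Fintype.card X) d := by
  classical
  have hmem : ∀ (T : Finset X) (p : X × X), p ∈ W G T ↔
      p.1 ≠ p.2 ∧ ∀ z ∈ T, z ∉ disting G p.1 p.2 := by
    intro T p
    unfold W
    simp
  have h0 : ((W G (∅ : Finset X)).card : ℝ) / Fintype.card X = (Fintype.card X : ℝ) - 1 := by
    have : W G (∅ : Finset X) = (Finset.univ : Finset X).offDiag := by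
      ext p
      rw [hmem]
      simp
    rw [this, Finset.offDiag_card, Finset.card_univ, Nat.cast_sub (Nat.le_mul_self _)]
    push_cast
    field_simp
  have key := Potential.card_le_prod (G := G) (X := X) (fun T => ((W G T).card : ℝ))
    (fun t => ((Fintype.card X - t - d : ℕ) : ℝ)) (fun t => Nat.cast_nonneg _) ?_ ?_
  · rw [h0] at key
    exact key
  · intro T
    rw [Nat.card_eq_fintype_card, Fintype.card_subtype]
    exact_mod_cast Finset.card_le_card (by
      intro p hp
      rw [Finset.mem_filter] at hp
      obtain ⟨-, h1, -, -, g, hg, hgp⟩ := hp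
      rw [hmem]
      refine ⟨h1, fun z hz hzd => hzd ⟨g, ?_, hgp⟩⟩
      exact (mem_fixingSubgroup_iff G).1 hg z (by simpa using hz))
  · intro T
    have h1 : ∀ z ∈ Tᶜ, (W G (insert z T)).card
        = ∑ p ∈ W G T, if z ∉ disting G p.1 p.2 then 1 else 0 := by
      intro z _
      rw [← Finset.card_filter]
      congr 1
      ext p
      rw [Finset.mem_filter, hmem, hmem]
      simp only [Finset.mem_insert, forall_eq_or_imp]
      tauto
    have h2 : ∑ z ∈ Tᶜ, (W G (insert z T)).card ≤ (Fintype.card X - T.card - d) * (W G T).card := by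
      rw [Finset.sum_congr rfl h1, Finset.sum_comm, mul_comm, ← smul_eq_mul]
      apply Finset.sum_le_card_nsmul
      intro p hp
      rw [hmem] at hp
      rw [← Finset.card_filter]
      have h3 := hd p.1 p.2 hp.1
      have h4 : (disting G p.1 p.2).ncard = (Finset.univ.filter (fun z => z ∈ disting G p.1 p.2)).card := by
        rw [Set.ncard_eq_toFinset_card' (disting G p.1 p.2)]
        congr 1
        ext z
        simp
      have h5 : (Tᶜ.filter (fun z => z ∉ disting G p.1 p.2))
          = (T ∪ Finset.univ.filter (fun z => z ∈ disting G p.1 p.2))ᶜ := by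
        ext z
        simp
      have h6 : Disjoint T (Finset.univ.filter (fun z => z ∈ disting G p.1 p.2)) := by
        rw [Finset.disjoint_left]
        intro z hz hz2
        rw [Finset.mem_filter] at hz2
        exact hp.2 z hz hz2.2
      rw [h5, Finset.card_compl, Finset.card_union_of_disjoint h6]
      omega
    exact_mod_cast h2

/-- (U) the bound for primitive groups which are not 2-transitive. -/
theorem card_le_UB {G X : Type*} [Group G] [MulAction G X] [FaithfulSMul G X]
    [Fintype X] (hprim : IsPreprimitive G X) (h2 : ¬ IsMultiplyPretransitive G X 2) :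
    (Nat.card G : ℝ) ≤ UB (Fintype.card X) (dmin (Fintype.card X)) := by
  classical
  have hne : 2 ≤ Fintype.card X := by
    by_contra hlt
    apply h2
    have : IsEmpty (Fin 2 ↪ X) := by
      rw [← not_nonempty_iff, Function.Embedding.nonempty_iff_card_le]
      simpa using hlt
    exact ⟨fun a => (this.false a).elim⟩
  apply card_le_of_disting _ _ (by omega)
  intro x y hxy
  have h := Disting.disting_bound hprim h2 hxy
  rw [Nat.card_eq_fintype_card] at h
  apply dmin_le _ _ h
  by_contra hlt
  have : (disting G x y).ncard = 0 := by omega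
  rw [this] at h
  omega

end Cfsg.Agent.PermutationGroups.OrderBound.Uniprim
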