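import Mathlib
import Cfsg.Agent.PermutationGroups.OrderBound.Defs
import Cfsg.Agent.PermutationGroups.OrderBound.Uniprim
import Cfsg.Agent.PermutationGroups.OrderBound.ImprimStab

set_option autoImplicit false

namespace Cfsg.Agent.PermutationGroups.OrderBound.Structure

open Cfsg.Agent.PermutationGroups.OrderBound.Defs MulAction

/-- The degree is large if the action is not `k`-transitive. -/
theorem le_card_of_not {G X : Type*} [Group G] [MulAction G X] [Fintype X] {k : ℕ}
    (h : ¬ IsMultiplyPretransitive G X k) : k ≤ Fintype.card X := by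
  by_contra hlt
  apply h
  have : IsEmpty (Fin k ↪ X) := by
    rw [← not_nonempty_iff, Function.Embedding.nonempty_iff_card_le]
    simpa using hlt
  exact ⟨fun a => (this.false a).elim⟩

theorem faithful_ofStabilizer {G X : Type*} [Group G] [MulAction G X] [FaithfulSMul G X] (a : X) :
    FaithfulSMul (stabilizer G a) (SubMulAction.ofStabilizer G a) := by
  constructor
  intro g h hgh
  apply Subtype.ext
  apply FaithfulSMul.eq_of_smul_eq_smul (α := X)
  intro x
  by_cases hx : x = a
  · subst hx
    rw [mem_stabilizer_iff.1 g.2, mem_stabilizer_iff.1 h.2]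
  · have := congrArg Subtype.val (hgh ⟨x, (SubMulAction.mem_ofStabilizer_iff G a).2 hx⟩)
    exact this

theorem structure_aux (j : ℕ) : ∀ {G X : Type*} [Group G] [MulAction G X] [FaithfulSMul G X]
    [Fintype X], IsPreprimitive G X → 
    IsMultiplyPretransitive G X (j + 1) → ¬ IsMultiplyPretransitive G X (j + 2) →
    (Nat.card G : ℝ) ≤ ((Fintype.card X).descFactorial j : ℝ) *
        UB (Fintype.card X - (j + 1) + 1) (dmin (Fintype.card X - (j + 1) + 1)) ∨
    (2 ≤ j + 1 ∧ ∃ b, 2 ≤ b ∧ 2 * b ≤ Fintype.card X - (j + 1) + 1 ∧
      b ∣ Fintype.card X - (j + 1) + 1 ∧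
      ∀ c : ℕ, 1 ≤ c → (Nat.card G : ℝ) ≤ ((Fintype.card X).descFactorial (j - 1) : ℝ) *
        IB (Fintype.card X - (j + 1) + 2) b c) := by
  induction j with
  | zero =>
    intro G X _ _ _ _ hprim hj hj'
    left
    have hc := le_card_of_not hj'
    have := Uniprim.card_le_UB hprim (by simpa using hj')
    rw [Nat.descFactorial_zero, Nat.cast_one, one_mul]
    have h1 : Fintype.card X - (0 + 1) + 1 = Fintype.card X := by omega
    rw [h1]
    exact this
  | succ j ih =>
    intro G X _ _ _ _ hprim hj hj'
    have hc := le_card_of_not hj'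
    have hne : Nonempty X := by
      rw [← Fintype.card_pos_iff]; omega
    obtain ⟨a⟩ := hne
    have hpre : IsPretransitive G X := hprim.toIsPretransitive
    have hfaith := faithful_ofStabilizer (G := G) a
    let _ : Fintype (SubMulAction.ofStabilizer G a) := Fintype.ofFinite _
    have hcard : Fintype.card (SubMulAction.ofStabilizer G a) = Fintype.card X - 1 := by
      rw [← Nat.card_eq_fintype_card, ← Nat.card_eq_fintype_card]
      exact SubMulAction.nat_card_ofStabilizer_eq G a
    have hjH : IsMultiplyPretransitive (stabilizer G a) (SubMulAction.ofStabilizer G a) (j + 1) :=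
      (SubMulAction.ofStabilizer.isMultiplyPretransitive (a := a)).1 hj
    have hjH' : ¬ IsMultiplyPretransitive (stabilizer G a) (SubMulAction.ofStabilizer G a) (j + 2) :=
      fun h => hj' ((SubMulAction.ofStabilizer.isMultiplyPretransitive (a := a)).2 h)
    have hG : Nat.card G = Fintype.card X * Nat.card (stabilizer G a) := by
      have h1 := Subgroup.card_mul_index (stabilizer G a)
      rw [index_stabilizer_of_transitive, Nat.card_eq_fintype_card (α := X)] at h1
      rw [← h1, mul_comm]
    have hdesc : ∀ i, (Fintype.card X).descFactorial (i + 1)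
        = Fintype.card X * (Fintype.card X - 1).descFactorial i := by
      intro i
      obtain ⟨m, hm⟩ : ∃ m, Fintype.card X = m + 1 := ⟨Fintype.card X - 1, by omega⟩
      rw [hm, Nat.succ_descFactorial_succ]
      rfl
    by_cases hprimH : IsPreprimitive (stabilizer G a) (SubMulAction.ofStabilizer G a)
    · rcases ih hprimH hjH hjH' with h | ⟨h2, b, hb, hb2, hb3, hall⟩
      · left
        rw [hcard] at h
        rw [hG, hdesc, Nat.cast_mul, Nat.cast_mul, mul_assoc]
        have h1 : Fintype.card X - (j + 1 + 1) + 1 = Fintype.card X - 1 - (j + 1) + 1 := by omega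
        rw [h1]
        exact mul_le_mul_of_nonneg_left h (Nat.cast_nonneg _)
      · right
        rw [hcard] at hb2 hb3
        refine ⟨by omega, b, hb, by omega, ?_, ?_⟩
        · have h1 : Fintype.card X - (j + 1 + 1) + 1 = Fintype.card X - 1 - (j + 1) + 1 := by omega
          rw [h1]; exact hb3
        · intro c hcc
          have h := hall c hcc
          rw [hcard] at h
          have h1 : Fintype.card X - (j + 1 + 1) + 2 = Fintype.card X - 1 - (j + 1) + 2 := by omega
          have h3 : j + 1 - 1 = (j - 1) + 1 := by omega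
          rw [hG, h3, hdesc, Nat.cast_mul, Nat.cast_mul, mul_assoc, h1]
          exact mul_le_mul_of_nonneg_left h (Nat.cast_nonneg _)
    · -- imprimitive stabilizer: then j = 0
      have hj0 : j = 0 := by
        by_contra hne
        apply hprimH
        apply isPreprimitive_of_is_two_pretransitive
        apply isMultiplyPretransitive_of_le (n := j + 1) (by omega)
        rw [Nat.card_eq_fintype_card, hcard]; omega
      subst hj0
      right
      obtain ⟨b, hb, hb2, hb3, hall⟩ := ImprimStab.card_le_IB (G := G) (X := X) hj (by omega) a hprimH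
      refine ⟨by omega, b, hb, by omega, ?_, ?_⟩
      · have h1 : Fintype.card X - (0 + 1 + 1) + 1 = Fintype.card X - 1 := by omega
        rw [h1]; exact hb3
      · intro c hcc
        have h := hall c hcc
        have h1 : Fintype.card X - (0 + 1 + 1) + 2 = Fintype.card X := by omega
        rw [h1, Nat.descFactorial_zero, Nat.cast_one, one_mul]
        exact h

/-- (R) The order bound in terms of the exact degree of transitivity. -/
theorem structure_bound {G X : Type*} [Group G] [MulAction G X] [FaithfulSMul G X]
    [Fintype X] (hprim : IsPreprimitive G X) (j : ℕ) (hj1 : 1 ≤ j)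
    (hj : IsMultiplyPretransitive G X j) (hj' : ¬ IsMultiplyPretransitive G X (j + 1)) :
    (Nat.card G : ℝ) ≤ ((Fintype.card X).descFactorial (j - 1) : ℝ) *
        UB (Fintype.card X - j + 1) (dmin (Fintype.card X - j + 1)) ∨
    (2 ≤ j ∧ ∃ b, 2 ≤ b ∧ 2 * b ≤ Fintype.card X - j + 1 ∧ b ∣ Fintype.card X - j + 1 ∧
      ∀ c : ℕ, 1 ≤ c → (Nat.card G : ℝ) ≤ ((Fintype.card X).descFactorial (j - 2) : ℝ) *
        IB (Fintype.card X - j + 2) b c) := by
  obtain ⟨i, rfl⟩ : ∃ i, j = i + 1 := ⟨j - 1, by omega⟩
  exact structure_aux i hprim hj hj'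

end Cfsg.Agent.PermutationGroups.OrderBound.Structure
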